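import Mathlib
import Cfsg.Prelude.Def_Transfer
import Cfsg.Agent.Lib.Helper33.Conj
import Cfsg.Agent.Lib.Helper77.LemT

/-!
# BG 11.5, piece (P3): the orbit lemma for lines of `C_p × C_p`
-/

set_option autoImplicit false

namespace Cfsg.Agent.Lib.Helper71.BG115

/-- a subgroup of a group of order `p ^ 2` containing two different subgroups of order `p`
is everything -/
theorem eq_of_two_lines {G : Type*} [Group G] {p : ℕ} [Fact p.Prime] {A C Z A₀ : Subgroup G}
    (hcard : Nat.card A = p ^ 2) (hCA : C ≤ A) (hZC : Z ≤ C) (hA₀C : A₀ ≤ C)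
    (hZ : Nat.card Z = p) (hA₀ : Nat.card A₀ = p) (hne : A₀ ≠ Z) : C = A := by
  have hp : p.Prime := Fact.out
  have : Finite A := Nat.finite_of_card_ne_zero (by rw [hcard]; exact (pow_pos hp.pos 2).ne')
  have : Finite C := Finite.of_injective (Subgroup.inclusion hCA) (Subgroup.inclusion_injective hCA)
  have hdvd : Nat.card C ∣ p ^ 2 := hcard ▸ Subgroup.card_dvd_of_le hCA
  obtain ⟨i, hi, hCi⟩ := (Nat.dvd_prime_pow hp).mp hdvd
  have hZle : Nat.card Z ≤ Nat.card C := Subgroup.card_le_of_le hZC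
  have hi1 : i = 0 ∨ i = 1 ∨ i = 2 := by omega
  rcases hi1 with rfl | rfl | rfl
  · rw [hCi, hZ, pow_zero] at hZle
    exact absurd hZle (by have := hp.one_lt; omega)
  · exfalso
    have h1 : Z = C := Subgroup.eq_of_le_of_card_ge hZC (by rw [hCi, hZ, pow_one])
    have h2 : A₀ = C := Subgroup.eq_of_le_of_card_ge hA₀C (by rw [hCi, hA₀, pow_one])
    exact hne (h2.trans h1.symm)
  · exact Subgroup.eq_of_le_of_card_ge hCA (by rw [hCi, hcard])

/-- an element centralizing two different lines of `A` centralizes `A` -/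
theorem centralizes_of_two_lines {G : Type*} [Group G] {p : ℕ} [Fact p.Prime]
    {A Z A₀ : Subgroup G} (hcard : Nat.card A = p ^ 2) (hZA : Z ≤ A) (hA₀A : A₀ ≤ A)
    (hZ : Nat.card Z = p) (hA₀ : Nat.card A₀ = p) (hne : A₀ ≠ Z) {u : G}
    (huZ : ∀ x ∈ Z, u * x = x * u) (huA₀ : ∀ x ∈ A₀, u * x = x * u) :
    ∀ x ∈ A, u * x = x * u := by
  have hC : A ⊓ Subgroup.centralizer ({u} : Set G) = A := by
    refine eq_of_two_lines hcard inf_le_left ?_ ?_ hZ hA₀ hne
    · intro x hx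
      refine ⟨hZA hx, ?_⟩
      show x ∈ Subgroup.centralizer ({u} : Set G)
      rw [Subgroup.mem_centralizer_iff]
      rintro h rfl
      exact huZ x hx
    · intro x hx
      refine ⟨hA₀A hx, ?_⟩
      show x ∈ Subgroup.centralizer ({u} : Set G)
      rw [Subgroup.mem_centralizer_iff]
      rintro h rfl
      exact huA₀ x hx
  intro x hx
  rw [← hC] at hx
  exact (Subgroup.mem_centralizer_iff.mp hx.2) u rfl

/-- (P3) the orbit lemma: a `p`-element normalizing `A ≅ C_p × C_p`, centralizing the line `Z`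
but not `A`, is transitive on the lines of `A` other than `Z` -/
theorem orbit_lines {G : Type*} [Group G] {p : ℕ} [Fact p.Prime] {A Z A₀ : Subgroup G}
    (hA : Cfsg.IsElementaryAbelian p A) (hcard : Nat.card A = p ^ 2) (hZA : Z ≤ A)
    (hZ : Nat.card Z = p) (hA₀A : A₀ ≤ A) (hA₀ : Nat.card A₀ = p) (hne : A₀ ≠ Z) {u : G}
    (huA : u ∈ Subgroup.normalizer (A : Set G)) (hup : ∃ k : ℕ, u ^ p ^ k = 1)
    (huZ : u ∈ Subgroup.centralizer (Z : Set G)) (hunc : u ∉ Subgroup.centralizer (A : Set G))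
    {X : Subgroup G} (hXA : X ≤ A) (hX : Nat.card X = p) (hXZ : X ≠ Z) :
    ∃ k : ℕ, X = Cfsg.Agent.Lib.Helper33.cj (u ^ k) A₀ := by
  have hp : p.Prime := Fact.out
  have hAc : ∀ a ∈ A, ∀ b ∈ A, a * b = b * a := by
    intro a ha b hb
    have := hA.1.is_comm.comm ⟨a, ha⟩ ⟨b, hb⟩
    exact congrArg Subtype.val this
  have huZ' : ∀ x ∈ Z, u * x = x * u := fun x hx =>
    ((Subgroup.mem_centralizer_iff.mp huZ) x hx).symm
  have hyA : ∀ a ∈ A, u * a * u⁻¹ ∈ A := fun a ha => (Subgroup.mem_normalizer_iff.mp huA a).mp ha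
  obtain ⟨z, hzZ, hz1⟩ : ∃ z ∈ Z, z ≠ 1 := by
    rcases Subgroup.bot_or_exists_ne_one Z with h | h
    · rw [h, Subgroup.card_bot] at hZ
      exact absurd hZ.symm hp.one_lt.ne'
    · exact h
  have hnc : ∀ {Y : Subgroup G}, Y ≤ A → Nat.card Y = p → Y ≠ Z → ¬ ∀ x ∈ Y, u * x = x * u := by
    intro Y hYA hY hYZ hc
    apply hunc
    rw [Subgroup.mem_centralizer_iff]
    intro a ha
    exact (centralizes_of_two_lines hcard hZA hYA hZ hY hYZ huZ' hc a ha).symm
  obtain ⟨k, hk⟩ := Cfsg.Agent.Lib.Helper77.LemT.exists_pow_conj_eq hAc hA.2 hcard hyA hup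
    (hZA hzZ) hz1 (huZ' z hzZ) hA₀A hXA hA₀ hX (hnc hA₀A hA₀ hne) (hnc hXA hX hXZ)
  exact ⟨k, hk⟩

end Cfsg.Agent.Lib.Helper71.BG115
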