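import Cfsg.Agent.Lib.Helper50.BG115P1
import Cfsg.Agent.Lib.Helper96.BG115P2

/-!
# BG 12.9 (S1421 / S1359), piece BadB3: a normalized subgroup of order `p` in `⟨d⟩`
-/

set_option autoImplicit false

namespace Cfsg.Agent.Lib.Helper71.BadB3

open Subgroup

/-- in a finite cyclic group a subgroup is determined by its order -/
theorem cyclic_subgroup_eq_of_card_eq' {C : Type*} [Group C] [Finite C] [IsCyclic C]
    (H K : Subgroup C) (h : Nat.card H = Nat.card K) : H = K := by
  classical
  have : Fintype C := Fintype.ofFinite C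
  have key : ∀ L : Subgroup C, (L : Set C) = {g : C | g ^ Nat.card L = 1} := by
    intro L
    have hpos : 0 < Nat.card L := Nat.card_pos
    have hsub : (L : Set C) ⊆ {g : C | g ^ Nat.card L = 1} := by
      intro g hg
      have h1 : (⟨g, hg⟩ : L) ^ Nat.card L = 1 := pow_card_eq_one'
      have h2 : ((⟨g, hg⟩ : L) ^ Nat.card L : L).1 = (1 : L).1 := by rw [h1]
      rw [Subgroup.coe_pow] at h2
      exact h2
    apply Set.eq_of_subset_of_ncard_le hsub _ (Set.toFinite _)
    have h1 : Set.ncard {g : C | g ^ Nat.card L = 1} ≤ Nat.card L := by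
      have := IsCyclic.card_pow_eq_one_le (α := C) hpos
      rw [Set.ncard_eq_toFinset_card']
      convert this using 2
      ext x
      simp
    have h2 : Set.ncard (L : Set C) = Nat.card L := by
      rw [← Nat.card_coe_set_eq]; rfl
    omega
  apply SetLike.coe_injective
  rw [key H, key K, h]

/-- two subgroups of the same order inside a cyclic subgroup are equal -/
theorem eq_of_le_cyclic {G : Type*} [Group G] [Finite G] {C X X' : Subgroup G} (hC : IsCyclic C)
    (hX : X ≤ C) (hX' : X' ≤ C) (h : Nat.card X = Nat.card X') : X = X' := by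
  have e1 : Nat.card (X.subgroupOf C) = Nat.card X :=
    Nat.card_congr (Subgroup.subgroupOfEquivOfLe hX).toEquiv
  have e2 : Nat.card (X'.subgroupOf C) = Nat.card X' :=
    Nat.card_congr (Subgroup.subgroupOfEquivOfLe hX').toEquiv
  have h3 : X.subgroupOf C = X'.subgroupOf C :=
    cyclic_subgroup_eq_of_card_eq' _ _ (by rw [e1, e2, h])
  have h4 := (Subgroup.subgroupOf_inj).mp h3
  rwa [inf_eq_left.mpr hX, inf_eq_left.mpr hX'] at h4

/-- the core: `P` abelian `p`-group whose `p`-th powers lie in a cyclic subgroup -/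
theorem core {G : Type*} [Group G] [Finite G] {p : ℕ} [Fact p.Prime] {P C : Subgroup G}
    (hPp : IsPGroup p P) (hC : IsCyclic C)
    (hpow : ∀ y ∈ P, y ^ p ∈ C) {d : G} (hd : d ∈ P) (hdp : d ^ p ≠ 1) :
    ∃ X : Subgroup G, X ≤ Subgroup.zpowers d ∧ Nat.card X = p ∧
      ∀ u, u ∈ Subgroup.normalizer (P : Set G) → u ∈ Subgroup.normalizer (X : Set G) := by
  have hp : p.Prime := Fact.out
  -- the order of `d`
  obtain ⟨k, hk⟩ := hPp ⟨d, hd⟩
  have hk' : d ^ p ^ k = 1 := by
    have := congrArg Subtype.val hk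
    simpa using this
  obtain ⟨m, -, hm⟩ := (Nat.dvd_prime_pow hp).mp (orderOf_dvd_of_pow_eq_one hk')
  have hm2 : 2 ≤ m := by
    by_contra hlt
    apply hdp
    have : orderOf d ∣ p := by
      rw [hm]
      have : m ≤ 1 := by omega
      calc p ^ m ∣ p ^ 1 := pow_dvd_pow p this
        _ = p := pow_one p
    exact orderOf_dvd_iff_pow_eq_one.mp this
  obtain ⟨j, rfl⟩ : ∃ j, m = j + 2 := ⟨m - 2, by omega⟩
  -- the element of order `p`
  obtain ⟨d', hd'⟩ : ∃ d', d' = d ^ p ^ j := ⟨_, rfl⟩
  have hd'P : d' ∈ P := by rw [hd']; exact P.pow_mem hd _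
  obtain ⟨e, he⟩ : ∃ e, e = d' ^ p := ⟨_, rfl⟩
  have hed : e = d ^ p ^ (j + 1) := by rw [he, hd', ← pow_mul, ← pow_succ]
  have hep : e ^ p = 1 := by
    rw [hed, ← pow_mul, ← pow_succ, ← hm]
    exact pow_orderOf_eq_one d
  have he1 : e ≠ 1 := by
    rw [hed]
    apply pow_ne_one_of_lt_orderOf (pow_pos hp.pos _).ne'
    rw [hm]
    exact Nat.pow_lt_pow_right hp.one_lt (by omega)
  have hord : orderOf e = p := orderOf_eq_prime hep he1
  have hcj : ∀ u, u ∈ Subgroup.normalizer (P : Set G) → u * e * u⁻¹ ∈ C := by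
    intro u hu
    have h1 : u * d' * u⁻¹ ∈ P := (Subgroup.mem_normalizer_iff.mp hu d').mp hd'P
    have h2 := hpow _ h1
    have h3 : (u * d' * u⁻¹) ^ p = u * e * u⁻¹ := by rw [conj_pow, he]
    rwa [h3] at h2
  have heC : e ∈ C := by rw [he]; exact hpow _ hd'P
  refine ⟨Subgroup.zpowers e, ?_, ?_, ?_⟩
  · rw [Subgroup.zpowers_le, hed]
    exact Subgroup.pow_mem _ (Subgroup.mem_zpowers d) _
  · rw [Nat.card_zpowers, hord]
  · intro u hu
    have hX : Subgroup.zpowers e ≤ C := by rw [Subgroup.zpowers_le]; exact heC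
    have hX' : Subgroup.zpowers (u * e * u⁻¹) ≤ C := by
      rw [Subgroup.zpowers_le]; exact hcj u hu
    have hord' : orderOf (u * e * u⁻¹) = p := by
      have := MulEquiv.orderOf_eq (MulAut.conj u) e
      rw [MulAut.conj_apply] at this
      rw [this]
      exact hord
    have heq : Subgroup.zpowers (u * e * u⁻¹) = Subgroup.zpowers e :=
      eq_of_le_cyclic hC hX' hX (by rw [Nat.card_zpowers, Nat.card_zpowers, hord', hord])
    have hmem : ∀ h, h ∈ Subgroup.zpowers e → u * h * u⁻¹ ∈ Subgroup.zpowers e := by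
      intro h hh
      obtain ⟨i, rfl⟩ := Subgroup.mem_zpowers_iff.mp hh
      rw [← conj_zpow, ← heq]
      exact Subgroup.zpow_mem _ (Subgroup.mem_zpowers _) i
    have hmem' : ∀ h, h ∈ Subgroup.zpowers e → u⁻¹ * h * u ∈ Subgroup.zpowers e := by
      intro h hh
      rw [← heq] at hh
      obtain ⟨i, rfl⟩ := Subgroup.mem_zpowers_iff.mp hh
      have : u⁻¹ * (u * e * u⁻¹) ^ i * u = e ^ i := by
        rw [conj_zpow]; group
      rw [this]
      exact Subgroup.zpow_mem _ (Subgroup.mem_zpowers _) i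
    rw [Subgroup.mem_normalizer_iff]
    intro h
    constructor
    · exact hmem h
    · intro hh
      have := hmem' _ hh
      have e2 : u⁻¹ * (u * h * u⁻¹) * u = h := by group
      rwa [e2] at this

/-- (BadB3) a subgroup of order `p` of `⟨d⟩` normalized by `N_S(P)` -/
theorem exists_normalized_omega {G : Type*} [Group G] [Finite G] {p : ℕ} [Fact p.Prime]
    (hp2 : p ≠ 2) (S : Sylow p G) (hSna : ¬ IsMulCommutative (S : Subgroup G))
    (h1412 : Cfsg.PRankLE p 2 (S : Subgroup G) → IsMulCommutative (S : Subgroup G) ∨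
      ∃ P1 P2 : Subgroup G, P1 ⊔ P2 = (S : Subgroup G) ∧
        (∀ a ∈ P1, ∀ b ∈ P2, a * b = b * a) ∧ ¬ IsMulCommutative P1 ∧ Nat.card P1 = p ^ 3 ∧
        Monoid.exponent P1 = p ∧ IsCyclic P2 ∧
        Subgroup.closure {x : G | x ∈ P2 ∧ x ^ p = 1} = P1 ⊓ Subgroup.centralizer (P1 : Set G))
    {P A : Subgroup G} (hPS : P ≤ S) (hPab : ∀ x ∈ P, ∀ y ∈ P, x * y = y * x) (hAP : A ≤ P)
    (hA : Cfsg.IsElementaryAbelian p A) (hAcard : Nat.card A = p ^ 2)
    (hAmax : ∀ B : Subgroup G, Cfsg.IsElementaryAbelian p B → A ≤ B → B = A) {d : G}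
    (hd : d ∈ P) (hdp : d ^ p ≠ 1) :
    ∃ X : Subgroup G, X ≤ Subgroup.zpowers d ∧ Nat.card X = p ∧
      ∀ u ∈ (S : Subgroup G), u ∈ Subgroup.normalizer (P : Set G) →
        u ∈ Subgroup.normalizer (X : Set G) := by
  have hp : p.Prime := Fact.out
  have hPp : IsPGroup p P := S.isPGroup'.to_le hPS
  -- a cyclic subgroup containing all `p`-th powers of `P`
  obtain ⟨C, hC, hpow⟩ : ∃ C : Subgroup G, IsCyclic C ∧ ∀ y ∈ P, y ^ p ∈ C := by
    by_cases hr : Cfsg.PRankLE p 2 (S : Subgroup G)
    · rcases h1412 hr with hab | ⟨P1, P2, h12, hcomm, -, -, hexp, hcyc, -⟩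
      · exact absurd hab hSna
      · refine ⟨P2, hcyc, ?_⟩
        intro y hy
        have hyS : y ∈ P1 ⊔ P2 := by rw [h12]; exact hPS hy
        obtain ⟨a, ha, b, hb, rfl⟩ :=
          Cfsg.Agent.Lib.Helper96.BG115.exists_mul_of_mem_sup_of_comm hcomm hyS
        have hap : a ^ p = 1 := by
          have h1 : (⟨a, ha⟩ : P1) ^ Monoid.exponent P1 = 1 := Monoid.pow_exponent_eq_one _
          rw [hexp] at h1
          have h2 := congrArg Subtype.val h1
          simpa using h2
        have hc : Commute a b := hcomm a ha b hb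
        rw [hc.mul_pow, hap, one_mul]
        exact P2.pow_mem hb p
    · -- rank at least three
      have hAS : A ≤ (S : Subgroup G) := hAP.trans hPS
      have hE : Cfsg.IsElementaryAbelian p (A.subgroupOf (S : Subgroup G)) := by
        refine ⟨⟨⟨fun a b => ?_⟩⟩, ?_⟩
        · have h1 := hA.1.is_comm.comm ⟨((a : (S : Subgroup G)) : G), a.2⟩
            ⟨((b : (S : Subgroup G)) : G), b.2⟩
          have h2 := congrArg Subtype.val h1
          apply Subtype.ext
          apply Subtype.ext
          exact h2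
        · intro a ha
          apply Subtype.ext
          have := hA.2 (a : G) ha
          simpa using this
      have hE2 : Nat.card (A.subgroupOf (S : Subgroup G)) = p ^ 2 := by
        rw [← hAcard]
        exact Nat.card_congr (Subgroup.subgroupOfEquivOfLe hAS).toEquiv
      have hEmax : ∀ B : Subgroup (S : Subgroup G), Cfsg.IsElementaryAbelian p B →
          A.subgroupOf (S : Subgroup G) ≤ B → B = A.subgroupOf (S : Subgroup G) := by
        intro B hB hAB
        have hB' : Cfsg.IsElementaryAbelian p (B.map (S : Subgroup G).subtype) := by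
          refine ⟨⟨⟨fun a b => ?_⟩⟩, ?_⟩
          · obtain ⟨a', ha', hae⟩ := a.2
            obtain ⟨b', hb', hbe⟩ := b.2
            have h1 := hB.1.is_comm.comm ⟨a', ha'⟩ ⟨b', hb'⟩
            have h2 : a' * b' = b' * a' := congrArg Subtype.val h1
            apply Subtype.ext
            show (a : G) * (b : G) = (b : G) * (a : G)
            rw [← hae, ← hbe]
            have h3 := congrArg (S : Subgroup G).subtype h2
            simpa using h3
          · rintro _ ⟨a', ha', rfl⟩
            have := hB.2 a' ha'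
            have h3 := congrArg (S : Subgroup G).subtype this
            simpa using h3
        have hAB' : A ≤ B.map (S : Subgroup G).subtype := by
          intro a ha
          exact ⟨⟨a, hAS ha⟩, hAB (show (⟨a, hAS ha⟩ : (S : Subgroup G)) ∈
            A.subgroupOf (S : Subgroup G) from ha), rfl⟩
        have h4 := hAmax _ hB' hAB'
        have h5 : (B.map (S : Subgroup G).subtype).subgroupOf (S : Subgroup G) = B :=
          Subgroup.comap_map_eq_self_of_injective (S : Subgroup G).subtype_injective B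
        rw [← h5, h4]
      obtain ⟨x, hxE, R₁, hR₁, hxR₁, hdec⟩ :=
        Cfsg.Agent.Lib.Helper50.BG115.exists_cent_decomp p hp2 S.isPGroup' hr
          (A.subgroupOf (S : Subgroup G)) hE hE2 hEmax
      refine ⟨R₁.map (S : Subgroup G).subtype, ?_, ?_⟩
      · have hsurj : Function.Surjective
            ((S : Subgroup G).subtype.subgroupMap R₁) :=
          MonoidHom.subgroupMap_surjective _ _
        exact isCyclic_of_surjective _ hsurj
      · intro y hy
        have hxP : ((x : (S : Subgroup G)) : G) ∈ P := hAP hxE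
        have hcomm : x * (⟨y, hPS hy⟩ : (S : Subgroup G)) = ⟨y, hPS hy⟩ * x := by
          apply Subtype.ext
          exact hPab _ hxP _ hy
        obtain ⟨t, ht, k, hk⟩ := hdec _ hcomm
        have hxp : x ^ p = 1 := hE.2 x hxE
        have hc0 : Commute t x := (hxR₁ t ht).symm
        have hc : Commute t (x ^ k) := hc0.zpow_right k
        have h6 : (⟨y, hPS hy⟩ : (S : Subgroup G)) ^ p = t ^ p := by
          rw [hk, hc.mul_pow, ← zpow_natCast (x ^ k) p, ← zpow_mul, mul_comm k, zpow_mul,
            zpow_natCast, hxp, one_zpow, mul_one]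
        refine ⟨t ^ p, R₁.pow_mem ht p, ?_⟩
        rw [← h6]
        rfl
  obtain ⟨X, hX1, hX2, hX3⟩ := core hPp hC hpow hd hdp
  exact ⟨X, hX1, hX2, fun u _ hu => hX3 u hu⟩

end Cfsg.Agent.Lib.Helper71.BadB3
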