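import Cfsg.Agent.Lib.Helper34.TateDefs

set_option autoImplicit false

/-!
# Tate for fusion systems, piece T3: `S`-fixed elements of `Kgen E` kill `p`-th powers
-/

namespace Cfsg.Agent.Lib.Helper34.Tate

open Cfsg Cfsg.FusionSystem
open Cfsg.Agent.Lib.Helper87 (hom_le hom_mem_S)
open Cfsg.Agent.Lib.Helper34.Yoshida Cfsg.Agent.Lib.Helper34.Witt

variable {Ω : Type*} [Group Ω] {S : Subgroup Ω}

/-- the transfer is compatible with group isomorphisms -/
theorem transfer_iso_h71 {G G' : Type*} [Group G] [Group G'] {A : Type*} [CommGroup A] (e : G ≃* G')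
    (H : Subgroup G) (H' : Subgroup G') [H.FiniteIndex] [H'.FiniteIndex]
    (hH : ∀ g, g ∈ H ↔ e g ∈ H') (φ : H →* A) (φ' : H' →* A)
    (hφ : ∀ h : H, φ' ⟨e h, (hH h).mp h.2⟩ = φ h) (g : G) :
    MonoidHom.transfer φ' (e g) = MonoidHom.transfer φ g := by
  classical
  let _ : Fintype (G ⧸ H) := H.fintypeQuotientOfFiniteIndex
  let _ : Fintype (G' ⧸ H') := H'.fintypeQuotientOfFiniteIndex
  let ε : G ⧸ H ≃ G' ⧸ H' := Quotient.congr e.toEquiv (by
    intro a b
    show QuotientGroup.leftRel H a b ↔ QuotientGroup.leftRel H' (e a) (e b)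
    rw [QuotientGroup.leftRel_apply, QuotientGroup.leftRel_apply, hH, map_mul, map_inv])
  have hε : ∀ a : G, ε (a : G ⧸ H) = ((e a : G') : G' ⧸ H') := fun a => rfl
  have hεsmul : ∀ q : G ⧸ H, ε (g • q) = e g • ε q := by
    intro q
    obtain ⟨a, rfl⟩ := QuotientGroup.mk_surjective q
    show ε ((g * a : G) : G ⧸ H) = ((e g * e a : G') : G' ⧸ H')
    rw [hε, map_mul]
  have hs' : ∀ q : G' ⧸ H', ((Quotient.out q : G') : G' ⧸ H') = q := fun q => Quotient.out_eq' q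
  have hs : ∀ q : G ⧸ H, ((e.symm (Quotient.out (ε q)) : G) : G ⧸ H) = q := by
    intro q
    apply ε.injective
    rw [hε, MulEquiv.apply_symm_apply, hs']
  rw [transfer_eq_prod_sec H' φ' _ hs' (e g), transfer_eq_prod_sec H φ _ hs g]
  refine (Fintype.prod_equiv ε _ _ (fun q => ?_)).symm
  rw [← hφ]
  congr 1
  apply Subtype.ext
  show e ((e.symm (Quotient.out (ε (g • q))))⁻¹ * g * e.symm (Quotient.out (ε q))) =
    (Quotient.out (e g • ε q) : G')⁻¹ * e g * (Quotient.out (ε q) : G')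
  rw [map_mul, map_mul, map_inv, MulEquiv.apply_symm_apply, MulEquiv.apply_symm_apply, hεsmul]

/-- a product of values at powers of a fixed element -/
theorem prod_pow_mem_aux_h71 {G : Type*} [Group G] (N : Subgroup G) {A : Type*} [CommGroup A]
    (ϕ : N →* A) (g : G) {ι : Type*} [DecidableEq ι] (s : Finset ι) (f : ι → ℕ)
    (hf : ∀ i, g ^ f i ∈ N) :
    ∃ h : g ^ (∑ i ∈ s, f i) ∈ N, ∏ i ∈ s, ϕ ⟨g ^ f i, hf i⟩ = ϕ ⟨g ^ (∑ i ∈ s, f i), h⟩ := by
  induction s using Finset.induction_on with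
  | empty =>
    refine ⟨by simp, ?_⟩
    simp only [Finset.prod_empty, Finset.sum_empty, pow_zero]
    exact (map_one ϕ).symm
  | insert a s ha ih =>
    obtain ⟨h, ih⟩ := ih
    have hmem : g ^ (∑ i ∈ insert a s, f i) ∈ N := by
      rw [Finset.sum_insert ha, pow_add]
      exact N.mul_mem (hf a) h
    refine ⟨hmem, ?_⟩
    rw [Finset.prod_insert ha, ih, ← map_mul]
    congr 1
    apply Subtype.ext
    show g ^ f a * g ^ (∑ i ∈ s, f i) = g ^ (∑ i ∈ insert a s, f i)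
    rw [Finset.sum_insert ha, pow_add]

/-- the transfer of an invariant homomorphism of a normal subgroup, evaluated anywhere -/
theorem transfer_eq_index_pow_of_invariant_h71 {G : Type*} [Group G] {N : Subgroup G}
    [hN : N.Normal] [N.FiniteIndex] {A : Type*} [CommGroup A] (ϕ : N →* A)
    (hinv : ∀ (g : G) (n : N), ϕ ⟨g * n * g⁻¹, hN.conj_mem (n : G) n.2 g⟩ = ϕ n) (g : G)
    (hg : g ^ N.index ∈ N) : MonoidHom.transfer ϕ g = ϕ ⟨g ^ N.index, hg⟩ := by
  classical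
  have : Fintype (Quotient (MulAction.orbitRel (Subgroup.zpowers g) (G ⧸ N))) :=
    Fintype.ofFinite _
  rw [MonoidHom.transfer_eq_prod_quotient_orbitRel_zpowers_quot]
  have hmem : ∀ q : Quotient (MulAction.orbitRel (Subgroup.zpowers g) (G ⧸ N)),
      g ^ Function.minimalPeriod (g • ·) q.out ∈ N := by
    intro q
    have h1 := QuotientGroup.out_conj_pow_minimalPeriod_mem N g q.out
    have h2 := hN.conj_mem _ h1 q.out.out
    have e : q.out.out * (q.out.out⁻¹ * g ^ Function.minimalPeriod (g • ·) q.out * q.out.out) *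
        q.out.out⁻¹ = g ^ Function.minimalPeriod (g • ·) q.out := by group
    rw [e] at h2
    exact h2
  have hterm : ∀ q : Quotient (MulAction.orbitRel (Subgroup.zpowers g) (G ⧸ N)),
      ϕ ⟨q.out.out⁻¹ * g ^ Function.minimalPeriod (g • ·) q.out * q.out.out,
        QuotientGroup.out_conj_pow_minimalPeriod_mem N g q.out⟩ =
      ϕ ⟨g ^ Function.minimalPeriod (g • ·) q.out, hmem q⟩ := by
    intro q
    have h1 := hinv q.out.out⁻¹ ⟨g ^ Function.minimalPeriod (g • ·) q.out, hmem q⟩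
    rw [← h1]
    congr 1
    apply Subtype.ext
    simp
  rw [Finset.prod_congr rfl (fun q _ => hterm q)]
  obtain ⟨h, hprod⟩ := prod_pow_mem_aux_h71 N ϕ g Finset.univ
    (fun q : Quotient (MulAction.orbitRel (Subgroup.zpowers g) (G ⧸ N)) =>
      Function.minimalPeriod (g • ·) q.out) hmem
  rw [hprod]
  congr 1
  apply Subtype.ext
  show g ^ _ = g ^ N.index
  rw [Subgroup.index_eq_sum_minimalPeriod N g]

/-- corestriction is multiplicative -/
theorem cor_mul_h71 [Finite S] {A : Type*} [CommGroup A] {Q : Subgroup Ω} (hQ : Q ≤ S)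
    (ν₁ ν₂ : Q →* A) : cor hQ (ν₁ * ν₂) = cor hQ ν₁ * cor hQ ν₂ := by
  ext s
  unfold cor
  rw [MonoidHom.mul_comp, MonoidHom.mul_apply, transfer_mul]

/-- corestriction as a homomorphism of character groups -/
noncomputable def corHom_h71 [Finite S] (A : Type*) [CommGroup A] {Q : Subgroup Ω} (hQ : Q ≤ S) :
    (Q →* A) →* (S →* A) :=
  MonoidHom.mk' (cor hQ) (cor_mul_h71 hQ)

@[simp] theorem corHom_apply_h71 [Finite S] (A : Type*) [CommGroup A] {Q : Subgroup Ω} (hQ : Q ≤ S)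
    (ν : Q →* A) : corHom_h71 A hQ ν = cor hQ ν := rfl

/-- transitivity of corestriction -/
theorem cor_cor_h71 [Finite S] {A : Type*} [CommGroup A] {T Q : Subgroup Ω} [Finite T]
    (hTS : T ≤ S) (hQT : Q ≤ T) (ν : Q →* A) :
    cor hTS (cor hQT ν) = cor (hQT.trans hTS) ν := by
  ext s
  unfold cor
  have hDK : Q.subgroupOf S ≤ T.subgroupOf S := fun x hx => hQT hx
  rw [transfer_trans (Q.subgroupOf S) (T.subgroupOf S) hDK
    (ν.comp (Subgroup.subgroupOfEquivOfLe (hQT.trans hTS)).toMonoidHom) s]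
  have key : (MonoidHom.transfer (ν.comp (Subgroup.subgroupOfEquivOfLe hQT).toMonoidHom)).comp
      (Subgroup.subgroupOfEquivOfLe hTS).toMonoidHom =
      MonoidHom.transfer ((ν.comp (Subgroup.subgroupOfEquivOfLe (hQT.trans hTS)).toMonoidHom).comp
        (Subgroup.subgroupOfEquivOfLe hDK).toMonoidHom) := by
    ext u
    show MonoidHom.transfer (ν.comp (Subgroup.subgroupOfEquivOfLe hQT).toMonoidHom)
      ((Subgroup.subgroupOfEquivOfLe hTS) u) = _
    exact transfer_iso_h71 (Subgroup.subgroupOfEquivOfLe hTS)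
      ((Q.subgroupOf S).subgroupOf (T.subgroupOf S)) (Q.subgroupOf T) (fun g => Iff.rfl) _ _
      (fun h => rfl) u
  rw [key]

/-- variant with the index given as a number -/
theorem transfer_eq_pow_of_invariant_of_index_h71 {G : Type*} [Group G] {N : Subgroup G}
    [hN : N.Normal] [N.FiniteIndex] {A : Type*} [CommGroup A] (ϕ : N →* A)
    (hinv : ∀ (g : G) (n : N), ϕ ⟨g * n * g⁻¹, hN.conj_mem (n : G) n.2 g⟩ = ϕ n) (g : G)
    (m : ℕ) (hm : N.index = m) (hg : g ^ m ∈ N) : MonoidHom.transfer ϕ g = ϕ ⟨g ^ m, hg⟩ := by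
  subst hm
  exact transfer_eq_index_pow_of_invariant_h71 ϕ hinv g hg

/-- corestriction maps `Kgen E` into `Kgen F` -/
theorem cor_mem_kgen_h71 [Finite S] (F : FusionSystem S) {T : Subgroup Ω} [Finite T] (hTS : T ≤ S)
    (E : FusionSystem T) (hEF : E.IsSubsystemOf F) (A : Type*) [CommGroup A]
    (k : T →* A) (hk : k ∈ Kgen E A) : cor hTS k ∈ Kgen F A := by
  have hle : Kgen E A ≤ (Kgen F A).comap (corHom_h71 A hTS) := by
    unfold Kgen
    rw [Subgroup.closure_le]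
    rintro k ⟨Q, ψ, hψ, μ, rfl⟩
    show corHom_h71 A hTS _ ∈ Subgroup.closure _
    rw [map_div, corHom_apply_h71, corHom_apply_h71, cor_cor_h71, cor_cor_h71]
    exact Subgroup.subset_closure ⟨Q, ψ, hEF Q hψ, μ, rfl⟩
  exact hle hk

/-- [T3] Claim B: `S`-fixed elements of `Kgen E` kill `p`-th powers. -/
theorem kgen_fixed_pow [Finite S] {p : ℕ} [Fact p.Prime]
    (F : FusionSystem S) {T : Subgroup Ω} [Finite T] (hTS : T ≤ S)
    (hidx : (T.subgroupOf S).index = p) (hfoc : F.focalSubgroup ≤ T)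
    (E : FusionSystem T) (hEF : E.IsSubsystemOf F)
    (A : Type*) [CommGroup A] (hA : ∀ a : A, a ^ p = 1)
    (hτ : ∃ (n : ℕ) (τ : (S →* A) →* (S →* A)), ¬ p ∣ n ∧
      (∀ lam : S →* A, Stab F lam → τ lam = lam ^ n) ∧ ∀ k ∈ Kgen F A, τ k = 1)
    (hnorm : S ≤ Subgroup.normalizer (T : Set Ω))
    (k : T →* A) (hk : k ∈ Kgen E A)
    (hfix : ∀ (g : Ω) (hgS : g ∈ S), k.comp (cj T g (hnorm hgS)).toMonoidHom = k)
    (x : Ω) (hx : x ∈ S) (hxp : x ^ p ∈ T) : k ⟨x ^ p, hxp⟩ = 1 := by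
  obtain ⟨n, τ, hpn, hτ1, hτ2⟩ := hτ
  have hp : p.Prime := Fact.out
  have hN : (T.subgroupOf S).Normal := (Subgroup.normal_subgroupOf_iff_le_normalizer hTS).mpr hnorm
  have hpow : ∀ s : S, s ^ p ∈ T.subgroupOf S := by
    intro s
    rw [← hidx]
    exact Subgroup.pow_index_mem _ s
  have hinv : ∀ (g : S) (n : T.subgroupOf S),
      (k.comp (Subgroup.subgroupOfEquivOfLe hTS).toMonoidHom)
        ⟨g * n * g⁻¹, hN.conj_mem (n : S) n.2 g⟩ =
      (k.comp (Subgroup.subgroupOfEquivOfLe hTS).toMonoidHom) n := by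
    intro g n
    exact DFunLike.congr_fun (hfix (g : Ω) g.2) ⟨((n : S) : Ω), n.2⟩
  have hμ : ∀ s : S, cor hTS k s = k ⟨(s : Ω) ^ p, hpow s⟩ := by
    intro s
    exact transfer_eq_pow_of_invariant_of_index_h71 _ hinv s p hidx (hpow s)
  -- `cor k` kills `T`
  have hT : ∀ (t : Ω) (ht : t ∈ T), cor hTS k ⟨t, hTS ht⟩ = 1 := by
    intro t ht
    rw [hμ]
    have h1 : (⟨t ^ p, hpow ⟨t, hTS ht⟩⟩ : T) = ⟨t, ht⟩ ^ p := rfl
    show k ⟨t ^ p, _⟩ = 1
    rw [h1, map_pow, hA]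
  -- so it is stable
  have hstab : Stab F (cor hTS k) := by
    intro Q ψ hψ v
    have hfocal : (v : Ω)⁻¹ * ψ v ∈ F.focalSubgroup :=
      Subgroup.subset_closure ⟨Q, ψ, v, hψ, rfl⟩
    have h1 := hT _ (hfoc hfocal)
    have h2 : (⟨ψ v, hom_mem_S F hψ v⟩ : S) =
        ⟨(v : Ω), hom_le F hψ v.2⟩ * ⟨(v : Ω)⁻¹ * ψ v, hTS (hfoc hfocal)⟩ := by
      apply Subtype.ext
      simp
    rw [h2, map_mul, h1, mul_one]
  have hμK : cor hTS k ∈ Kgen F A := cor_mem_kgen_h71 F hTS E hEF A k hk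
  have e1 : (cor hTS k) ^ n = 1 := by
    rw [← hτ1 _ hstab]
    exact hτ2 _ hμK
  have e2 : (cor hTS k) ^ p = 1 := by
    ext s
    rw [MonoidHom.pow_apply, hA]
    rfl
  have e3 : cor hTS k = 1 := by
    have hcop : Nat.Coprime n p := ((Nat.Prime.coprime_iff_not_dvd hp).mpr hpn).symm
    have hd : orderOf (cor hTS k) ∣ Nat.gcd n p :=
      Nat.dvd_gcd (orderOf_dvd_of_pow_eq_one e1) (orderOf_dvd_of_pow_eq_one e2)
    rw [hcop.gcd_eq_one, Nat.dvd_one] at hd
    exact orderOf_eq_one_iff.mp hd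
  have e4 := hμ ⟨x, hx⟩
  rw [e3] at e4
  exact e4.symm

end Cfsg.Agent.Lib.Helper34.Tate
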