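import Mathlib
import Cfsg.Prelude.Def_HallClasses

set_option autoImplicit false

/-! Basic theory of pronormal subgroups in the form of `Cfsg.IsPronormal`
(conjugates written `H.map (MulAut.conj g).toMonoidHom`). -/

namespace Cfsg.Agent.Lib.Helper71.Pro

variable {G : Type*} [Group G]

local notation:max "cj[" g "]" H:max => Subgroup.map (MulEquiv.toMonoidHom (MulAut.conj g)) H

theorem cj_mul (H : Subgroup G) (a b : G) : cj[a * b] H = cj[a] (cj[b] H) := by
  rw [Subgroup.map_map]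
  congr 1
  ext x
  simp [mul_assoc]

theorem cj_one (H : Subgroup G) : cj[(1 : G)] H = H := by
  ext x
  simp

theorem mem_cj (H : Subgroup G) (g x : G) : x ∈ cj[g] H ↔ ∃ h ∈ H, g * h * g⁻¹ = x := by
  simp [Subgroup.mem_map]

theorem mem_cj' (H : Subgroup G) (g x : G) : x ∈ cj[g] H ↔ g⁻¹ * x * g ∈ H := by
  rw [mem_cj]
  constructor
  · rintro ⟨h, hh, rfl⟩
    have : g⁻¹ * (g * h * g⁻¹) * g = h := by group
    rw [this]; exact hh
  · intro h
    exact ⟨_, h, by group⟩

theorem conj_mem_cj (H : Subgroup G) (g : G) {h : G} (hh : h ∈ H) : g * h * g⁻¹ ∈ cj[g] H :=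
  (mem_cj H g _).mpr ⟨h, hh, rfl⟩

theorem cj_mono {H K : Subgroup G} (g : G) (h : H ≤ K) : cj[g] H ≤ cj[g] K :=
  Subgroup.map_mono h

theorem cj_sup (H K : Subgroup G) (g : G) : cj[g] (H ⊔ K) = cj[g] H ⊔ cj[g] K :=
  Subgroup.map_sup _ _ _

theorem cj_inf (H K : Subgroup G) (g : G) : cj[g] (H ⊓ K) = cj[g] H ⊓ cj[g] K :=
  Subgroup.map_inf H K _ (MulAut.conj g).injective

theorem cj_inv_cj (H : Subgroup G) (g : G) : cj[g⁻¹] (cj[g] H) = H := by
  rw [← cj_mul, inv_mul_cancel, cj_one]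

theorem cj_cj_inv (H : Subgroup G) (g : G) : cj[g] (cj[g⁻¹] H) = H := by
  rw [← cj_mul, mul_inv_cancel, cj_one]

theorem cj_eq_iff_mem_normalizer (H : Subgroup G) (g : G) :
    cj[g] H = H ↔ g ∈ Subgroup.normalizer (H : Set G) :=
  Subgroup.mem_normalizer_iff_map_conj_eq.symm

theorem cj_of_mem_normalizer (H : Subgroup G) {g : G}
    (hg : g ∈ Subgroup.normalizer (H : Set G)) : cj[g] H = H :=
  (cj_eq_iff_mem_normalizer H g).mpr hg

theorem cj_of_mem (H : Subgroup G) {g : G} (hg : g ∈ H) : cj[g] H = H :=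
  cj_of_mem_normalizer H (Subgroup.le_normalizer hg)

theorem cj_of_normal (N : Subgroup G) [N.Normal] (g : G) : cj[g] N = N :=
  cj_of_mem_normalizer N (by rw [Subgroup.normalizer_eq_top_iff.mpr inferInstance]; trivial)

theorem cj_le_of_mem {J H : Subgroup G} {g : G} (hg : g ∈ J) (hH : H ≤ J) : cj[g] H ≤ J := by
  intro x hx
  obtain ⟨h, hh, rfl⟩ := (mem_cj H g x).mp hx
  exact J.mul_mem (J.mul_mem hg (hH hh)) (J.inv_mem hg)

theorem card_cj (H : Subgroup G) (g : G) : Nat.card (cj[g] H) = Nat.card H :=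
  Subgroup.card_map_of_injective (MulAut.conj g).injective

theorem cj_eq_of_eq_mul {H : Subgroup G} {g a k : G} (hk : k ∈ Subgroup.normalizer (H : Set G))
    (h : g = a * k) : cj[g] H = cj[a] H := by
  rw [h, cj_mul, cj_of_mem_normalizer H hk]

/-- `H` and `g H g⁻¹` are conjugate by an element of their join. -/
def R (H : Subgroup G) (g : G) : Prop := ∃ x ∈ H ⊔ cj[g] H, cj[g] H = cj[x] H

theorem isPronormal_iff (H : Subgroup G) : Cfsg.IsPronormal H ↔ ∀ g, R H g := Iff.rfl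

theorem R_of_mem_normalizer {H : Subgroup G} {g : G}
    (hg : g ∈ Subgroup.normalizer (H : Set G)) : R H g :=
  ⟨1, Subgroup.one_mem _, by rw [cj_one, cj_of_mem_normalizer H hg]⟩

theorem R_mul_normalizer {H : Subgroup G} {g n : G}
    (hn : n ∈ Subgroup.normalizer (H : Set G)) (h : R H g) : R H (g * n) := by
  have e : cj[g * n] H = cj[g] H := by rw [cj_mul, cj_of_mem_normalizer H hn]
  unfold R
  rw [e]
  exact h

theorem R_of_mul_left {H : Subgroup G} {g y : G} (hy : y ∈ H ⊔ cj[g] H) (h : R H (y * g)) :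
    R H g := by
  obtain ⟨x, hx, hxe⟩ := h
  have hle : cj[y * g] H ≤ H ⊔ cj[g] H := by
    rw [cj_mul]; exact cj_le_of_mem hy le_sup_right
  have hJ : H ⊔ cj[y * g] H ≤ H ⊔ cj[g] H := sup_le le_sup_left hle
  refine ⟨y⁻¹ * x, Subgroup.mul_mem _ (Subgroup.inv_mem _ hy) (hJ hx), ?_⟩
  rw [cj_mul, ← hxe, ← cj_mul, inv_mul_cancel_left]

theorem R_of_inv_mul_left {H : Subgroup G} {g y : G} (hy : y ∈ H ⊔ cj[g] H)
    (h : R H (y⁻¹ * g)) : R H g :=
  R_of_mul_left (Subgroup.inv_mem _ hy) h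

theorem map_cj {G' : Type*} [Group G'] (f : G →* G') (H : Subgroup G) (g : G) :
    (cj[g] H).map f = cj[f g] (H.map f) := by
  rw [Subgroup.map_map, Subgroup.map_map]
  congr 1
  ext x
  simp

theorem comap_cj {G' : Type*} [Group G'] (f : G →* G') (K : Subgroup G') (g : G) :
    cj[g] (K.comap f) = (cj[f g] K).comap f := by
  ext x
  rw [mem_cj', Subgroup.mem_comap, Subgroup.mem_comap, mem_cj']
  simp

theorem R_map {G' : Type*} [Group G'] (f : G →* G') {H : Subgroup G} {g : G} (h : R H g) :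
    R (H.map f) (f g) := by
  obtain ⟨x, hx, hxe⟩ := h
  refine ⟨f x, ?_, ?_⟩
  · rw [← map_cj, ← Subgroup.map_sup]; exact Subgroup.mem_map_of_mem f hx
  · rw [← map_cj, ← map_cj, hxe]

theorem isPronormal_map {G' : Type*} [Group G'] (f : G →* G') (hf : Function.Surjective f)
    {H : Subgroup G} (h : Cfsg.IsPronormal H) : Cfsg.IsPronormal (H.map f) := by
  intro g'
  obtain ⟨g, rfl⟩ := hf g'
  exact R_map f (h g)

theorem R_comap {G' : Type*} [Group G'] (f : G →* G') (hf : Function.Surjective f)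
    {K : Subgroup G'} {g : G} (h : R K (f g)) : R (K.comap f) g := by
  obtain ⟨x', hx', hxe⟩ := h
  obtain ⟨x, rfl⟩ := hf x'
  refine ⟨x, ?_, ?_⟩
  · rw [comap_cj, Subgroup.comap_sup_eq _ _ _ hf]
    exact hx'
  · rw [comap_cj, comap_cj, hxe]

theorem isPronormal_comap {G' : Type*} [Group G'] (f : G →* G') (hf : Function.Surjective f)
    {K : Subgroup G'} (h : Cfsg.IsPronormal K) : Cfsg.IsPronormal (K.comap f) :=
  fun g => R_comap f hf (h (f g))

theorem R_of_map_injective {G' : Type*} [Group G'] (f : G →* G') (hf : Function.Injective f)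
    {H : Subgroup G} {g : G} (h : R (H.map f) (f g)) : R H g := by
  obtain ⟨x', hx', hxe⟩ := h
  rw [← map_cj, ← Subgroup.map_sup] at hx'
  obtain ⟨x, hx, rfl⟩ := hx'
  refine ⟨x, hx, ?_⟩
  rw [← map_cj, ← map_cj] at hxe
  exact Subgroup.map_injective hf hxe

theorem isPronormal_subgroup_iff (M : Subgroup G) (K' : Subgroup M) :
    Cfsg.IsPronormal K' ↔ ∀ g ∈ M, R (K'.map M.subtype) g := by
  constructor
  · intro h g hg
    have h1 : R (K'.map M.subtype) (M.subtype ⟨g, hg⟩) := R_map M.subtype (h ⟨g, hg⟩)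
    exact h1
  · intro h g
    have h1 : R (K'.map M.subtype) (M.subtype g) := h (g : G) g.2
    exact R_of_map_injective M.subtype M.subtype_injective h1

/-- Pronormality is invariant under conjugation. -/
theorem isPronormal_cj {H : Subgroup G} (g : G) (h : Cfsg.IsPronormal H) :
    Cfsg.IsPronormal (cj[g] H) :=
  isPronormal_map _ (MulAut.conj g).surjective h

theorem relIndex_sup_eq_relIndex [Finite G] (H A : Subgroup G) [A.Normal] :
    H.relIndex (H ⊔ A) = H.relIndex A := by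
  have e1 : (H ⊓ A).relIndex H * H.relIndex (H ⊔ A) = (H ⊓ A).relIndex (H ⊔ A) :=
    Subgroup.relIndex_mul_relIndex _ _ _ inf_le_left le_sup_left
  have e2 : (H ⊓ A).relIndex A * A.relIndex (H ⊔ A) = (H ⊓ A).relIndex (H ⊔ A) :=
    Subgroup.relIndex_mul_relIndex _ _ _ inf_le_right le_sup_right
  have e3 : A.relIndex (H ⊔ A) = (H ⊓ A).relIndex H := by
    rw [Subgroup.relIndex_sup_right, Subgroup.inf_relIndex_left]
  have e4 : (H ⊓ A).relIndex A = H.relIndex A := Subgroup.inf_relIndex_right H A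
  have hne : (H ⊓ A).relIndex H ≠ 0 := Subgroup.index_ne_zero_of_finite
  rw [e3, e4] at e2
  rw [← e2, mul_comm] at e1
  exact Nat.eq_of_mul_eq_mul_right (Nat.pos_of_ne_zero hne) e1

/-- Sylow conjugacy inside a subgroup `M`, stated in the ambient group. -/
theorem exists_cj_eq_of_sylow [Finite G] {p : ℕ} [Fact p.Prime] {M T : Subgroup G}
    (hTM : T ≤ M) (hT : IsPGroup p T) (hidx : ¬ p ∣ T.relIndex M) {g : G}
    (hg : cj[g] T ≤ M) : ∃ z ∈ M, cj[g] T = cj[z] T := by
  have hT0 : IsPGroup p (T.subgroupOf M) := hT.comap_subtype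
  let PT : Sylow p M := hT0.toSylow hidx
  have hT1 : IsPGroup p ((cj[g] T).subgroupOf M) := (hT.map _).comap_subtype
  obtain ⟨Q, hQ⟩ := hT1.exists_le_sylow
  obtain ⟨z, hz⟩ := MulAction.exists_smul_eq M PT Q
  refine ⟨z, z.2, ?_⟩
  have hQc : (Q : Subgroup M) = cj[z] (T.subgroupOf M) := by
    rw [← hz, Sylow.coe_subgroup_smul, Subgroup.pointwise_smul_def]
    rfl
  have hc1 : Nat.card ((cj[g] T).subgroupOf M) = Nat.card T := by
    rw [Nat.card_congr (Subgroup.subgroupOfEquivOfLe hg).toEquiv, card_cj]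
  have hc2 : Nat.card (cj[z] (T.subgroupOf M)) = Nat.card T := by
    rw [card_cj, Nat.card_congr (Subgroup.subgroupOfEquivOfLe hTM).toEquiv]
  have heq : (cj[g] T).subgroupOf M = cj[z] (T.subgroupOf M) := by
    apply Subgroup.eq_of_le_of_card_ge
    · rw [← hQc]; exact hQ
    · rw [hc1, hc2]
  have h1 : ((cj[g] T).subgroupOf M).map M.subtype = cj[g] T :=
    Subgroup.map_subgroupOf_eq_of_le hg
  rw [← h1, heq, map_cj, Subgroup.map_subgroupOf_eq_of_le hTM]
  rfl

end Cfsg.Agent.Lib.Helper71.Pro
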