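import Mathlib

/-!
# Lb hive (S1301), leaf LB-A1: common definitions and two general lemmas
(abstract hypothesis bundle `lba1_Hyp`, a relative Sylow lemma, normalizer growth in `p`-groups).
-/

set_option autoImplicit false

namespace Cfsg.Agent.Lib.Helper22.Lb

open Subgroup
open scoped Pointwise

section lba1

variable {H : Type*} [Group H] [Finite H]

/-- The abstract situation of LB-A1: `P = R<u>` is a maximal 2-subgroup of `H = <u>K`, `u` central in `P`,
`R = P ∩ K` a maximal 2-subgroup of `K`. -/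
structure lba1_Hyp (K P R : Subgroup H) (u : H) : Prop where
  huP : u ∈ P
  hP2 : IsPGroup 2 P
  hPmax : ∀ Q : Subgroup H, IsPGroup 2 Q → P ≤ Q → Q ≤ P
  hPK : P ⊓ K = R
  hcen : ∀ x ∈ P, x * u = u * x
  hdec : ∀ g : H, ∃ k ∈ K, ∃ j : ℕ, g = u ^ j * k
  hRmax : ∀ Q : Subgroup H, IsPGroup 2 Q → Q ≤ K → R ≤ Q → Q ≤ R

/-- Relative Sylow lemma: inside `M`, a `p`-subgroup `A` lies in a `p`-subgroup `S ≤ M` into which every
`p`-subgroup of `M` can be conjugated by an element of `M`. -/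
theorem lba1_sylow (p : ℕ) [Fact p.Prime] (M A : Subgroup H) (hAM : A ≤ M) (hA : IsPGroup p A) :
    ∃ S : Subgroup H, A ≤ S ∧ S ≤ M ∧ IsPGroup p S ∧
      ∀ B : Subgroup H, B ≤ M → IsPGroup p B → ∃ n ∈ M, ∀ b ∈ B, n⁻¹ * b * n ∈ S := by
  have hA' : IsPGroup p (A.subgroupOf M) := hA.comap_subtype
  obtain ⟨Q, hQ⟩ := hA'.exists_le_sylow
  refine ⟨(Q : Subgroup M).map M.subtype, ?_, ?_, Q.2.map _, ?_⟩
  · intro a ha
    exact ⟨⟨a, hAM ha⟩, hQ (by simpa [Subgroup.mem_subgroupOf] using ha), rfl⟩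
  · rintro _ ⟨x, -, rfl⟩
    exact x.2
  · intro B hBM hB
    have hB' : IsPGroup p (B.subgroupOf M) := hB.comap_subtype
    obtain ⟨Q', hQ'⟩ := hB'.exists_le_sylow
    obtain ⟨n, hn⟩ := MulAction.exists_smul_eq M Q' Q
    refine ⟨(n : H)⁻¹, M.inv_mem n.2, ?_⟩
    intro b hb
    have hbQ' : (⟨b, hBM hb⟩ : M) ∈ (Q' : Subgroup M) :=
      hQ' (by simpa [Subgroup.mem_subgroupOf] using hb)
    have : n * ⟨b, hBM hb⟩ * n⁻¹ ∈ (Q : Subgroup M) := by
      rw [← hn, Sylow.coe_subgroup_smul, Subgroup.mem_pointwise_smul_iff_inv_smul_mem]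
      simpa [MulAut.smul_def, mul_assoc] using hbQ'
    refine ⟨n * ⟨b, hBM hb⟩ * n⁻¹, this, ?_⟩
    simp

/-- Normalizer growth in a finite `p`-group. -/
theorem lba1_norm_growth (p : ℕ) [Fact p.Prime] (R D : Subgroup H) (hR : IsPGroup p R) (hDR : D ≤ R)
    (hne : D ≠ R) : ∃ y ∈ R, y ∈ normalizer (D : Set H) ∧ y ∉ D := by
  have hnil : Group.IsNilpotent R := hR.isNilpotent
  have hnc := Group.normalizerCondition_of_isNilpotent (G := R)
  have hlt : D.subgroupOf R < ⊤ := by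
    rw [lt_top_iff_ne_top]
    intro h
    rw [Subgroup.subgroupOf_eq_top] at h
    exact hne (le_antisymm hDR h)
  have h2 := hnc _ hlt
  obtain ⟨y, hyN, hyD⟩ := SetLike.exists_of_lt h2
  refine ⟨y, y.2, ?_, ?_⟩
  · rw [Subgroup.mem_normalizer_iff] at hyN ⊢
    intro x
    constructor
    · intro hx
      have := (hyN ⟨x, hDR hx⟩).1 (by simpa [Subgroup.mem_subgroupOf] using hx)
      simpa [Subgroup.mem_subgroupOf] using this
    · intro hx
      have hxR : x ∈ R := by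
        have h1 : (y : H)⁻¹ * ((y : H) * x * (y : H)⁻¹) * (y : H) ∈ R :=
          R.mul_mem (R.mul_mem (R.inv_mem y.2) (hDR hx)) y.2
        simpa [mul_assoc] using h1
      have := (hyN ⟨x, hxR⟩).2 (by simpa [Subgroup.mem_subgroupOf] using hx)
      simpa [Subgroup.mem_subgroupOf] using this
  · simpa [Subgroup.mem_subgroupOf] using hyD

end lba1

end Cfsg.Agent.Lib.Helper22.Lb
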