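import Mathlib

/-!
# Odd class sizes of 2-elements: basic tools

A fixed point argument replacing Sylow's theorem inside subgroups, and consequences for elements
whose centralizer has index prime to `p`.
-/

namespace Cfsg.Agent.Lib.Helper71.OddClass

open Subgroup

variable {G : Type*} [Group G]

/-- Fixed point form of Sylow's theorem inside a subgroup `M`: if `P ≤ M` has index prime to `p` in `M`
and `D ≤ M` is a `p`-group, then some `M`-conjugate of `D` lies in `P`. -/
theorem exists_conj_mem_of_relIndex {p : ℕ} [Fact p.Prime] (M P D : Subgroup G)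
    (hDM : D ≤ M) (hD : IsPGroup p D) (hodd : ¬ p ∣ P.relIndex M) :
    ∃ m ∈ M, ∀ d ∈ D, m⁻¹ * d * m ∈ P := by
  classical
  have hDm : IsPGroup p (D.subgroupOf M) := hD.comap_subtype
  have hcard : ¬ p ∣ Nat.card (M ⧸ P.subgroupOf M) := by
    rw [← Subgroup.index_eq_card]; exact hodd
  obtain ⟨q, hq⟩ := hDm.nonempty_fixed_point_of_prime_not_dvd_card (M ⧸ P.subgroupOf M) hcard
  induction q using QuotientGroup.induction_on with
  | H m =>
    refine ⟨m, m.2, fun d hd => ?_⟩
    have hdm : (⟨d, hDM hd⟩ : M) ∈ D.subgroupOf M := by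
      rw [Subgroup.mem_subgroupOf]; exact hd
    have h1 := hq ⟨⟨d, hDM hd⟩, hdm⟩
    have h2 : ((⟨d, hDM hd⟩ * m : M) : M ⧸ P.subgroupOf M) = (m : M ⧸ P.subgroupOf M) := h1
    rw [QuotientGroup.eq, Subgroup.mem_subgroupOf] at h2
    have h3 : (m : G)⁻¹ * d⁻¹ * m ∈ P := by
      simpa [mul_assoc] using h2
    have h4 := P.inv_mem h3
    simpa [mul_assoc] using h4

/-- If the centralizer of `x` has index prime to `p`, every `p`-subgroup centralizes a conjugate of `x`. -/
theorem exists_conj_commute {p : ℕ} [Fact p.Prime] (D : Subgroup G) (hD : IsPGroup p D) (x : G)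
    (hx : ¬ p ∣ (centralizer ({x} : Set G)).index) :
    ∃ g : G, ∀ d ∈ D, d * (g * x * g⁻¹) = (g * x * g⁻¹) * d := by
  obtain ⟨m, -, hm⟩ := exists_conj_mem_of_relIndex (p := p) ⊤ (centralizer {x}) D le_top hD
    (by rwa [relIndex_top_right])
  refine ⟨m, fun d hd => ?_⟩
  have h1 := hm d hd
  rw [mem_centralizer_iff] at h1
  have h2 := h1 x rfl
  calc d * (m * x * m⁻¹) = m * ((m⁻¹ * d * m) * x) * m⁻¹ := by group
    _ = m * (x * (m⁻¹ * d * m)) * m⁻¹ := by rw [h2]
    _ = (m * x * m⁻¹) * d := by group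

theorem orderOf_conj_eq (g x : G) : orderOf (g * x * g⁻¹) = orderOf x := by
  have := (MulAut.conj g).orderOf_eq x
  simpa [MulAut.conj_apply] using this

/-- A `p`-element centralizing a Sylow `p`-subgroup lies in it. -/
theorem mem_sylow_of_commute {p : ℕ} [Fact p.Prime] (P : Sylow p G) (y : G)
    (hy : ∃ k : ℕ, orderOf y = p ^ k) (hc : ∀ d ∈ (P : Subgroup G), d * y = y * d) :
    y ∈ (P : Subgroup G) := by
  obtain ⟨k, hk⟩ := hy
  have hz : IsPGroup p (zpowers y) := IsPGroup.of_card (n := k) (by rw [Nat.card_zpowers, hk])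
  have hn : zpowers y ≤ normalizer ((P : Subgroup G) : Set G) := by
    rw [zpowers_le, mem_normalizer_iff]
    intro h
    constructor
    · intro hh
      have := hc h hh
      have e : y * h * y⁻¹ = h := by rw [← this]; group
      rw [e]; exact hh
    · intro hh
      have := hc _ hh
      have e : h = y * h * y⁻¹ := by
        have h2 : y * h * y⁻¹ * y = y * (y * h * y⁻¹) := this
        have h3 : y * h = y * (y * h * y⁻¹) := by rw [← h2]; group
        exact mul_left_cancel h3
      rw [e]; exact hh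
  have h1 : zpowers y ⊓ normalizer ((P : Subgroup G) : Set G) = zpowers y ⊓ (P : Subgroup G) :=
    hz.inf_normalizer_sylow P
  have h2 : zpowers y ⊓ normalizer ((P : Subgroup G) : Set G) = zpowers y := inf_eq_left.2 hn
  rw [h2] at h1
  have h3 : zpowers y ≤ (P : Subgroup G) := by rw [h1]; exact inf_le_right
  exact h3 (mem_zpowers y)

/-- A `p`-element whose centralizer has index prime to `p` is conjugate into the centre of any Sylow
`p`-subgroup. -/
theorem exists_conj_mem_center {p : ℕ} [Fact p.Prime] (P : Sylow p G) (x : G)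
    (hx2 : ∃ k : ℕ, orderOf x = p ^ k) (hx : ¬ p ∣ (centralizer ({x} : Set G)).index) :
    ∃ g : G, g * x * g⁻¹ ∈ (P : Subgroup G) ∧
      ∀ d ∈ (P : Subgroup G), d * (g * x * g⁻¹) = (g * x * g⁻¹) * d := by
  obtain ⟨g, hg⟩ := exists_conj_commute (p := p) (P : Subgroup G) P.isPGroup' x hx
  refine ⟨g, mem_sylow_of_commute P _ ?_ hg, hg⟩
  obtain ⟨k, hk⟩ := hx2
  exact ⟨k, by rw [← hk]; exact orderOf_conj_eq g x⟩

theorem mem_centralizer_singleton_iff_commute {x h : G} :
    h ∈ centralizer ({x} : Set G) ↔ Commute x h := by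
  rw [mem_centralizer_iff]
  constructor
  · intro hh; exact hh x rfl
  · intro hh y hy
    rw [Set.mem_singleton_iff] at hy
    subst hy; exact hh

/-- If `s` inverts `x` then `s` normalizes the centralizer of `x`. -/
theorem mem_normalizer_centralizer_of_inv {x s : G} (hsx : s * x * s⁻¹ = x⁻¹) :
    s ∈ normalizer ((centralizer ({x} : Set G) : Subgroup G) : Set G) := by
  rw [mem_normalizer_iff]
  intro h
  rw [mem_centralizer_singleton_iff_commute, mem_centralizer_singleton_iff_commute,
    ← Commute.inv_left_iff (a := x) (b := s * h * s⁻¹), ← hsx, Commute.conj_iff]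

theorem isPGroup_two_zpowers_of_sq {s : G} (hs : s * s = 1) : IsPGroup 2 (zpowers s) := by
  rintro ⟨g, hg⟩
  obtain ⟨n, rfl⟩ := mem_zpowers_iff.1 hg
  refine ⟨1, ?_⟩
  ext
  simp only [pow_one, SubmonoidClass.mk_pow, OneMemClass.coe_one]
  rw [pow_two, ← zpow_add, ← two_mul, zpow_mul, zpow_two, hs, one_zpow]

/-- A real element (inverted by an involution) whose centralizer has odd index is an involution. -/
theorem sq_eq_one_of_real {x s : G} (hx : ¬ 2 ∣ (centralizer ({x} : Set G)).index)
    (hs : s * s = 1) (hsx : s * x * s⁻¹ = x⁻¹) : x * x = 1 := by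
  have : Fact (Nat.Prime 2) := ⟨Nat.prime_two⟩
  set C := centralizer ({x} : Set G) with hC
  have hsN : s ∈ normalizer ((C : Subgroup G) : Set G) := mem_normalizer_centralizer_of_inv hsx
  set M : Subgroup G := C ⊔ zpowers s with hM
  have hMN : M ≤ normalizer ((C : Subgroup G) : Set G) :=
    sup_le le_normalizer (by rw [zpowers_le]; exact hsN)
  have hrel : ¬ 2 ∣ C.relIndex M := fun h =>
    hx (h.trans (relIndex_dvd_index_of_le (le_sup_left : C ≤ M)))
  obtain ⟨m, hmM, hm⟩ := exists_conj_mem_of_relIndex (p := 2) M C (zpowers s) le_sup_right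
    (isPGroup_two_zpowers_of_sq hs) hrel
  have h1 := hm s (mem_zpowers s)
  have h2 := (mem_normalizer_iff.1 (hMN hmM) (m⁻¹ * s * m)).1 h1
  have h3 : m * (m⁻¹ * s * m) * m⁻¹ = s := by group
  rw [h3, mem_centralizer_singleton_iff_commute] at h2
  have h4 : s * x * s⁻¹ = x := by
    have : x * s = s * x := h2
    rw [← this]; group
  rw [h4] at hsx
  calc x * x = x * x⁻¹ := by rw [← hsx]
    _ = 1 := mul_inv_cancel x

end Cfsg.Agent.Lib.Helper71.OddClass
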