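import Mathlib
import Cfsg.Prelude.Def_OddOrderLocal
import Cfsg.Agent.Lib.Helper32.BG142Defs
import Cfsg.Agent.Lib.Helper71.OddClassA

/-!
# BG Theorem 14.2, PIECE S4 of helper32's plan: `C_{M_σ}(X) ∩ C_G(A) = 1`

Core version: the Hall property of `M_σ` and PIECE E0 are taken as Prop-hypotheses, so that this
file depends on Mathlib and the Prelude only.
-/

set_option autoImplicit false
universe u

namespace Cfsg.Agent.Lib.Helper71.BG142S4

open Subgroup Cfsg

variable {G : Type u} [Group G]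

/-- PIECE E0 of the 14.2 plan, as a Prop. -/
def E0Stmt (G : Type u) [Group G] : Prop :=
  ∀ (M N : Subgroup G), IsCoatom M → IsCoatom N → N ≠ M → ∀ (q : ℕ) [Fact q.Prime], q ∈ sigma M →
    ∀ C : Subgroup G, IsPGroup q C → C ≠ ⊥ → C ≤ M → normalizer (C : Set G) ≤ N →
      q ∈ tau2 N ∧ IsComplIn (M ⊓ N) (sigmaCore N) N ∧ sigmaCore N ⊓ M = ⊥

/-- `M_σ` is a Hall `σ(M)`-subgroup of every maximal subgroup `M`. -/
def SigmaHallAll (G : Type u) [Group G] : Prop :=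
  ∀ H : Subgroup G, IsCoatom H → IsPiHallOf (sigma H) (sigmaCore H) H

theorem card_mul_card_of_isComplIn_h71 {A B C : Subgroup G} (h : IsComplIn A B C) :
    Nat.card A * Nat.card B = Nat.card C := by
  obtain ⟨hA, hB, hAB, hC⟩ := h
  rw [← Nat.card_prod]
  apply Nat.card_congr
  refine Equiv.ofBijective
    (fun x : A × B => (⟨x.1.1 * x.2.1, C.mul_mem (hA x.1.2) (hB x.2.2)⟩ : C)) ⟨?_, ?_⟩
  · rintro ⟨⟨a, ha⟩, ⟨b, hb⟩⟩ ⟨⟨a', ha'⟩, ⟨b', hb'⟩⟩ h
    have h0 : a * b = a' * b' := congrArg Subtype.val h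
    have h1 : a'⁻¹ * a = b' * b⁻¹ := by
      have : a'⁻¹ * (a * b) * b⁻¹ = a'⁻¹ * (a' * b') * b⁻¹ := by rw [h0]
      simpa [mul_assoc] using this
    have h2 : a'⁻¹ * a ∈ A ⊓ B :=
      ⟨A.mul_mem (A.inv_mem ha') ha, h1 ▸ B.mul_mem hb' (B.inv_mem hb)⟩
    rw [hAB, mem_bot] at h2
    have ha_eq : a = a' := by
      have := congrArg (fun z => a' * z) h2
      simpa using this
    have hb_eq : b = b' := by
      rw [h2] at h1
      have := congrArg (fun z => z * b) h1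
      simpa using this
    subst ha_eq; subst hb_eq; rfl
  · rintro ⟨c, hc⟩
    obtain ⟨a, ha, b, hb, rfl⟩ := hC c hc
    exact ⟨(⟨a, ha⟩, ⟨b, hb⟩), rfl⟩

theorem relIndex_eq_of_isComplIn_h71 [Finite G] {A B C : Subgroup G} (h : IsComplIn A B C) :
    A.relIndex C = Nat.card B := by
  have h1 := card_mul_card_of_isComplIn_h71 h
  have h2 : Nat.card A * A.relIndex C = Nat.card C := by
    rw [relIndex, ← (A.subgroupOf C).card_mul_index]
    congr 1
    exact Nat.card_congr (Subgroup.subgroupOfEquivOfLe h.1).toEquiv.symm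
  have hpos : 0 < Nat.card A := Nat.card_pos
  exact Nat.eq_of_mul_eq_mul_left hpos (h2.trans h1.symm)

theorem normalizer_ne_top_h71 (hG : IsMinSimpleOddOrder G) {T : Subgroup G} (h0 : T ≠ ⊥)
    (h1 : T ≠ ⊤) : normalizer (T : Set G) ≠ ⊤ := by
  intro h
  have : IsSimpleGroup G := hG.2.1
  have hn : T.Normal := normalizer_eq_top_iff.mp h
  rcases hn.eq_bot_or_eq_top with h | h
  · exact h0 h
  · exact h1 h

theorem exists_coatom_ge_h71 [Finite G] {K : Subgroup G} (hK : K ≠ ⊤) :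
    ∃ N : Subgroup G, IsCoatom N ∧ K ≤ N :=
  (eq_top_or_exists_le_coatom K).resolve_left hK

theorem exists_prime_card_le_h71 [Finite G] {D : Subgroup G} (hD : D ≠ ⊥) :
    ∃ t : ℕ, t.Prime ∧ ∃ T : Subgroup G, T ≤ D ∧ Nat.card T = t := by
  have hc : Nat.card D ≠ 1 := by
    intro h
    exact hD ((Subgroup.card_eq_one).mp h)
  obtain ⟨t, ht, htd⟩ := Nat.exists_prime_and_dvd hc
  have : Fact t.Prime := ⟨ht⟩
  obtain ⟨x, hx⟩ := exists_prime_orderOf_dvd_card' t htd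
  refine ⟨t, ht, zpowers (x : G), ?_, ?_⟩
  · rw [zpowers_le]; exact x.2
  · rw [Nat.card_zpowers, Subgroup.orderOf_coe, hx]

theorem false_of_elemAb_sq_le_h71 {p : ℕ} [hp : Fact p.Prime] {M A : Subgroup G}
    (hpr : PRankLE p 1 ↥M) (hAM : A ≤ M) (hAe : IsElementaryAbelian p A)
    (hAc : Nat.card A = p ^ 2) : False := by
  have hcomm : IsMulCommutative (A.subgroupOf M) := by
    refine ⟨⟨fun a b => ?_⟩⟩
    have := hAe.1.is_comm.comm ⟨a.1.1, a.2⟩ ⟨b.1.1, b.2⟩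
    have h' : (a.1.1 : G) * b.1.1 = b.1.1 * a.1.1 := congrArg Subtype.val this
    apply Subtype.ext; apply Subtype.ext
    exact h'
  have hexp : ∀ a ∈ A.subgroupOf M, a ^ p = 1 := by
    intro a ha
    apply Subtype.ext
    rw [Subgroup.coe_pow]
    exact hAe.2 a.1 ha
  have hle := hpr (A.subgroupOf M) hcomm hexp
  have hcard : Nat.card (A.subgroupOf M) = p ^ 2 := by
    rw [← hAc]
    exact Nat.card_congr (Subgroup.subgroupOfEquivOfLe hAM).toEquiv
  rw [hcard, pow_one] at hle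
  have h2 := hp.out.two_le
  nlinarith

theorem mem_of_not_dvd_index_h71 {K : Type*} [Group K] [Finite K] (N : Subgroup K) [N.Normal]
    {q : ℕ} [Fact q.Prime] (h : ¬ q ∣ N.index) {x : K} (hx : ∃ k : ℕ, orderOf x = q ^ k) :
    x ∈ N := by
  have hq : q.Prime := Fact.out
  obtain ⟨k, hk⟩ := hx
  have h1 : orderOf (QuotientGroup.mk' N x) ∣ q ^ k := hk ▸ orderOf_map_dvd _ x
  have h2 : orderOf (QuotientGroup.mk' N x) ∣ N.index := by
    rw [Subgroup.index_eq_card]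
    exact orderOf_dvd_natCard _
  have hcop : (q ^ k).Coprime N.index :=
    Nat.Coprime.pow_left k ((Nat.Prime.coprime_iff_not_dvd hq).mpr h)
  have h3 : orderOf (QuotientGroup.mk' N x) = 1 :=
    Nat.eq_one_of_dvd_coprimes hcop h1 h2
  rw [orderOf_eq_one_iff] at h3
  exact (QuotientGroup.eq_one_iff x).mp h3

/-- for `q ∈ σ(M)` every `q`-subgroup of `M` lies in `M_σ` (as in Helper47.BG11a) -/
theorem le_sigmaCore_of_sigma_h71 [Finite G] {M X : Subgroup G}
    (hσ : IsPiHallOf (sigma M) (sigmaCore M) M) {q : ℕ} [Fact q.Prime]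
    (hq : q ∈ sigma M) (hXM : X ≤ M) (hX : IsPGroup q X) : X ≤ sigmaCore M := by
  have hidx : ¬ q ∣ (piCore (sigma M) ↥M).index := by
    have h := hσ.2.2 q Fact.out hq
    have : (sigmaCore M).subgroupOf M = piCore (sigma M) ↥M := by
      rw [sigmaCore, subgroupOf, comap_map_eq_self_of_injective M.subtype_injective]
    rwa [relIndex, this] at h
  intro x hx
  have hxo : ∃ k : ℕ, orderOf (⟨x, hXM hx⟩ : ↥M) = q ^ k := by
    obtain ⟨k, hk⟩ := (IsPGroup.iff_orderOf.mp hX) ⟨x, hx⟩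
    refine ⟨k, ?_⟩
    rw [← hk, ← Subgroup.orderOf_coe, ← Subgroup.orderOf_coe]
  have := mem_of_not_dvd_index_h71 (piCore (sigma M) ↥M) hidx hxo
  exact ⟨⟨x, hXM hx⟩, this, rfl⟩

/-- **PIECE S4, core form.** -/
theorem cent_inf_cent_eq_bot_core [Finite G] (hG : IsMinSimpleOddOrder G) (hσ : SigmaHallAll G)
    (hE0 : E0Stmt G) {M : Subgroup G} (hM : IsCoatom M) {p : ℕ} [hp : Fact p.Prime]
    (hpr : PRankLE p 1 ↥M) {X A : Subgroup G} (hX : Nat.card X = p) (hXM : X ≤ M)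
    (hXA : X ≤ A) (hAe : IsElementaryAbelian p A) (hAc : Nat.card A = p ^ 2) :
    sigmaCore M ⊓ centralizer (X : Set G) ⊓ centralizer (A : Set G) = ⊥ := by
  by_contra hne
  obtain ⟨t, ht, T, hTD, hTc⟩ := exists_prime_card_le_h71 hne
  have : Fact t.Prime := ⟨ht⟩
  have hTσ : T ≤ sigmaCore M := hTD.trans (inf_le_left.trans inf_le_left)
  have hTA : T ≤ centralizer (A : Set G) := hTD.trans inf_le_right
  have hσM : sigmaCore M ≤ M := map_subtype_le _
  have htσ : t ∈ sigma M := (hσ M hM).2.1 t ht (hTc ▸ Subgroup.card_dvd_of_le hTσ)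
  have hTt : IsPGroup t T := IsPGroup.of_card (n := 1) (by rw [hTc, pow_one])
  have hT1 : T ≠ ⊥ := by
    intro h
    rw [h, Subgroup.card_bot] at hTc
    exact ht.one_lt.ne hTc
  have hTM : T ≤ M := hTσ.trans hσM
  have hTtop : T ≠ ⊤ := fun h => hM.1 (top_le_iff.mp (h ▸ hTM))
  obtain ⟨N, hN, hNTN⟩ := exists_coatom_ge_h71 (normalizer_ne_top_h71 hG hT1 hTtop)
  have hAN : A ≤ N := by
    have h1 : A ≤ centralizer (T : Set G) := le_centralizer_iff.mp hTA
    exact h1.trans ((centralizer_le_normalizer (T : Set G)).trans hNTN)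
  have hNM : N ≠ M := by
    rintro rfl
    exact false_of_elemAb_sq_le_h71 hpr hAN hAe hAc
  obtain ⟨-, hcompl, hbot⟩ := hE0 M N hM hN hNM t htσ T hTt hT1 hTM hNTN
  have hXp : IsPGroup p X := IsPGroup.of_card (n := 1) (by rw [hX, pow_one])
  have hpN : ¬ p ∣ Nat.card (sigmaCore N) := by
    intro hdvd
    have hpσN : p ∈ sigma N := (hσ N hN).2.1 p hp.out hdvd
    have hXσ : X ≤ sigmaCore N := le_sigmaCore_of_sigma_h71 (hσ N hN) hpσN (hXA.trans hAN) hXp
    have hXb : X ≤ sigmaCore N ⊓ M := le_inf hXσ hXM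
    rw [hbot, le_bot_iff] at hXb
    rw [hXb, Subgroup.card_bot] at hX
    exact hp.out.one_lt.ne hX
  have hrel : ¬ p ∣ (M ⊓ N).relIndex N := by
    rw [relIndex_eq_of_isComplIn_h71 hcompl]; exact hpN
  have hAp : IsPGroup p A := IsPGroup.of_card hAc
  obtain ⟨n, -, hn⟩ := Cfsg.Agent.Lib.Helper71.OddClass.exists_conj_mem_of_relIndex N (M ⊓ N) A hAN hAp hrel
  -- the conjugate `n⁻¹ A n` lies in `M`
  let φ : G →* G := (MulAut.conj n⁻¹).toMonoidHom
  have hφ : ∀ a, φ a = n⁻¹ * a * n := fun a => by simp [φ]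
  have hBM : A.map φ ≤ M := by
    rintro _ ⟨a, ha, rfl⟩
    rw [hφ]; exact (hn a ha).1
  have hBe : IsElementaryAbelian p (A.map φ) := by
    refine ⟨⟨⟨?_⟩⟩, ?_⟩
    · rintro ⟨_, a, ha, rfl⟩ ⟨_, b, hb, rfl⟩
      apply Subtype.ext
      have := hAe.1.is_comm.comm ⟨a, ha⟩ ⟨b, hb⟩
      have h' : a * b = b * a := congrArg Subtype.val this
      show φ a * φ b = φ b * φ a
      rw [← map_mul, ← map_mul, h']
    · rintro _ ⟨a, ha, rfl⟩
      rw [← map_pow, hAe.2 a ha, map_one]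
  have hBc : Nat.card (A.map φ) = p ^ 2 := by
    rw [← hAc]
    exact Nat.card_congr (A.equivMapOfInjective φ (MulAut.conj n⁻¹).injective).toEquiv.symm
  exact false_of_elemAb_sq_le_h71 hpr hBM hBe hBc

end Cfsg.Agent.Lib.Helper71.BG142S4
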