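import Cfsg.Agent.Lib.Helper71.BG142S4
import Cfsg.Agent.Lib.Helper70.BG14E0
import Cfsg.Agent.Lib.Helper47.BG11e
import Cfsg.Agent.S1417

/-!
# BG Theorem 14.2, PIECE S4 of helper32's plan, exact-name wrapper

`cent_inf_cent_eq_bot` with the statement of the plan: PIECE E0 comes from helper70's
`tau2_of_sigma_normalizer` and S1417(e); the Hall property of `M_σ` from helper47.
-/

set_option autoImplicit false
universe u

namespace Cfsg.Agent.Lib.Helper32.BG142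

open Subgroup Cfsg Cfsg.Agent.Lib.Helper71.BG142S4

variable {G : Type u} [Group G] [Finite G]

/-- PIECE E0 in the shape of the plan (three conjuncts). -/
theorem inf_isComplIn_of_normalizer_le_h71 (hG : IsMinSimpleOddOrder G) (h139 : SigmaDisj G)
    {M N : Subgroup G} (hM : IsCoatom M) (hN : IsCoatom N) (hne : N ≠ M) {q : ℕ} [Fact q.Prime]
    (hq : q ∈ sigma M) {C : Subgroup G} (hCq : IsPGroup q C) (hC1 : C ≠ ⊥) (hCM : C ≤ M)
    (hNC : normalizer (C : Set G) ≤ N) :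
    q ∈ tau2 N ∧ IsComplIn (M ⊓ N) (sigmaCore N) N ∧ sigmaCore N ⊓ M = ⊥ := by
  obtain ⟨ht2, hcompl, A, hAMN, hAe, hAc, -⟩ :=
    Cfsg.Agent.Lib.Helper70.BG14.tau2_of_sigma_normalizer hG h139 hM hN hne hq hCq hC1 hCM hNC
  refine ⟨ht2, hcompl, ?_⟩
  exact (Cfsg.Agent.S1417.result hG N hN q ht2 A
    ⟨hAMN.trans inf_le_right, hAe, hAc⟩).2.2.2.2.1 M hM hne.symm (hAMN.trans inf_le_left)

theorem e0Stmt_h71 (hG : IsMinSimpleOddOrder G) (h139 : SigmaDisj G) : E0Stmt G :=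
  fun _ _ hM hN hne _ _ hq _ hCq hC1 hCM hNC =>
    inf_isComplIn_of_normalizer_le_h71 hG h139 hM hN hne hq hCq hC1 hCM hNC

/-- **PIECE S4** of the 14.2 plan, exact statement. -/
theorem cent_inf_cent_eq_bot (hG : IsMinSimpleOddOrder G) (h139 : SigmaDisj G)
    {M : Subgroup G} (hM : IsCoatom M) {p : ℕ} [Fact p.Prime] (_hpσ : p ∉ sigma M)
    (hpr : PRankLE p 1 ↥M) {X A : Subgroup G} (hX : Nat.card X = p) (hXM : X ≤ M)
    (hXA : X ≤ A) (hAe : IsElementaryAbelian p A) (hAc : Nat.card A = p ^ 2) :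
    sigmaCore M ⊓ centralizer (X : Set G) ⊓ centralizer (A : Set G) = ⊥ :=
  cent_inf_cent_eq_bot_core hG
    (fun _ hH => Cfsg.Agent.Lib.Helper47.BG11.sigmaHallIn_of_coatom hG hH)
    (e0Stmt_h71 hG h139) hM hpr hX hXM hXA hAe hAc

end Cfsg.Agent.Lib.Helper32.BG142
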