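import Mathlib
import Cfsg.Agent.Lib.Helper35.Frobenius
import Cfsg.Agent.Lib.Helper35.FrobeniusCount
import Cfsg.Agent.Lib.Helper35.FrobeniusMod
import Cfsg.Agent.Lib.Helper35.FrobeniusConj

set_option autoImplicit false

/-! Frobenius complements containing a central involution: the Frobenius kernel is an abelian
normal subgroup inverted by the involution (elementary argument, no character theory). -/

namespace Cfsg.Agent.Lib.Helper71.Bender

open Cfsg.Agent.Lib.Helper35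
open scoped Pointwise

variable {G : Type*} [Group G] {H : Subgroup G}

theorem kernel_inv {x : G} (hx : x ∈ Cfsg.frobeniusKernel H) : x⁻¹ ∈ Cfsg.frobeniusKernel H := by
  rcases hx with rfl | hx
  · left; simp
  · right
    intro g hg
    apply hx g
    have := Subgroup.inv_mem _ hg
    rwa [inv_inv] at this

theorem kernel_conj {x : G} (hx : x ∈ Cfsg.frobeniusKernel H) (c : G) :
    c * x * c⁻¹ ∈ Cfsg.frobeniusKernel H := by
  rcases hx with rfl | hx
  · left; group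
  · right
    intro g hg
    apply hx (c⁻¹ * g)
    rw [mem_conj_smul] at hg ⊢
    convert hg using 1
    group

theorem kernel_inter {x : G} (hx : x ∈ Cfsg.frobeniusKernel H) (hxH : x ∈ H) : x = 1 := by
  rcases hx with rfl | hx
  · rfl
  · exfalso
    apply hx 1
    rw [mem_conj_smul]
    simpa using hxH

/-- If `s` inverts `x ≠ 1` and `x` lies in the conjugate `y H y⁻¹`, then so does `s`. -/
theorem mem_conj_of_inverts (hH : Cfsg.IsFrobeniusComplement H) {s x y : G} (hx1 : x ≠ 1)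
    (hxy : x ∈ MulAut.conj y • H) (hs : s * x * s⁻¹ = x⁻¹) : s ∈ MulAut.conj y • H := by
  have h1 : x⁻¹ ∈ MulAut.conj y • H := Subgroup.inv_mem _ hxy
  have h2 : x⁻¹ ∈ MulAut.conj (s * y) • H := by
    rw [mem_conj_smul, ← hs]
    rw [mem_conj_smul] at hxy
    convert hxy using 1
    group
  have h3 := inv_mul_mem_of_mem_conj_conj hH (inv_ne_one.mpr hx1) h1 h2
  rw [mem_conj_smul]
  convert h3 using 1
  group

/-- The product of two involutions from different conjugates of `H` lies in the kernel. -/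
theorem mul_mem_kernel (hH : Cfsg.IsFrobeniusComplement H) {s s' a b : G} (hs1 : s ≠ 1)
    (hs : s * s = 1) (hs'1 : s' ≠ 1) (hs' : s' * s' = 1) (hsa : s ∈ MulAut.conj a • H)
    (hsb : s' ∈ MulAut.conj b • H) (hab : a⁻¹ * b ∉ H) : s * s' ∈ Cfsg.frobeniusKernel H := by
  by_cases hx1 : s * s' = 1
  · left; exact hx1
  right
  intro y hy
  have hsinv : s⁻¹ = s := inv_eq_of_mul_eq_one_left hs
  have hs'inv : s'⁻¹ = s' := inv_eq_of_mul_eq_one_left hs'
  have i1 : s * (s * s') * s⁻¹ = (s * s')⁻¹ := by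
    rw [mul_inv_rev, hsinv, hs'inv, ← mul_assoc, hs, one_mul]
  have i2 : s' * (s * s') * s'⁻¹ = (s * s')⁻¹ := by
    rw [mul_inv_rev, hsinv, hs'inv, mul_assoc, mul_assoc, hs', mul_one]
  have m1 := mem_conj_of_inverts hH hx1 hy i1
  have m2 := mem_conj_of_inverts hH hx1 hy i2
  have k1 := inv_mul_mem_of_mem_conj_conj hH hs1 hsa m1
  have k2 := inv_mul_mem_of_mem_conj_conj hH hs'1 hsb m2
  apply hab
  have : a⁻¹ * b = (a⁻¹ * y) * (b⁻¹ * y)⁻¹ := by group
  rw [this]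
  exact H.mul_mem k1 (H.inv_mem k2)

section main

variable [Finite G] (hH : Cfsg.IsFrobeniusComplement H) {t : G} (htH : t ∈ H) (ht1 : t ≠ 1)
  (ht2 : t * t = 1) (htc : ∀ h ∈ H, h * t = t * h)

include ht1 in
omit [Finite G] in
theorem cjt_ne_one (g : G) : g * t * g⁻¹ ≠ 1 := by
  intro h
  apply ht1
  have : t = g⁻¹ * (g * t * g⁻¹) * g := by group
  rw [this, h]; group

include ht2 in
omit [Finite G] in
theorem cjt_sq (g : G) : (g * t * g⁻¹) * (g * t * g⁻¹) = 1 := by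
  have : (g * t * g⁻¹) * (g * t * g⁻¹) = g * (t * t) * g⁻¹ := by group
  rw [this, ht2]; group

include htc in
omit [Finite G] in
theorem cjt_eq_of_mem {g g' : G} (h : g'⁻¹ * g ∈ H) : g * t * g⁻¹ = g' * t * g'⁻¹ := by
  have hc := htc _ h
  have e : g = g' * (g'⁻¹ * g) := by group
  calc g * t * g⁻¹ = g' * ((g'⁻¹ * g) * t) * (g'⁻¹ * g)⁻¹ * g'⁻¹ := by group
    _ = g' * (t * (g'⁻¹ * g)) * (g'⁻¹ * g)⁻¹ * g'⁻¹ := by rw [hc]
    _ = g' * t * g'⁻¹ := by group

include hH htH ht1 ht2 htc in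
omit [Finite G] in
theorem t_mul_cjt_mem (g : G) : t * (g * t * g⁻¹) ∈ Cfsg.frobeniusKernel H := by
  by_cases hg : g ∈ H
  · left
    have h1 : g * t * g⁻¹ = 1 * t * 1⁻¹ := cjt_eq_of_mem htc (by simpa using hg)
    rw [h1]; simpa using ht2
  · apply mul_mem_kernel hH (a := 1) (b := g) ht1 ht2 (cjt_ne_one ht1 g) (cjt_sq ht2 g)
    · rw [mem_conj_smul]; simpa using htH
    · exact conj_mem_conj_smul htH
    · simpa using hg

include hH htH ht1 ht2 htc in
theorem exists_eq_t_mul_cjt {x : G} (hx : x ∈ Cfsg.frobeniusKernel H) :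
    ∃ g : G, x = t * (g * t * g⁻¹) := by
  let φ : G ⧸ H → Cfsg.frobeniusKernel H := fun q =>
    ⟨t * (q.out * t * q.out⁻¹), t_mul_cjt_mem hH htH ht1 ht2 htc q.out⟩
  have hinj : Function.Injective φ := by
    intro q q' hqq
    have h1 : t * (q.out * t * q.out⁻¹) = t * (q'.out * t * q'.out⁻¹) := congrArg Subtype.val hqq
    have h2 : q.out * t * q.out⁻¹ = q'.out * t * q'.out⁻¹ := mul_left_cancel h1
    have h3 : q.out⁻¹ * q'.out ∈ H := by
      apply inv_mul_mem_of_mem_conj_conj hH (cjt_ne_one ht1 q.out) (conj_mem_conj_smul htH)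
      rw [h2]
      exact conj_mem_conj_smul htH
    rw [← QuotientGroup.out_eq' q, ← QuotientGroup.out_eq' q']
    exact QuotientGroup.eq.mpr h3
  have hcard : Nat.card (Cfsg.frobeniusKernel H) ≤ Nat.card (G ⧸ H) := by
    rw [card_frobeniusKernel hH, Subgroup.index_eq_card]
  have hfin : Finite (Cfsg.frobeniusKernel H) := Subtype.finite
  have hbij := hinj.bijective_of_nat_card_le hcard
  obtain ⟨q, hq⟩ := hbij.2 ⟨x, hx⟩
  exact ⟨q.out, (congrArg Subtype.val hq).symm⟩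

include hH htH ht1 ht2 htc in
theorem t_inverts {x : G} (hx : x ∈ Cfsg.frobeniusKernel H) : t * x * t⁻¹ = x⁻¹ := by
  obtain ⟨g, rfl⟩ := exists_eq_t_mul_cjt hH htH ht1 ht2 htc hx
  have htinv : t⁻¹ = t := inv_eq_of_mul_eq_one_left ht2
  have hsinv : (g * t * g⁻¹)⁻¹ = g * t * g⁻¹ := inv_eq_of_mul_eq_one_left (cjt_sq ht2 g)
  rw [mul_inv_rev, hsinv, htinv, ← mul_assoc, ht2, one_mul]

include hH htH ht1 ht2 htc in
theorem mul_mem {a b : G} (ha : a ∈ Cfsg.frobeniusKernel H) (hb : b ∈ Cfsg.frobeniusKernel H) :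
    a * b ∈ Cfsg.frobeniusKernel H := by
  obtain ⟨g', hg'⟩ := exists_eq_t_mul_cjt hH htH ht1 ht2 htc (kernel_inv ha)
  obtain ⟨g, hg⟩ := exists_eq_t_mul_cjt hH htH ht1 ht2 htc hb
  have htinv : t⁻¹ = t := inv_eq_of_mul_eq_one_left ht2
  have hsinv : (g' * t * g'⁻¹)⁻¹ = g' * t * g'⁻¹ := inv_eq_of_mul_eq_one_left (cjt_sq ht2 g')
  have ha' : a = (g' * t * g'⁻¹) * t := by
    have : a = (a⁻¹)⁻¹ := (inv_inv a).symm
    rw [this, hg', mul_inv_rev, hsinv, htinv]
  have hab : a * b = (g' * t * g'⁻¹) * (g * t * g⁻¹) := by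
    rw [ha', hg]
    calc g' * t * g'⁻¹ * t * (t * (g * t * g⁻¹)) = g' * t * g'⁻¹ * (t * t) * (g * t * g⁻¹) := by
          group
      _ = g' * t * g'⁻¹ * (g * t * g⁻¹) := by rw [ht2, mul_one]
  rw [hab]
  by_cases hgg : g'⁻¹ * g ∈ H
  · left
    rw [cjt_eq_of_mem htc hgg]
    exact cjt_sq ht2 g'
  · exact mul_mem_kernel hH (cjt_ne_one ht1 g') (cjt_sq ht2 g') (cjt_ne_one ht1 g) (cjt_sq ht2 g)
      (conj_mem_conj_smul htH) (conj_mem_conj_smul htH) hgg

include hH htH ht1 ht2 htc in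
/-- The Frobenius kernel of a complement with a central involution `t` is an abelian normal
subgroup inverted by `t`. -/
theorem exists_kernel_subgroup :
    ∃ K : Subgroup G, (K : Set G) = Cfsg.frobeniusKernel H ∧ (∀ x ∈ K, t * x * t⁻¹ = x⁻¹) ∧
      (∀ x ∈ K, ∀ y ∈ K, x * y = y * x) ∧ K.Normal := by
  let K : Subgroup G :=
    { carrier := Cfsg.frobeniusKernel H
      mul_mem' := fun ha hb => mul_mem hH htH ht1 ht2 htc ha hb
      one_mem' := Or.inl rfl
      inv_mem' := fun ha => kernel_inv ha }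
  have hinv : ∀ x ∈ K, t * x * t⁻¹ = x⁻¹ := fun x hx => t_inverts hH htH ht1 ht2 htc hx
  refine ⟨K, rfl, hinv, ?_, ⟨fun x hx c => kernel_conj hx c⟩⟩
  intro x hx y hy
  have h1 := hinv _ (K.mul_mem hx hy)
  have h2 : t * (x * y) * t⁻¹ = (t * x * t⁻¹) * (t * y * t⁻¹) := by group
  rw [h2, hinv x hx, hinv y hy, mul_inv_rev] at h1
  -- h1 : x⁻¹ * y⁻¹ = y⁻¹ * x⁻¹
  have h3 := congrArg (fun z => z⁻¹) h1
  simp only [mul_inv_rev, inv_inv] at h3
  exact h3.symm

end main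

end Cfsg.Agent.Lib.Helper71.Bender
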