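import Cfsg.Agent.Lib.Helper71.Frobenius

set_option autoImplicit false

namespace Cfsg.Agent.Lib.Helper71

universe u

section
variable {D : Type u} [DivisionRing D]

/-- The ℤ-subalgebra of `D` generated by (the image of) a subgroup of units. -/
abbrev RH (H : Subgroup Dˣ) : Subalgebra ℤ D :=
  Algebra.adjoin ℤ ((H.toSubmonoid.map (Units.coeHom D) : Submonoid D) : Set D)

/-- The inclusion of `H` into the subalgebra it generates. -/
def incl (H : Subgroup Dˣ) : H →* RH H where
  toFun h := ⟨((h : Dˣ) : D), Algebra.subset_adjoin ⟨h, h.2, rfl⟩⟩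
  map_one' := by ext; simp
  map_mul' a b := by ext; simp

theorem incl_coe (H : Subgroup Dˣ) (h : H) : ((incl H h : RH H) : D) = ((h : Dˣ) : D) := rfl

theorem incl_injective (H : Subgroup Dˣ) : Function.Injective (incl H) := by
  intro a b hab
  have := congrArg (fun x : RH H => (x : D)) hab
  simp only [incl_coe] at this
  exact Subtype.ext (Units.ext this)

instance RH_finite (H : Subgroup Dˣ) [Finite H] : Module.Finite ℤ (RH H) := by
  have h1 : (Subalgebra.toSubmodule (RH H)).FG := by
    rw [Algebra.adjoin_eq_span, Submonoid.closure_eq]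
    apply Submodule.fg_span
    have : ((H.toSubmonoid.map (Units.coeHom D) : Submonoid D) : Set D) =
        Set.range (fun h : H => ((h : Dˣ) : D)) := by
      ext x
      constructor
      · rintro ⟨u, hu, rfl⟩
        exact ⟨⟨u, hu⟩, rfl⟩
      · rintro ⟨h, rfl⟩
        exact ⟨h, h.2, rfl⟩
    rw [this]
    exact Set.finite_range _
  have h2 : Module.Finite ℤ (Subalgebra.toSubmodule (RH H)) := Module.Finite.iff_fg.mpr h1
  exact Module.Finite.equiv (Subalgebra.toSubmoduleEquiv (RH H))

/-- The finite module `R / pR`. -/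
abbrev VH (H : Subgroup Dˣ) (p : ℕ) : Type u := RH H ⧸ Ideal.span {(p : RH H)}

theorem VH_nat_smul (H : Subgroup Dˣ) (p : ℕ) (v : VH H p) : p • v = 0 := by
  obtain ⟨x, rfl⟩ := Submodule.Quotient.mk_surjective _ v
  rw [← Submodule.Quotient.mk_smul, Submodule.Quotient.mk_eq_zero, Ideal.mem_span_singleton']
  refine ⟨x, ?_⟩
  rw [nsmul_eq_mul, Nat.cast_comm]

instance VH_finite (H : Subgroup Dˣ) [Finite H] (p : ℕ) [NeZero p] : Finite (VH H p) := by
  have h1 : Module.Finite ℤ (VH H p) :=
    Module.Finite.of_surjective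
      ((Submodule.mkQ (Ideal.span {(p : RH H)})).toAddMonoidHom.toIntLinearMap)
      (Submodule.Quotient.mk_surjective _)
  apply Module.finite_of_fg_torsion
  intro v
  refine ⟨⟨(p : ℤ), ?_⟩, ?_⟩
  · rw [mem_nonZeroDivisors_iff_ne_zero]
    exact_mod_cast NeZero.ne p
  · change (p : ℤ) • v = 0
    rw [natCast_zsmul]
    exact VH_nat_smul H p v

/-- `H` acts on `R / pR` by left multiplication. -/
instance VH_action (H : Subgroup Dˣ) (p : ℕ) : DistribMulAction H (VH H p) :=
  DistribMulAction.compHom (VH H p) (incl H)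

theorem VH_smul_def (H : Subgroup Dˣ) (p : ℕ) (h : H) (v : VH H p) : h • v = incl H h • v := rfl

/-- The sum of the powers of a nontrivial element of finite order in a division ring vanishes. -/
theorem geom_sum_incl_eq_zero (H : Subgroup Dˣ) [Finite H] (h : H) (hh : h ≠ 1) :
    ∑ i ∈ Finset.range (orderOf h), (incl H h) ^ i = 0 := by
  have h1 : (∑ i ∈ Finset.range (orderOf h), (incl H h) ^ i) * (incl H h - 1) = 0 := by
    rw [geom_sum_mul, ← map_pow, pow_orderOf_eq_one, map_one, sub_self]
  have h2 : incl H h - 1 ≠ 0 := by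
    intro h0
    apply hh
    apply incl_injective H
    rw [map_one]
    exact sub_eq_zero.mp h0
  have h3 := congrArg (fun x : RH H => (x : D)) h1
  simp only [Subalgebra.coe_mul, Subalgebra.coe_zero] at h3
  rcases mul_eq_zero.mp h3 with h4 | h4
  · exact Subtype.ext h4
  · exfalso
    apply h2
    exact Subtype.ext h4

/-- If `p` is coprime to the order of `h ≠ 1`, then `h` acts freely on `R / pR`. -/
theorem VH_free_of_coprime (H : Subgroup Dˣ) [Finite H] (p : ℕ) (h : H) (hh : h ≠ 1)
    (hcop : (orderOf h).Coprime p) (v : VH H p) (hv : h • v = v) : v = 0 := by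
  rw [VH_smul_def] at hv
  have hpow : ∀ i : ℕ, (incl H h) ^ i • v = v := by
    intro i
    induction i with
    | zero => simp
    | succ i ih => rw [pow_succ, mul_smul, hv, ih]
  have h1 : (∑ i ∈ Finset.range (orderOf h), (incl H h) ^ i) • v = (orderOf h) • v := by
    rw [Finset.sum_smul, Finset.sum_congr rfl (fun i _ => hpow i), Finset.sum_const,
      Finset.card_range]
  rw [geom_sum_incl_eq_zero H h hh, zero_smul] at h1
  have h2 : p • v = 0 := VH_nat_smul H p v
  have h3 : ((Nat.gcd (orderOf h) p : ℕ) : ℤ) • v = 0 := by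
    rw [Nat.gcd_eq_gcd_ab, add_smul, mul_comm _ (Nat.gcdA _ _), mul_comm _ (Nat.gcdB _ _),
      mul_smul, mul_smul, natCast_zsmul, natCast_zsmul, ← h1, h2, smul_zero, smul_zero, add_zero]
  rw [Nat.coprime_iff_gcd_eq_one.mp hcop] at h3
  simpa using h3


theorem VH_nontrivial_of_charZero (H : Subgroup Dˣ) [Finite H] [CharZero D] (p : ℕ) (hp : p.Prime) :
    Nontrivial (VH H p) := by
  rw [Submodule.Quotient.nontrivial_iff]
  intro htop
  have h1 : (1 : RH H) ∈ Ideal.span {(p : RH H)} := by rw [htop]; trivial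
  rw [Ideal.mem_span_singleton'] at h1
  obtain ⟨r, hr⟩ := h1
  have hfg : (⊤ : Submodule ℤ (RH H)).FG := Module.Finite.fg_top
  have hle : (⊤ : Submodule ℤ (RH H)) ≤ (Ideal.span {(p : ℤ)}) • (⊤ : Submodule ℤ (RH H)) := by
    intro y _
    have : y = (p : ℤ) • (y * r) := by
      rw [zsmul_eq_mul, Int.cast_natCast, Nat.cast_comm, mul_assoc, hr, mul_one]
    rw [this]
    exact Submodule.smul_mem_smul (Ideal.mem_span_singleton_self _) trivial
  obtain ⟨z, hz1, hz2⟩ :=
    Submodule.exists_sub_one_mem_and_smul_eq_zero_of_fg_of_le_smul _ _ hfg hle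
  have h2 := hz2 1 trivial
  have h3 : (z : D) = 0 := by
    have := congrArg (fun x : RH H => (x : D)) h2
    simpa using this
  have h4 : z = 0 := by exact_mod_cast h3
  rw [h4, zero_sub, Ideal.mem_span_singleton] at hz1
  have h5 : (p : ℤ) ∣ 1 := (dvd_neg.mp hz1)
  have h6 : p ∣ 1 := by exact_mod_cast h5
  exact hp.one_lt.ne' (Nat.dvd_one.mp h6)

theorem exists_frobenius_of_subgroup_units (H : Subgroup Dˣ) [Finite H] (hH : H ≠ ⊥) :
    ∃ (L : Type) (_ : Group L) (_ : Finite L) (C : Subgroup L),
      Cfsg.IsFrobeniusComplement C ∧ Nonempty (H ≃* C) := by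
  have : Nontrivial H := (Subgroup.nontrivial_iff_ne_bot H).mpr hH
  obtain ⟨q, hq⟩ := CharP.exists D
  rcases Nat.eq_zero_or_pos q with hq0 | hqpos
  · subst hq0
    have : CharZero D := CharP.charP_to_charZero D
    obtain ⟨p, hp1, hp2⟩ := Nat.exists_infinite_primes (Nat.card H + 1)
    have : NeZero p := ⟨hp2.ne_zero⟩
    have : Nontrivial (VH H p) := VH_nontrivial_of_charZero H p hp2
    apply exists_frobenius_of_free_distribMulAction (H := H) (V := VH H p)
    intro h v hv
    by_cases hh : h = 1
    · exact Or.inl hh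
    · right
      apply VH_free_of_coprime H p h hh _ v hv
      have h1 : orderOf h ≤ Nat.card H := Nat.le_of_dvd Nat.card_pos (orderOf_dvd_natCard h)
      have h2 : orderOf h < p := by omega
      exact ((Nat.Prime.coprime_iff_not_dvd hp2).mpr
        (Nat.not_dvd_of_pos_of_lt (orderOf_pos h) h2)).symm
  · have : NeZero q := ⟨hqpos.ne'⟩
    have hq0 : (q : RH H) = 0 := by
      apply Subtype.ext
      have : ((q : RH H) : D) = (q : D) := by norm_cast
      rw [this, Subalgebra.coe_zero]
      exact CharP.cast_eq_zero D q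
    have hI : Ideal.span {(q : RH H)} = ⊥ := by rw [hq0]; simp
    have : Nontrivial (RH H) := ⟨⟨0, 1, fun h => by
      have := congrArg (fun x : RH H => (x : D)) h
      simp at this⟩⟩
    have : Nontrivial (VH H q) := by
      rw [Submodule.Quotient.nontrivial_iff, hI]
      exact bot_ne_top
    apply exists_frobenius_of_free_distribMulAction (H := H) (V := VH H q)
    intro h v hv
    by_cases hh : h = 1
    · exact Or.inl hh
    · right
      obtain ⟨x, rfl⟩ := Submodule.Quotient.mk_surjective _ v
      rw [VH_smul_def, ← Submodule.Quotient.mk_smul, Submodule.Quotient.eq, hI,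
        Submodule.mem_bot, smul_eq_mul] at hv
      have h1 : (incl H h - 1) * x = 0 := by rw [sub_mul, one_mul]; exact hv
      have h2 := congrArg (fun y : RH H => (y : D)) h1
      simp only [Subalgebra.coe_mul, Subalgebra.coe_zero] at h2
      rcases mul_eq_zero.mp h2 with h3 | h3
      · exfalso
        apply hh
        apply incl_injective H
        rw [map_one]
        exact sub_eq_zero.mp (Subtype.ext h3)
      · have : x = 0 := Subtype.ext h3
        rw [this]; rfl

end

end Cfsg.Agent.Lib.Helper71
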