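import Cfsg.Agent.Lib.Helper83.FpDefs

/-! # Fp hive (helper83, S2276): leaf FP-B2 `b2` (helper71) -/

set_option autoImplicit false

namespace Cfsg.Agent.Lib.Helper83.Fp

open Equiv

/-- the embedding `Fin e ↪ Fin m`, `j ↦ s + j` -/
def fpb2_emb (s e m : ℕ) (h : s + e ≤ m) : Fin e ↪ Fin m :=
  ⟨fun j => ⟨s + j.val, by have := j.isLt; omega⟩, fun a b hab =>
    Fin.ext (Nat.add_left_cancel (congrArg Fin.val hab))⟩

theorem fpb2_emb_val (s e m : ℕ) (h : s + e ≤ m) (j : Fin e) : (fpb2_emb s e m h j).val = s + j.val := rfl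

theorem fpb2_finRotate_val (n : ℕ) (j : Fin (n + 2)) : (finRotate (n + 2) j).val = (j.val + 1) % (n + 2) := by
  rw [finRotate_apply, Fin.val_add, Fin.val_one]

/-- a forward arc on the block `[s, s + n + 2)` -/
theorem fpb2_arc_exists (m s n : ℕ) (h : s + (n + 2) ≤ m) : ∃ A : Perm (Fin m), A.cycleType = {n + 2} ∧
    (∀ x : Fin m, (x.val < s ∨ s + (n + 2) ≤ x.val) → A x = x) ∧
    (∀ x : Fin m, s ≤ x.val → x.val < s + (n + 2) → (A x).val = s + (x.val - s + 1) % (n + 2)) := by
  refine ⟨(finRotate (n + 2)).viaFintypeEmbedding (fpb2_emb s (n + 2) m h), ?_, ?_, ?_⟩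
  · simp [Equiv.Perm.viaFintypeEmbedding, cycleType_finRotate]
  · intro x hx
    apply Equiv.Perm.viaFintypeEmbedding_apply_notMem_range
    rintro ⟨j, rfl⟩
    have hv := fpb2_emb_val s (n + 2) m h j
    have := j.isLt
    rw [hv] at hx
    omega
  · intro x h1 h2
    have hx : x = fpb2_emb s (n + 2) m h ⟨x.val - s, by omega⟩ := by
      apply Fin.ext
      rw [fpb2_emb_val]
      simp only
      omega
    rw [hx, Equiv.Perm.viaFintypeEmbedding_apply_image, fpb2_emb_val, fpb2_finRotate_val, fpb2_emb_val]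
    simp only [Nat.add_sub_cancel_left]

/-- the tail: forward arcs on consecutive blocks after `s` -/
theorem fpb2_tail (m : ℕ) (t : Multiset ℕ) : ∀ s : ℕ, (∀ x ∈ t, 3 ≤ x) → s + t.sum ≤ m →
    ∃ σ : Perm (Fin m), σ.cycleType = t ∧ (∀ x : Fin m, x.val < s → σ x = x) ∧
      ∀ x : Fin m, (σ x).val + 1 ≠ x.val := by
  induction t using Multiset.induction_on with
  | empty =>
    intro s _ _
    exact ⟨1, by simp, fun _ _ => rfl, fun x => by simp⟩
  | cons e t ih =>
    intro s h3 hsum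
    have he : 3 ≤ e := h3 e (Multiset.mem_cons_self e t)
    rw [Multiset.sum_cons] at hsum
    obtain ⟨σ', hct, hfix, hne⟩ :=
      ih (s + e) (fun x hx => h3 x (Multiset.mem_cons_of_mem hx)) (by omega)
    obtain ⟨n, rfl⟩ : ∃ n, e = n + 2 := ⟨e - 2, by omega⟩
    have hse : s + (n + 2) ≤ m := by omega
    obtain ⟨A, hAct, hAout, hAin⟩ := fpb2_arc_exists m s n hse
    have hdisj : Equiv.Perm.Disjoint A σ' := by
      intro x
      by_cases hx : x.val < s + (n + 2)
      · right; exact hfix x hx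
      · left; exact hAout x (Or.inr (by omega))
    have hσ'ge : ∀ x : Fin m, s + (n + 2) ≤ x.val → s + (n + 2) ≤ (σ' x).val := by
      intro x hx
      by_contra hlt
      have h1 := hfix (σ' x) (by omega)
      have h2 : σ' x = x := σ'.injective h1
      rw [h2] at hlt
      omega
    refine ⟨A * σ', ?_, ?_, ?_⟩
    · rw [hdisj.cycleType_mul, hct, hAct, Multiset.singleton_add]
    · intro x hx
      rw [Equiv.Perm.mul_apply, hfix x (by omega), hAout x (Or.inl hx)]
    · intro x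
      rw [Equiv.Perm.mul_apply]
      by_cases hx : x.val < s + (n + 2)
      · rw [hfix x hx]
        by_cases hx2 : x.val < s
        · rw [hAout x (Or.inl hx2)]; omega
        · rw [hAin x (by omega) hx]
          rcases Nat.lt_or_ge (x.val - s + 1) (n + 2) with h4 | h4
          · rw [Nat.mod_eq_of_lt h4]; omega
          · have h5 : x.val - s + 1 = n + 2 := by omega
            rw [h5, Nat.mod_self]; omega
      · rw [hAout _ (Or.inr (hσ'ge x (by omega)))]
        exact hne x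

theorem fpb2_isRot_one {m : ℕ} (L : ℕ) : IsRot (1 : Perm (Fin m)) 0 L := by
  intro x
  by_cases h : x.val < L
  · rw [if_pos h, Nat.add_zero, Nat.mod_eq_of_lt h]; rfl
  · rw [if_neg h]; rfl

theorem fpb2_isRot_mul {m : ℕ} {L r₁ r₂ : ℕ} (hL : 0 < L) {y₁ y₂ : Perm (Fin m)} (h₁ : IsRot y₁ r₁ L)
    (h₂ : IsRot y₂ r₂ L) : IsRot (y₁ * y₂) (r₂ + r₁) L := by
  intro x
  have e1 := h₁ (y₂ x)
  have e2 := h₂ x
  rw [Equiv.Perm.mul_apply, e1, e2]
  by_cases h : x.val < L
  · simp only [h, Nat.mod_lt _ hL, ↓reduceIte, Nat.mod_add_mod, Nat.add_assoc]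
  · simp only [h, ↓reduceIte]

theorem fpb2_isRot_pow {m : ℕ} {L r : ℕ} (hL : 0 < L) {y : Perm (Fin m)} (h : IsRot y r L) (k : ℕ) :
    IsRot (y ^ k) (k * r) L := by
  induction k with
  | zero => rw [pow_zero, Nat.zero_mul]; exact fpb2_isRot_one L
  | succ k ih => rw [pow_succ', Nat.succ_mul]; exact fpb2_isRot_mul hL h ih

theorem fpb2_card_Ico (m l : ℕ) (hl : l ≤ m) :
    (Finset.univ.filter fun x : Fin m => 1 ≤ x.val ∧ x.val < l).card = l - 1 := by
  have h : (Finset.univ.filter fun x : Fin m => 1 ≤ x.val ∧ x.val < l).map Fin.valEmbedding =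
      Finset.Ico 1 l := by
    ext a
    simp only [Finset.mem_map, Finset.mem_filter, Finset.mem_univ, true_and, Fin.valEmbedding_apply,
      Finset.mem_Ico]
    constructor
    · rintro ⟨x, hx, rfl⟩; exact hx
    · intro ha; exact ⟨⟨a, by omega⟩, ha, rfl⟩
  rw [← Finset.card_map, h, Nat.card_Ico]

/-- FP-B2 -/
theorem b2 : B2Stmt := by
  intro p hp hp3 m l t hpp hlt hsum hlm
  obtain ⟨i, hi1, hli⟩ := hpp l (Multiset.mem_cons_self l t)
  have ht3 : ∀ x ∈ t, 3 ≤ x := by
    intro x hx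
    obtain ⟨j, hj1, rfl⟩ := hpp x (Multiset.mem_cons_of_mem hx)
    exact hp3.trans (Nat.le_self_pow (by omega) p)
  have hl3 : 3 ≤ l := by rw [hli]; exact hp3.trans (Nat.le_self_pow (by omega) p)
  rw [Multiset.sum_cons] at hsum
  obtain ⟨m', rfl⟩ : ∃ m', m = m' + 1 := ⟨m - 1, by omega⟩
  obtain ⟨σ, hσct, hσfix, hσne⟩ := fpb2_tail (m' + 1) t l ht3 hsum
  obtain ⟨n, rfl⟩ : ∃ n, l = n + 2 := ⟨l - 2, by omega⟩
  obtain ⟨F, hFct, hFout, hFin⟩ := fpb2_arc_exists (m' + 1) 0 n (by omega)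
  have hFin' : ∀ x : Fin (m' + 1), x.val < n + 2 → (F x).val = (x.val + 1) % (n + 2) := by
    intro x hx
    have := hFin x (Nat.zero_le _) (by omega)
    rw [this, Nat.zero_add, Nat.sub_zero]
  have hFout' : ∀ x : Fin (m' + 1), n + 2 ≤ x.val → F x = x := fun x hx => hFout x (Or.inr (by omega))
  have hFrot : IsRot F 1 (n + 2) := by
    intro x
    by_cases h : x.val < n + 2
    · rw [if_pos h, hFin' x h]
    · rw [if_neg h, hFout' x (by omega)]
  have hFF : ∀ x, F (F⁻¹ x) = x := fun x => F.apply_symm_apply x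
  have hdisj : Equiv.Perm.Disjoint F σ := by
    intro x
    by_cases hx : x.val < n + 2
    · right; exact hσfix x hx
    · left; exact hFout' x (by omega)
  have hdisj' : Equiv.Perm.Disjoint F⁻¹ σ := hdisj.inv_left
  have hσge : ∀ x : Fin (m' + 1), n + 2 ≤ x.val → n + 2 ≤ (σ x).val := by
    intro x hx
    by_contra hlt
    have h1 := hσfix (σ x) (by omega)
    have h2 : σ x = x := σ.injective h1
    rw [h2] at hlt
    omega
  -- the exponent
  obtain ⟨i', rfl⟩ : ∃ i', i = i' + 1 := ⟨i - 1, by omega⟩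
  have hN : n + 2 = p ^ i' * p := by rw [hli, pow_succ]
  have hNpos : 0 < p ^ i' := Nat.pos_of_ne_zero (pow_ne_zero _ hp.ne_zero)
  have hσN : σ ^ (p ^ i') = 1 := by
    rw [← orderOf_dvd_iff_pow_eq_one, ← Equiv.Perm.lcm_cycleType, hσct, Multiset.lcm_dvd]
    intro x hx
    obtain ⟨j, hj1, rfl⟩ := hpp x (Multiset.mem_cons_of_mem hx)
    have hlt' := hlt _ hx
    rw [hli] at hlt'
    have hji : j < i' + 1 := (Nat.pow_lt_pow_iff_right hp.one_lt).1 hlt'
    exact pow_dvd_pow p (by omega)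
  refine ⟨F⁻¹ * σ, ?_, ?_, F ^ (p ^ i'), ?_, p ^ i', n + 2, hNpos, ?_, hlm, ?_, ?_⟩
  · rw [hdisj'.cycleType_mul, Equiv.Perm.cycleType_inv, hFct, hσct, Multiset.singleton_add]
  · -- FixOK
    unfold FixOK
    have hcard : FixCard (finRotate (m' + 1) * (F⁻¹ * σ)) = n + 2 - 1 := by
      unfold FixCard
      rw [← fpb2_card_Ico (m' + 1) (n + 2) (by omega)]
      congr 1
      apply Finset.filter_congr
      intro x _
      rw [Equiv.Perm.mul_apply, Equiv.Perm.mul_apply, Fin.ext_iff, coe_finRotate]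
      by_cases hx : x.val < n + 2
      · rw [hσfix x hx]
        have hk : (F⁻¹ x).val < n + 2 := by
          by_contra hge
          have h1 := hFout' (F⁻¹ x) (by omega)
          rw [hFF] at h1
          rw [← h1] at hge
          omega
        have hk2 := hFin' (F⁻¹ x) hk
        rw [hFF] at hk2
        have hne : F⁻¹ x ≠ Fin.last m' := by
          intro h
          have := congrArg Fin.val h
          rw [Fin.val_last] at this
          omega
        rw [if_neg hne]
        rcases Nat.lt_or_ge ((F⁻¹ x).val + 1) (n + 2) with h4 | h4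
        · rw [Nat.mod_eq_of_lt h4] at hk2; omega
        · have h5 : (F⁻¹ x).val + 1 = n + 2 := by omega
          rw [h5, Nat.mod_self] at hk2; omega
      · have h1 : F⁻¹ (σ x) = σ x := by
          rw [Equiv.Perm.inv_eq_iff_eq]
          exact (hFout' _ (hσge x (by omega))).symm
        rw [h1]
        have := hσne x
        split_ifs <;> omega
    rw [hcard]
    intro hdvd
    have h1 : p ∣ (n + 2 - 1) + 1 := by
      rw [Nat.sub_add_cancel (by omega), hN]; exact dvd_mul_left p _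
    exact hp.one_lt.ne' (Nat.dvd_one.1 ((Nat.dvd_add_right hdvd).1 h1))
  · -- membership
    have hd : F⁻¹ * σ ∈ Hcd (F⁻¹ * σ) := Subgroup.subset_closure (by simp)
    have h1 : (F⁻¹ * σ) ^ (p ^ i') = (F ^ (p ^ i'))⁻¹ := by
      rw [hdisj'.commute.mul_pow, hσN, mul_one, inv_pow]
    have h2 := (Hcd (F⁻¹ * σ)).inv_mem ((Hcd (F⁻¹ * σ)).pow_mem hd (p ^ i'))
    rwa [h1, inv_inv] at h2
  · -- r < L
    rw [hN]
    exact lt_mul_of_one_lt_right hNpos hp.one_lt
  · -- L ≠ 2 r
    rw [hN]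
    intro h
    have : p = 2 := by
      have h' : p ^ i' * p = p ^ i' * 2 := by rw [h, Nat.mul_comm]
      exact Nat.eq_of_mul_eq_mul_left hNpos h'
    omega
  · have := fpb2_isRot_pow (Nat.succ_pos _ : 0 < n + 2) hFrot (p ^ i')
    rwa [Nat.mul_one] at this

end Cfsg.Agent.Lib.Helper83.Fp
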