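import Mathlib
import Cfsg.Prelude.Def_Solvable

set_option autoImplicit false

namespace Cfsg.Agent.Lib.Helper71

open scoped Pointwise

universe u v

/-- Frobenius complements are transported along group isomorphisms. -/
theorem isFrobeniusComplement_map {L : Type u} {L' : Type v} [Group L] [Group L'] (e : L ≃* L')
    (C : Subgroup L) (hC : Cfsg.IsFrobeniusComplement C) :
    Cfsg.IsFrobeniusComplement (C.map e.toMonoidHom) := by
  obtain ⟨h1, h2, h3⟩ := hC
  refine ⟨?_, ?_, ?_⟩
  · intro h
    apply h1
    rw [Subgroup.map_eq_bot_iff_of_injective _ e.injective] at h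
    exact h
  · intro h
    apply h2
    rw [eq_top_iff]
    intro x _
    have : e x ∈ C.map e.toMonoidHom := by rw [h]; trivial
    obtain ⟨y, hy, hxy⟩ := this
    have : y = x := e.injective hxy
    rwa [← this]
  · intro g hg
    obtain ⟨g₀, rfl⟩ := e.surjective g
    have hg₀ : g₀ ∉ C := fun h => hg ⟨g₀, h, rfl⟩
    have h3' := h3 g₀ hg₀
    rw [Subgroup.eq_bot_iff_forall]
    intro x hx
    obtain ⟨hx1, hx2⟩ := Subgroup.mem_inf.mp hx
    obtain ⟨c, hc, rfl⟩ := hx1
    rw [Subgroup.mem_pointwise_smul_iff_inv_smul_mem] at hx2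
    obtain ⟨c', hc', hcc'⟩ := hx2
    have e1 : e.toMonoidHom c' = e (g₀⁻¹ * c * g₀) := by
      rw [hcc']
      simp [MulAut.smul_def]
    have e2 : c' = g₀⁻¹ * c * g₀ := e.injective e1
    have hmem : c ∈ C ⊓ (MulAut.conj g₀ • C) := by
      refine Subgroup.mem_inf.mpr ⟨hc, ?_⟩
      rw [Subgroup.mem_pointwise_smul_iff_inv_smul_mem]
      have : (MulAut.conj g₀)⁻¹ • c = g₀⁻¹ * c * g₀ := by simp [MulAut.smul_def]
      rw [this, ← e2]
      exact hc'
    rw [h3', Subgroup.mem_bot] at hmem
    rw [hmem]
    simp

/-- A finite group with a Frobenius complement in any universe gives one in `Type`. -/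
theorem exists_frobenius_type0 {L : Type u} [Group L] [Finite L] {H : Type v} [Group H]
    (C : Subgroup L) (hC : Cfsg.IsFrobeniusComplement C) (f : H ≃* C) :
    ∃ (L' : Type) (_ : Group L') (_ : Finite L') (C' : Subgroup L'),
      Cfsg.IsFrobeniusComplement C' ∧ Nonempty (H ≃* C') := by
  have e : L ≃* Shrink.{0} L := (Shrink.mulEquiv : Shrink.{0} L ≃* L).symm
  refine ⟨Shrink.{0} L, inferInstance, Finite.of_equiv L e.toEquiv, C.map e.toMonoidHom,
    isFrobeniusComplement_map e C hC, ⟨f.trans (e.subgroupMap C)⟩⟩

/-- A free action of a nontrivial finite group `H` on a nontrivial finite group `N` gives a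
Frobenius group `N ⋊ H` with complement `H`. -/
theorem isFrobeniusComplement_range_inr {H : Type u} {N : Type v} [Group H] [Nontrivial H] [Group N]
    [Nontrivial N] (φ : H →* MulAut N) (hfree : ∀ h : H, ∀ n : N, φ h n = n → h = 1 ∨ n = 1) :
    Cfsg.IsFrobeniusComplement (SemidirectProduct.inr : H →* N ⋊[φ] H).range := by
  refine ⟨?_, ?_, ?_⟩
  · intro h
    obtain ⟨a, ha⟩ := exists_ne (1 : H)
    have : (SemidirectProduct.inr a : N ⋊[φ] H) ∈ (SemidirectProduct.inr : H →* N ⋊[φ] H).range :=
      ⟨a, rfl⟩
    rw [h, Subgroup.mem_bot] at this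
    apply ha
    have := congrArg SemidirectProduct.right this
    simpa using this
  · intro h
    obtain ⟨n, hn⟩ := exists_ne (1 : N)
    have : (SemidirectProduct.inl n : N ⋊[φ] H) ∈ (SemidirectProduct.inr : H →* N ⋊[φ] H).range := by
      rw [h]; trivial
    obtain ⟨a, ha⟩ := this
    apply hn
    have := congrArg SemidirectProduct.left ha
    simpa using this.symm
  · intro g hg
    have hgl : g.left ≠ 1 := by
      intro h
      apply hg
      refine ⟨g.right, ?_⟩
      ext <;> simp [h]
    rw [Subgroup.eq_bot_iff_forall]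
    intro x hx
    obtain ⟨hx1, hx2⟩ := Subgroup.mem_inf.mp hx
    obtain ⟨a, rfl⟩ := hx1
    rw [Subgroup.mem_pointwise_smul_iff_inv_smul_mem] at hx2
    obtain ⟨b, hb⟩ := hx2
    have e0 : (MulAut.conj g)⁻¹ • (SemidirectProduct.inr a : N ⋊[φ] H) = g⁻¹ * SemidirectProduct.inr a * g := by
      simp [MulAut.smul_def]
    rw [e0] at hb
    have e1 : g * SemidirectProduct.inr b = SemidirectProduct.inr a * g := by
      rw [hb]; group
    have el := congrArg SemidirectProduct.left e1
    have er := congrArg SemidirectProduct.right e1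
    simp only [SemidirectProduct.mul_left, SemidirectProduct.left_inr, map_one, mul_one,
      SemidirectProduct.right_inr, one_mul] at el
    rcases hfree a g.left el.symm with h | h
    · rw [h]; simp
    · exact absurd h hgl

/-- A free action of a nontrivial finite group `H` on a nontrivial finite group `N` realises
`H` as a Frobenius complement in a finite group living in `Type`. -/
theorem exists_frobenius_of_free_action {H : Type u} {N : Type v} [Group H] [Finite H] [Nontrivial H]
    [Group N] [Finite N] [Nontrivial N] (φ : H →* MulAut N)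
    (hfree : ∀ h : H, ∀ n : N, φ h n = n → h = 1 ∨ n = 1) :
    ∃ (L : Type) (_ : Group L) (_ : Finite L) (C : Subgroup L),
      Cfsg.IsFrobeniusComplement C ∧ Nonempty (H ≃* C) := by
  have : Finite (N ⋊[φ] H) := Finite.of_equiv (N × H) SemidirectProduct.equivProd.symm
  exact exists_frobenius_type0 (SemidirectProduct.inr : H →* N ⋊[φ] H).range
    (isFrobeniusComplement_range_inr φ hfree)
    (MonoidHom.ofInjective SemidirectProduct.inr_injective)

end Cfsg.Agent.Lib.Helper71

namespace Cfsg.Agent.Lib.Helper71

universe u v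

/-- A free additive action version of `exists_frobenius_of_free_action`. -/
theorem exists_frobenius_of_free_distribMulAction {H : Type u} {V : Type v} [Group H] [Finite H]
    [Nontrivial H] [AddGroup V] [Finite V] [Nontrivial V] [DistribMulAction H V]
    (hfree : ∀ h : H, ∀ x : V, h • x = x → h = 1 ∨ x = 0) :
    ∃ (L : Type) (_ : Group L) (_ : Finite L) (C : Subgroup L),
      Cfsg.IsFrobeniusComplement C ∧ Nonempty (H ≃* C) := by
  let φ : H →* MulAut (Multiplicative V) :=
    (MulAutMultiplicative V).symm.toMonoidHom.comp (DistribMulAction.toAddAut H V)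
  apply exists_frobenius_of_free_action φ
  intro h n hn
  have : h • (Multiplicative.toAdd n) = Multiplicative.toAdd n := by
    have := congrArg Multiplicative.toAdd hn
    simpa [φ] using this
  rcases hfree h _ this with h1 | h1
  · exact Or.inl h1
  · right
    exact Multiplicative.toAdd.injective h1

end Cfsg.Agent.Lib.Helper71
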