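import Mathlib

/-!
# Transitivity of the automorphism group on subgroups of order `p` passes to `G / N`
for a characteristic `p'`-subgroup `N` (used for the Gaschütz–Yen theorem, S3798).
-/

set_option autoImplicit false

namespace Cfsg.Agent.Lib.Helper71.GY

variable {G : Type*} [Group G]

/-- the automorphism induced on the quotient by a characteristic subgroup -/
noncomputable def quotAut (N : Subgroup G) [N.Normal] [hN : N.Characteristic] (a : MulAut G) :
    MulAut (G ⧸ N) :=
  QuotientGroup.congr N N a (Subgroup.characteristic_iff_map_eq.mp hN a)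

theorem quotAut_mk (N : Subgroup G) [N.Normal] [hN : N.Characteristic] (a : MulAut G) (x : G) :
    quotAut N a (QuotientGroup.mk x) = QuotientGroup.mk (a x) :=
  QuotientGroup.congr_mk N N a _ x

theorem eq_one_of_pow_coprime_h71 {H : Type*} [Group H] {r : H} {m n : ℕ} (h : Nat.Coprime m n)
    (hm : r ^ m = 1) (hn : r ^ n = 1) : r = 1 := by
  have h1 := orderOf_dvd_of_pow_eq_one hm
  have h2 := orderOf_dvd_of_pow_eq_one hn
  have := Nat.dvd_gcd h1 h2
  rw [h] at this
  exact orderOf_eq_one_iff.mp (Nat.dvd_one.mp this)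

/-- a subgroup of prime order is generated by any of its nontrivial elements -/
theorem zpowers_eq_of_card_prime {H : Type*} [Group H] {p : ℕ} [hp : Fact p.Prime] (U : Subgroup H)
    (hU : Nat.card U = p) {x : H} (hxU : x ∈ U) (hx1 : x ≠ 1) :
    x ^ p = 1 ∧ orderOf x = p ∧ Subgroup.zpowers x = U := by
  have : Finite U := Nat.finite_of_card_ne_zero (by rw [hU]; exact hp.out.ne_zero)
  have hxp : x ^ p = 1 := by
    have h := pow_card_eq_one' (G := U) (x := ⟨x, hxU⟩)
    rw [hU] at h
    simpa using congrArg Subtype.val h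
  have ho : orderOf x = p := orderOf_eq_prime hxp hx1
  refine ⟨hxp, ho, ?_⟩
  apply Subgroup.eq_of_le_of_card_ge
  · rw [Subgroup.zpowers_le]; exact hxU
  · rw [Nat.card_zpowers, ho, hU]

theorem exists_ne_one_of_card_prime {H : Type*} [Group H] {p : ℕ} [hp : Fact p.Prime]
    (U : Subgroup H) (hU : Nat.card U = p) : ∃ x ∈ U, x ≠ 1 := by
  by_contra hcon
  push Not at hcon
  have : U = ⊥ := (Subgroup.eq_bot_iff_forall U).2 hcon
  rw [this, Subgroup.card_bot] at hU
  exact hp.out.one_lt.ne hU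

/-- every subgroup of order `p` of `G / N`, `N` a normal `p'`-subgroup, is the image of a
subgroup of order `p` of `G`. -/
theorem exists_lift_of_card_eq_prime [Finite G] {p : ℕ} [hp : Fact p.Prime] (N : Subgroup G)
    [N.Normal] (hN : (Nat.card N).Coprime p) (U : Subgroup (G ⧸ N)) (hU : Nat.card U = p) :
    ∃ U' : Subgroup G, Nat.card U' = p ∧ U'.map (QuotientGroup.mk' N) = U := by
  classical
  obtain ⟨x, hxU, hx1⟩ := exists_ne_one_of_card_prime U hU
  obtain ⟨hxp, -, -⟩ := zpowers_eq_of_card_prime U hU hxU hx1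
  obtain ⟨g, rfl⟩ := QuotientGroup.mk_surjective x
  obtain ⟨e, m, hm, hcard⟩ :=
    Nat.exists_eq_pow_mul_and_not_dvd (Nat.card_pos (α := G)).ne' p hp.out.ne_one
  have hmp : m.Coprime p := ((Nat.Prime.coprime_iff_not_dvd hp.out).2 hm).symm
  set y := g ^ m with hy
  have hype : y ^ (p ^ e) = 1 := by
    rw [hy, ← pow_mul, mul_comm, ← hcard]; exact pow_card_eq_one'
  have hymk : (QuotientGroup.mk y : G ⧸ N) = (QuotientGroup.mk g : G ⧸ N) ^ m := by
    rw [hy]; rfl
  have hymkp : (QuotientGroup.mk y : G ⧸ N) ^ p = 1 := by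
    rw [hymk, ← pow_mul, mul_comm, pow_mul, hxp, one_pow]
  have hymk1 : (QuotientGroup.mk y : G ⧸ N) ≠ 1 := by
    intro h
    rw [hymk] at h
    exact hx1 (eq_one_of_pow_coprime_h71 hmp h hxp)
  have hypN : y ^ p ∈ N := by
    rw [← QuotientGroup.eq_one_iff]
    exact hymkp
  have hyp : y ^ p = 1 := by
    have h1 : (y ^ p) ^ Nat.card N = 1 := by
      have h := pow_card_eq_one' (G := N) (x := ⟨y ^ p, hypN⟩)
      have h' := congrArg Subtype.val h
      rwa [Subgroup.coe_pow] at h'
    have h2 : (y ^ p) ^ (p ^ e) = 1 := by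
      rw [← pow_mul, mul_comm, pow_mul, hype, one_pow]
    exact eq_one_of_pow_coprime_h71 (Nat.Coprime.pow_right e hN) h1 h2
  have hy1 : y ≠ 1 := by
    intro h
    apply hymk1
    rw [h]; rfl
  refine ⟨Subgroup.zpowers y, ?_, ?_⟩
  · rw [Nat.card_zpowers]; exact orderOf_eq_prime hyp hy1
  · rw [MonoidHom.map_zpowers]
    have hyU : (QuotientGroup.mk y : G ⧸ N) ∈ U := by
      rw [hymk]; exact U.pow_mem hxU m
    exact (zpowers_eq_of_card_prime U hU hyU hymk1).2.2

/-- **Transfer of transitivity** to the quotient by a characteristic `p'`-subgroup. -/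
theorem trans_quotient [Finite G] {p : ℕ} [hp : Fact p.Prime] (N : Subgroup G) [N.Normal]
    [hNc : N.Characteristic] (hN : (Nat.card N).Coprime p)
    (htrans : ∀ U V : Subgroup G, Nat.card U = p → Nat.card V = p →
      ∃ a : MulAut G, U.map a.toMonoidHom = V) :
    ∀ U V : Subgroup (G ⧸ N), Nat.card U = p → Nat.card V = p →
      ∃ a : MulAut (G ⧸ N), U.map a.toMonoidHom = V := by
  intro U V hU hV
  obtain ⟨U', hU', rfl⟩ := exists_lift_of_card_eq_prime N hN U hU
  obtain ⟨V', hV', rfl⟩ := exists_lift_of_card_eq_prime N hN V hV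
  obtain ⟨a, ha⟩ := htrans U' V' hU' hV'
  refine ⟨quotAut N a, ?_⟩
  rw [← ha, Subgroup.map_map, Subgroup.map_map]
  congr 1

end Cfsg.Agent.Lib.Helper71.GY
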