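import Mathlib
import Cfsg.Prelude.Def_Local
import Cfsg.Agent.Lib.Helper24.RelSZ
import Cfsg.Agent.Lib.Helper63.CoprimeOmega
import Cfsg.Agent.Lib.Helper76.PSolvable
import Cfsg.Agent.Lib.Helper55.Cores
import Cfsg.Agent.Lib.Helper55.SolvCore
import Cfsg.Agent.Lib.Helper71.GYTransfer

/-!
# The Gaschütz–Yen theorem: the core case `O_{p'}(X) = 1`

`X` finite `p`-solvable, `p` odd, `O_{p'}(X) = 1`, `Aut X` transitive on the subgroups of order `p`.
Then `X / O_p(X)` is a `p'`-group.

Proof. `Q = O_p(X)`, `C_X(Q) ≤ Q` (Hall–Higman 1.2.3).  An element of order `p` of `Z(Q)` and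
transitivity put all elements of order `p` of `X` in `Z(Q)`.  If `p ∣ |X/Q|` then
`K/Q = O_{p'}(X/Q) ≠ 1`; take a complement `E` of `Q` in `K` (Schur–Zassenhaus), by the Frattini
argument `X = Q N_X(E)`, so `p ∣ |N_X(E)|`; an element `y` of order `p` of `N_X(E)` lies in `Z(Q)`,
so `[y,E] ≤ Q ∩ E = 1` and `y` centralizes `K = QE`; as `K` is characteristic, transitivity gives
that every element of order `p` centralizes `K`; so `E` centralizes `Ω₁(Q)`, hence `Q` (`p` odd),
so `E ≤ C_X(Q) ≤ Q`, `E = 1`, a contradiction.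
-/

set_option autoImplicit false
set_option linter.style.haveILetI false
set_option linter.unusedSectionVars false
set_option maxHeartbeats 800000

namespace Cfsg.Agent.Lib.Helper71.GY

open Cfsg Subgroup
open Cfsg.Agent.Lib.Helper33

universe u

variable {X : Type u} [Group X]

theorem pCore_char_h71 (p : ℕ) (X : Type*) [Group X] : (Cfsg.pCore p X).Characteristic := by
  rw [Subgroup.characteristic_iff_map_le]
  intro φ
  rw [Subgroup.map_le_iff_le_comap]
  unfold Cfsg.pCore
  apply sSup_le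
  intro N hN
  rw [← Subgroup.map_le_iff_le_comap]
  apply le_sSup
  exact ⟨Subgroup.Normal.map hN.1 _ φ.surjective, hN.2.map _⟩

theorem pPrimeCore_char_h71 (p : ℕ) (X : Type*) [Group X] :
    (Cfsg.pPrimeCore p X).Characteristic := by
  rw [Subgroup.characteristic_iff_map_le]
  intro φ
  rw [Subgroup.map_le_iff_le_comap]
  unfold Cfsg.pPrimeCore
  apply sSup_le
  intro N hN
  rw [← Subgroup.map_le_iff_le_comap]
  apply le_sSup
  refine ⟨Subgroup.Normal.map hN.1 _ φ.surjective, ?_⟩
  exact Nat.Coprime.coprime_dvd_left (Subgroup.card_map_dvd _ _) hN.2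

theorem char_mem {H : Subgroup X} [hH : H.Characteristic] (a : MulAut X) {x : X} (hx : x ∈ H) :
    a x ∈ H :=
  (Subgroup.characteristic_iff_le_comap.mp hH a) hx

theorem normal_le_normalizer {H K : Subgroup X} [hH : H.Normal] : K ≤ normalizer (H : Set X) := by
  rw [Subgroup.normalizer_eq_top]; exact le_top

variable [Finite X] {p : ℕ} [hp : Fact p.Prime]

theorem pCore_quot_eq_bot_h71 [hn : (pCore p X).Normal] : pCore p (X ⧸ pCore p X) = ⊥ := by
  rw [eq_bot_iff]
  intro l hl
  obtain ⟨x, rfl⟩ := QuotientGroup.mk_surjective l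
  have hLn : (pCore p (X ⧸ pCore p X)).Normal := Cfsg.Agent.Lib.Helper55.pCore_normal' p
  have hLp : IsPGroup p (pCore p (X ⧸ pCore p X)) := Cfsg.Agent.Lib.Helper55.pCore_isPGroup p
  set M := (pCore p (X ⧸ pCore p X)).comap (QuotientGroup.mk' (pCore p X)) with hM
  have hMn : M.Normal := hLn.comap _
  have hMp : IsPGroup p M := by
    rintro ⟨y, hy⟩
    have hy' : (QuotientGroup.mk y : X ⧸ pCore p X) ∈ pCore p (X ⧸ pCore p X) := hy
    obtain ⟨k, hk⟩ := hLp ⟨_, hy'⟩
    have hk' : (QuotientGroup.mk y : X ⧸ pCore p X) ^ p ^ k = 1 := by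
      have := congrArg Subtype.val hk
      rwa [Subgroup.coe_pow] at this
    have hyQ : y ^ p ^ k ∈ pCore p X := by
      rw [← QuotientGroup.eq_one_iff]; exact hk'
    obtain ⟨j, hj⟩ :=
      (Cfsg.Agent.Lib.Helper55.pCore_isPGroup p : IsPGroup p (pCore p X)) ⟨_, hyQ⟩
    have hj' : (y ^ p ^ k) ^ p ^ j = 1 := by
      have := congrArg Subtype.val hj
      rwa [Subgroup.coe_pow] at this
    refine ⟨k + j, ?_⟩
    apply Subtype.ext
    rw [Subgroup.coe_pow, Subgroup.coe_one, pow_add, pow_mul]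
    exact hj'
  have hMQ : M ≤ pCore p X := Cfsg.Agent.Lib.Helper55.le_pCore p M hMp
  have hxM : x ∈ M := hl
  exact (QuotientGroup.eq_one_iff x).2 (hMQ hxM)

/-- **Gaschütz–Yen, core case.** -/
theorem index_pCore_coprime (hp2 : p ≠ 2) (hsol : IsPSolvable p X) (hO : pPrimeCore p X = ⊥)
    (htr : ∀ U V : Subgroup X, Nat.card U = p → Nat.card V = p →
      ∃ a : MulAut X, U.map a.toMonoidHom = V) :
    ¬ p ∣ (pCore p X).index := by
  classical
  intro hdvd
  have hQn : (pCore p X).Normal := Cfsg.Agent.Lib.Helper55.pCore_normal' p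
  have hQc : (pCore p X).Characteristic := pCore_char_h71 p X
  have hQp : IsPGroup p (pCore p X) := Cfsg.Agent.Lib.Helper55.pCore_isPGroup p
  have hC : centralizer (pCore p X : Set X) ≤ pCore p X :=
    Cfsg.Agent.Lib.Helper76.centralizer_pCore_le_of_isPSolvable hsol hO
  set Q := pCore p X with hQ
  -- `Q ≠ 1`
  have hQ1 : Q ≠ ⊥ := by
    intro h
    have htop : Q = ⊤ := by
      rw [eq_top_iff]
      intro x _
      apply hC
      rw [mem_centralizer_iff]
      intro q hq
      have hq' : q ∈ Q := hq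
      rw [h, mem_bot] at hq'
      rw [hq', one_mul, mul_one]
    rw [htop, Subgroup.index_top] at hdvd
    exact hp.out.one_lt.ne' (Nat.dvd_one.1 hdvd)
  -- an element of order `p` in `Z(Q)`
  obtain ⟨z, hzQ, hzC, hz1, hzp⟩ :
      ∃ z : X, z ∈ Q ∧ z ∈ centralizer (Q : Set X) ∧ z ≠ 1 ∧ z ^ p = 1 := by
    haveI : Nontrivial Q := (Subgroup.nontrivial_iff_ne_bot Q).2 hQ1
    haveI : Nontrivial (Subgroup.center Q) := hQp.center_nontrivial
    have hZp : IsPGroup p (Subgroup.center Q) := hQp.to_subgroup _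
    obtain ⟨n, hn⟩ := IsPGroup.iff_card.1 hZp
    have hn0 : n ≠ 0 := by
      intro h0
      rw [h0, pow_zero] at hn
      have := (Finite.one_lt_card_iff_nontrivial (α := Subgroup.center Q)).2 inferInstance
      omega
    have hdvdZ : p ∣ Nat.card (Subgroup.center Q) := by rw [hn]; exact dvd_pow_self p hn0
    obtain ⟨w, hw⟩ := exists_prime_orderOf_dvd_card' p hdvdZ
    have hw1 : w ≠ 1 := by
      intro h
      rw [h, orderOf_one] at hw
      exact hp.out.one_lt.ne hw
    have hwp : w ^ p = 1 := by rw [← hw]; exact pow_orderOf_eq_one w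
    refine ⟨((w : Q) : X), (w : Q).2, ?_, ?_, ?_⟩
    · rw [mem_centralizer_iff]
      intro q hq
      have := Subgroup.mem_center_iff.1 w.2 ⟨q, hq⟩
      exact congrArg Subtype.val this
    · intro h
      apply hw1
      apply Subtype.ext
      apply Subtype.ext
      exact h
    · have h1 := congrArg (fun t : Subgroup.center Q => ((t : Q) : X)) hwp
      simpa using h1
  -- all elements of order `p` lie in `Z(Q)`
  have hstar : ∀ x : X, x ^ p = 1 → x ∈ Q ∧ x ∈ centralizer (Q : Set X) := by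
    intro x hx
    by_cases hx1 : x = 1
    · subst hx1; exact ⟨Q.one_mem, (centralizer _).one_mem⟩
    have hUx : Nat.card (zpowers x) = p := by
      rw [Nat.card_zpowers]; exact orderOf_eq_prime hx hx1
    have hVz : Nat.card (zpowers z) = p := by
      rw [Nat.card_zpowers]; exact orderOf_eq_prime hzp hz1
    obtain ⟨a, ha⟩ := htr (zpowers z) (zpowers x) hVz hUx
    have hxm : x ∈ (zpowers z).map a.toMonoidHom := by rw [ha]; exact mem_zpowers x
    rw [MonoidHom.map_zpowers] at hxm
    have haz1 : a z ∈ Q := char_mem a hzQ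
    have haz2 : a z ∈ centralizer (Q : Set X) := char_mem a hzC
    exact ⟨(zpowers_le.2 haz1) hxm, (zpowers_le.2 haz2) hxm⟩
  -- `K / Q = O_{p'}(X / Q)`
  have hLn : (pPrimeCore p (X ⧸ Q)).Normal := Cfsg.Agent.Lib.Helper55.pPrimeCore_normal' p
  have hLc : (pPrimeCore p (X ⧸ Q)).Characteristic := pPrimeCore_char_h71 p _
  have hLcop : (Nat.card (pPrimeCore p (X ⧸ Q))).Coprime p :=
    Cfsg.Agent.Lib.Helper55.pPrimeCore_card_coprime p
  have hL1 : pPrimeCore p (X ⧸ Q) ≠ ⊥ := by
    intro hLbot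
    haveI : Nontrivial (X ⧸ Q) := by
      rw [← Finite.one_lt_card_iff_nontrivial, ← Subgroup.index_eq_card]
      have := Nat.le_of_dvd (Nat.pos_of_ne_zero Subgroup.index_ne_zero_of_finite) hdvd
      exact lt_of_lt_of_le hp.out.one_lt this
    obtain ⟨N, hNn, hN1, hN⟩ := Cfsg.Agent.Lib.Helper76.exists_normal_of_isPSolvable
      (Cfsg.Agent.Lib.Helper76.isPSolvable_quotient Q hsol)
    rcases hN with hN | hN
    · have h1 := Cfsg.Agent.Lib.Helper55.le_pCore p N hN
      rw [pCore_quot_eq_bot_h71] at h1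
      exact hN1 (eq_bot_iff.2 h1)
    · have h1 := Cfsg.Agent.Lib.Helper55.le_pPrimeCore p N hN
      rw [hLbot] at h1
      exact hN1 (eq_bot_iff.2 h1)
  set L := pPrimeCore p (X ⧸ Q) with hL
  set K := L.comap (QuotientGroup.mk' Q) with hK
  have hKn : K.Normal := hLn.comap _
  have hQK : Q ≤ K := by
    intro q hq
    show QuotientGroup.mk' Q q ∈ L
    rw [QuotientGroup.mk'_apply, (QuotientGroup.eq_one_iff q).2 hq]
    exact L.one_mem
  have hKchar : ∀ (a : MulAut X) (k : X), k ∈ K → a k ∈ K := by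
    intro a k hk
    show QuotientGroup.mk' Q (a k) ∈ L
    rw [QuotientGroup.mk'_apply, ← quotAut_mk Q a k]
    exact char_mem (quotAut Q a) hk
  have hrel : Q.relIndex K = Nat.card L := by
    have h1 : ((⊥ : Subgroup (X ⧸ Q)).comap (QuotientGroup.mk' Q)).relIndex K = Nat.card L := by
      rw [Subgroup.relIndex_comap, Subgroup.relIndex_bot_left, hK,
        Subgroup.map_comap_eq_self_of_surjective (QuotientGroup.mk'_surjective Q)]
    have h2 : (⊥ : Subgroup (X ⧸ Q)).comap (QuotientGroup.mk' Q) = Q := by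
      rw [MonoidHom.comap_bot]; exact QuotientGroup.ker_mk' Q
    rwa [h2] at h1
  have hcopQ : (Nat.card Q).Coprime (Q.relIndex K) := by
    rw [hrel]
    obtain ⟨n, hn⟩ := IsPGroup.iff_card.1 hQp
    rw [hn]
    exact Nat.Coprime.pow_left n hLcop.symm
  obtain ⟨E, hEK, hEcard, hEQ, hEsup⟩ :=
    Cfsg.Agent.Lib.Helper24.rel_sz_exists Q K hQK normal_le_normalizer hcopQ
  have hEcop : (Nat.card E).Coprime p := by rw [hEcard, hrel]; exact hLcop
  have hE1 : E ≠ ⊥ := by
    intro h
    apply hL1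
    apply Subgroup.eq_bot_of_card_eq
    rw [← hrel, ← hEcard, h, Subgroup.card_bot]
  -- Frattini argument
  have hfrat : ∀ g : X, ∃ n ∈ Q, n⁻¹ * g ∈ normalizer (E : Set X) := by
    intro g
    have hsolvQ : Group.IsSolvable Q := by
      haveI := hQp.isNilpotent
      infer_instance
    have h2 : cj g E ≤ E ⊔ Q := by
      rw [hEsup]
      intro x hx
      obtain ⟨e, he, rfl⟩ := mem_cj'.1 hx
      exact hKn.conj_mem e (hEK he) g
    have hcop' : (Nat.card E).Coprime (Nat.card Q) := by
      obtain ⟨n, hn⟩ := IsPGroup.iff_card.1 hQp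
      rw [hn]
      exact Nat.Coprime.pow_right n hEcop
    obtain ⟨n, hnQ, hn⟩ := Cfsg.Agent.Lib.Helper24.rel_sz_conj Q E (cj g E) normal_le_normalizer
      hcop' (Or.inl hsolvQ) h2 (card_cj g E)
    refine ⟨n, hnQ, ?_⟩
    have h3 : cj (n⁻¹ * g) E = E := by rw [cj_mul, ← hn, cj_inv_cj]
    exact cj_eq_self_iff.1 h3
  have hpN : p ∣ Nat.card (normalizer (E : Set X)) := by
    have hsurj : (normalizer (E : Set X)).map (QuotientGroup.mk' Q) = ⊤ := by
      rw [eq_top_iff]
      intro y _
      obtain ⟨g, rfl⟩ := QuotientGroup.mk_surjective y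
      obtain ⟨n, hnQ, hn⟩ := hfrat g
      refine ⟨n⁻¹ * g, hn, ?_⟩
      show (QuotientGroup.mk (n⁻¹ * g) : X ⧸ Q) = QuotientGroup.mk g
      rw [QuotientGroup.mk_mul, (QuotientGroup.eq_one_iff _).2 (Q.inv_mem hnQ), one_mul]
    have h1 : Nat.card ((normalizer (E : Set X)).map (QuotientGroup.mk' Q)) ∣
        Nat.card (normalizer (E : Set X)) := Subgroup.card_map_dvd _ _
    rw [hsurj, Subgroup.card_top, ← Subgroup.index_eq_card] at h1
    exact hdvd.trans h1
  obtain ⟨y', hy'⟩ := exists_prime_orderOf_dvd_card' p hpN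
  have hyN : (y' : X) ∈ normalizer (E : Set X) := y'.2
  have hyo : orderOf (y' : X) = p := by rw [Subgroup.orderOf_coe]; exact hy'
  set y : X := (y' : X) with hy
  have hyp : y ^ p = 1 := by rw [← hyo]; exact pow_orderOf_eq_one y
  have hy1 : y ≠ 1 := by
    intro h
    rw [h, orderOf_one] at hyo
    exact hp.out.one_lt.ne hyo
  obtain ⟨hyQ, hyC⟩ := hstar y hyp
  have hyE : ∀ e ∈ E, y * e = e * y := by
    intro e he
    have h1 : y * e * y⁻¹ ∈ E := (mem_normalizer_iff.1 hyN e).1 he
    have h2 : y * e * y⁻¹ * e⁻¹ ∈ E := E.mul_mem h1 (E.inv_mem he)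
    have h3 : y * e * y⁻¹ * e⁻¹ ∈ Q := by
      have h4 : e * y⁻¹ * e⁻¹ ∈ Q := hQn.conj_mem _ (Q.inv_mem hyQ) e
      have h5 := Q.mul_mem hyQ h4
      simpa [mul_assoc] using h5
    have h4 : y * e * y⁻¹ * e⁻¹ ∈ E ⊓ Q := ⟨h2, h3⟩
    rw [hEQ, mem_bot] at h4
    calc y * e = (y * e * y⁻¹ * e⁻¹) * (e * y) := by group
      _ = e * y := by rw [h4, one_mul]
  have hyK : y ∈ centralizer (K : Set X) := by
    have hE' : E ≤ centralizer ({y} : Set X) := by
      intro e he
      rw [mem_centralizer_iff]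
      intro h hh
      rw [Set.mem_singleton_iff.1 hh]
      exact hyE e he
    have hQ' : Q ≤ centralizer ({y} : Set X) := by
      intro q hq
      rw [mem_centralizer_iff]
      intro h hh
      rw [Set.mem_singleton_iff.1 hh]
      exact ((mem_centralizer_iff.1 hyC) q hq).symm
    have hK' : K ≤ centralizer ({y} : Set X) := by
      rw [← hEsup]; exact sup_le hE' hQ'
    rw [mem_centralizer_iff]
    intro k hk
    exact ((mem_centralizer_iff.1 (hK' hk)) y rfl).symm
  -- every element of order `p` centralizes `K`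
  have hall : ∀ x : X, x ^ p = 1 → x ∈ centralizer (K : Set X) := by
    intro x hx
    by_cases hx1 : x = 1
    · subst hx1; exact one_mem _
    have hUx : Nat.card (zpowers x) = p := by
      rw [Nat.card_zpowers]; exact orderOf_eq_prime hx hx1
    have hVy : Nat.card (zpowers y) = p := by
      rw [Nat.card_zpowers]; exact hyo
    obtain ⟨a, ha⟩ := htr (zpowers y) (zpowers x) hVy hUx
    have hxm : x ∈ (zpowers y).map a.toMonoidHom := by rw [ha]; exact mem_zpowers x
    rw [MonoidHom.map_zpowers] at hxm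
    have hay : a y ∈ centralizer (K : Set X) := by
      rw [mem_centralizer_iff]
      intro k hk
      have hk' : a⁻¹ k ∈ K := hKchar a⁻¹ k hk
      have h2 := (mem_centralizer_iff.1 hyK) _ hk'
      have h3 := congrArg a h2
      simpa using h3
    exact (zpowers_le.2 hay) hxm
  -- `E` centralizes `Ω₁(Q)`, hence `Q`
  have hQE : Q ≤ centralizer (E : Set X) :=
    Cfsg.Agent.Lib.Helper63.le_centralizer_of_centralizes_omega hp2 E Q hEcop hQp
      normal_le_normalizer
      (fun x _ hxp a ha => (mem_centralizer_iff.1 (hall x hxp)) a (hEK ha))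
  have hEQ' : E ≤ Q := by
    intro e he
    apply hC
    rw [mem_centralizer_iff]
    intro q hq
    exact ((mem_centralizer_iff.1 (hQE hq)) e he).symm
  apply hE1
  rw [eq_bot_iff, ← hEQ]
  exact le_inf le_rfl hEQ'

end Cfsg.Agent.Lib.Helper71.GY
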