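import Mathlib

set_option autoImplicit false

/-!
Linear-algebra helpers over `ZMod p` used for the irreducible-module lemma behind S3033.
-/

namespace Cfsg.Agent.Lib.Helper71.IrrMod

variable {p : ℕ} [hp : Fact p.Prime] {V : Type*} [AddCommGroup V] [Module (ZMod p) V]

abbrev LE (p : ℕ) (V : Type*) [AddCommGroup V] [Module (ZMod p) V] := V ≃ₗ[ZMod p] V

/-- fixed vectors of `γ`. -/
def fixS (γ : LE p V) : Submodule (ZMod p) V :=
  LinearMap.ker (LinearMap.id - (γ : V →ₗ[ZMod p] V))

/-- the commutator space `(1 - γ) V`. -/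
def comS (γ : LE p V) : Submodule (ZMod p) V :=
  LinearMap.range (LinearMap.id - (γ : V →ₗ[ZMod p] V))

theorem mem_fixS {γ : LE p V} {v : V} : v ∈ fixS γ ↔ γ v = v := by
  rw [fixS, LinearMap.mem_ker]
  simp only [LinearMap.sub_apply, LinearMap.id_coe, id_eq, LinearEquiv.coe_coe]
  rw [sub_eq_zero, eq_comm]

theorem mem_comS {γ : LE p V} {w : V} : w ∈ comS γ ↔ ∃ v, v - γ v = w := by
  simp [comS, LinearMap.mem_range]

theorem sub_mem_comS (γ : LE p V) (v : V) : v - γ v ∈ comS γ := mem_comS.mpr ⟨v, rfl⟩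

theorem pow_apply_of_fix {γ : LE p V} {v : V} (h : γ v = v) (k : ℕ) : (γ ^ k) v = v := by
  induction k with
  | zero => simp
  | succ k ih => rw [pow_succ, LinearEquiv.mul_apply, h, ih]

theorem pow_apply_of_smul {γ : LE p V} {v : V} {s : ZMod p} (h : γ v = s • v) (k : ℕ) :
    (γ ^ k) v = s ^ k • v := by
  induction k with
  | zero => simp
  | succ k ih =>
    rw [pow_succ, LinearEquiv.mul_apply, h, map_smul, ih, smul_smul, pow_succ, mul_comm]

/-- coprime action: the fixed space and the commutator space are disjoint. -/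
theorem fixS_disjoint_comS (γ : LE p V) (m : ℕ) (hm : γ ^ m = 1) (hmp : m.Coprime p) :
    Disjoint (fixS γ) (comS γ) := by
  rw [Submodule.disjoint_def]
  intro w hw1 hw2
  rw [mem_fixS] at hw1
  obtain ⟨v, rfl⟩ := mem_comS.mp hw2
  have key : ∀ i : ℕ, (γ ^ i) v = v - (i : ZMod p) • (v - γ v) := by
    intro i
    induction i with
    | zero => simp
    | succ i ih =>
      rw [pow_succ', LinearEquiv.mul_apply, ih, map_sub, map_smul, hw1]
      push_cast
      module
  have h1 := key m
  rw [hm] at h1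
  simp only [LinearEquiv.coe_one, id_eq] at h1
  have h2 : (m : ZMod p) • (v - γ v) = 0 := by
    have : v - (v - (m : ZMod p) • (v - γ v)) = 0 := by rw [← h1]; simp
    simpa using this
  rcases smul_eq_zero.mp h2 with h3 | h3
  · exfalso
    rw [ZMod.natCast_eq_zero_iff] at h3
    have := Nat.Coprime.eq_one_of_dvd hmp.symm h3
    exact hp.out.one_lt.ne' this
  · exact h3

theorem fixS_sup_comS [Finite V] (γ : LE p V) (m : ℕ) (hm : γ ^ m = 1) (hmp : m.Coprime p) :
    fixS γ ⊔ comS γ = ⊤ := by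
  have hd := fixS_disjoint_comS γ m hm hmp
  have : Module.Finite (ZMod p) V := Module.Finite.of_finite
  apply Submodule.eq_top_of_finrank_eq
  have h1 := Submodule.finrank_sup_add_finrank_inf_eq (fixS γ) (comS γ)
  rw [hd.eq_bot, finrank_bot, add_zero] at h1
  rw [h1]
  have h2 := LinearMap.finrank_range_add_finrank_ker (LinearMap.id - (γ : V →ₗ[ZMod p] V))
  unfold fixS comS
  omega

theorem exists_decomp [Finite V] (γ : LE p V) (m : ℕ) (hm : γ ^ m = 1) (hmp : m.Coprime p)
    (v : V) : ∃ v0 ∈ fixS γ, ∃ v1 ∈ comS γ, v0 + v1 = v := by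
  have : v ∈ fixS γ ⊔ comS γ := by rw [fixS_sup_comS γ m hm hmp]; trivial
  exact Submodule.mem_sup.mp this

/-- If every vector of a submodule is an eigenvector, the map is a scalar on it. -/
theorem uniform_scalar (f : V →ₗ[ZMod p] V) (W : Submodule (ZMod p) V)
    (h : ∀ w ∈ W, ∃ s : ZMod p, f w = s • w) : ∃ s : ZMod p, ∀ w ∈ W, f w = s • w := by
  by_cases hW : ∃ w1 ∈ W, w1 ≠ 0
  · obtain ⟨w1, hw1, hw1ne⟩ := hW
    obtain ⟨s1, hs1⟩ := h w1 hw1
    refine ⟨s1, ?_⟩
    intro w hw
    obtain ⟨s, hs⟩ := h w hw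
    obtain ⟨t, ht⟩ := h (w + w1) (W.add_mem hw hw1)
    rw [map_add, hs, hs1] at ht
    have e1 : (s - t) • w = (t - s1) • w1 := by
      have : s • w + s1 • w1 - (t • (w + w1)) = 0 := by rw [ht]; simp
      have h2 : (s - t) • w - (t - s1) • w1 = s • w + s1 • w1 - (t • (w + w1)) := by module
      rw [← sub_eq_zero, h2, this]
    by_cases hts : t = s1
    · rw [hts, sub_self, zero_smul] at e1
      rcases smul_eq_zero.mp e1 with h3 | h3
      · rw [hs]; rw [sub_eq_zero] at h3; rw [h3]
      · rw [h3]; simp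
    · have hne : t - s1 ≠ 0 := sub_ne_zero.mpr hts
      have e2 : w1 = ((t - s1)⁻¹ * (s - t)) • w := by
        rw [mul_smul, e1, smul_smul, inv_mul_cancel₀ hne, one_smul]
      have e3 : f w1 = s • w1 := by
        rw [e2, map_smul, hs, smul_smul, smul_smul]
        congr 1
        ring
      rw [hs1] at e3
      have e4 : (s1 - s) • w1 = 0 := by rw [sub_smul, e3, sub_self]
      rcases smul_eq_zero.mp e4 with h3 | h3
      · rw [hs]; rw [sub_eq_zero] at h3; rw [h3]
      · exact absurd h3 hw1ne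
  · push Not at hW
    refine ⟨0, ?_⟩
    intro w hw
    rw [hW w hw]; simp

/-- a `p`-element has a nonzero fixed vector. -/
theorem exists_fixed_of_pElement [Nontrivial V] (γ : LE p V) (a : ℕ)
    (h : γ ^ (p ^ a) = 1) : ∃ v : V, v ≠ 0 ∧ γ v = v := by
  have hchar : CharP (Module.End (ZMod p) V) p :=
    charP_of_injective_algebraMap (algebraMap (ZMod p) (Module.End (ZMod p) V)).injective p
  set g : Module.End (ZMod p) V := (γ : V →ₗ[ZMod p] V) with hg
  have hgp : g ^ (p ^ a) = 1 := by
    have := congrArg (LinearEquiv.automorphismGroup.toLinearMapMonoidHom (R := ZMod p) (M := V)) h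
    rw [map_pow, map_one] at this
    exact this
  have hT : ((1 : Module.End (ZMod p) V) - g) ^ (p ^ a) = 0 := by
    rw [sub_pow_char_pow_of_commute p a (Commute.one_left g), one_pow, hgp, sub_self]
  by_contra hcon
  push Not at hcon
  have hinj : Function.Injective ((1 : Module.End (ZMod p) V) - g) := by
    rw [injective_iff_map_eq_zero]
    intro v hv
    by_contra hv0
    apply hcon v hv0
    have : v - γ v = 0 := by simpa [hg] using hv
    rw [sub_eq_zero] at this
    exact this.symm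
  have hinj2 : Function.Injective (((1 : Module.End (ZMod p) V) - g) ^ (p ^ a)) := by
    rw [Module.End.coe_pow]
    exact hinj.iterate _
  rw [hT] at hinj2
  obtain ⟨v, hv⟩ := exists_ne (0 : V)
  exact hv (hinj2 (by simp))

theorem decomp_unique {A B : Submodule (ZMod p) V} (hd : Disjoint A B) {a b : V}
    (ha : a ∈ A) (hb : b ∈ B) (h : a + b = 0) : a = 0 ∧ b = 0 := by
  rw [Submodule.disjoint_def] at hd
  have hab : a = -b := eq_neg_of_add_eq_zero_left h
  have ha0 : a = 0 := hd a ha (by rw [hab]; exact B.neg_mem hb)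
  refine ⟨ha0, ?_⟩
  rw [ha0, zero_add] at h
  exact h

/-- `γ` acts as a scalar. -/
def IsScal (γ : LE p V) : Prop := ∃ s : ZMod p, ∀ v, γ v = s • v

/-- the scalar elements of `Γ`. -/
def scalSub [Nontrivial V] (Γ : Subgroup (LE p V)) : Subgroup Γ where
  carrier := {γ | IsScal (γ : LE p V)}
  one_mem' := ⟨1, fun v => by simp⟩
  mul_mem' := by
    rintro a b ⟨s, hs⟩ ⟨t, ht⟩
    refine ⟨s * t, fun v => ?_⟩
    rw [Subgroup.coe_mul, LinearEquiv.mul_apply, ht, map_smul, hs, smul_smul, mul_comm]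
  inv_mem' := by
    rintro a ⟨s, hs⟩
    have hs0 : s ≠ 0 := by
      intro h0
      obtain ⟨v, hv⟩ := exists_ne (0 : V)
      apply hv
      apply (a : LE p V).injective
      rw [hs, h0, zero_smul, map_zero]
    refine ⟨s⁻¹, fun v => ?_⟩
    apply (a : LE p V).injective
    rw [Subgroup.coe_inv, LinearEquiv.coe_inv, LinearEquiv.apply_symm_apply, map_smul, hs,
      smul_smul, inv_mul_cancel₀ hs0, one_smul]

theorem mem_scalSub [Nontrivial V] {Γ : Subgroup (LE p V)} {γ : Γ} :
    γ ∈ scalSub Γ ↔ IsScal (γ : LE p V) := Iff.rfl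

instance scalSub_normal [Nontrivial V] (Γ : Subgroup (LE p V)) : (scalSub Γ).Normal := ⟨by
  rintro z ⟨s, hs⟩ g
  refine ⟨s, fun v => ?_⟩
  rw [Subgroup.coe_mul, Subgroup.coe_mul, LinearEquiv.mul_apply, LinearEquiv.mul_apply, hs,
    map_smul, Subgroup.coe_inv, LinearEquiv.coe_inv, LinearEquiv.apply_symm_apply]⟩

instance finite_LE [Finite V] : Finite (LE p V) :=
  Finite.of_injective (fun e : LE p V => (e : V → V)) DFunLike.coe_injective

end Cfsg.Agent.Lib.Helper71.IrrMod
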