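import Mathlib
import Cfsg.Prelude.Def_SolvableStructure
import Cfsg.Agent.Lib.Helper9.Supersolvable3
import Cfsg.Agent.Lib.Helper71.IrrModA

set_option autoImplicit false

namespace Cfsg.Agent.Lib.Helper71.IrrMod

open Cfsg.Agent.Lib.Helper9

variable {p : ℕ} [hp : Fact p.Prime] {V : Type*} [AddCommGroup V] [Module (ZMod p) V]

/-- If not all of `Γ` is scalar, there is a non-scalar prime-power-order element whose
conjugates are scalar multiples of its powers. -/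
theorem exists_special [Finite V] [Nontrivial V] (Γ : Subgroup (LE p V))
    (hss : Cfsg.IsSupersolvable Γ) (hne : scalSub Γ ≠ ⊤) :
    ∃ (r : ℕ) (b : LE p V) (a : ℕ), r.Prime ∧ b ∈ Γ ∧ orderOf b = r ^ a ∧ ¬ IsScal b ∧
      ∀ g ∈ Γ, ∃ (j : ℕ) (s : ZMod p), ∀ v, (g * b * g⁻¹) v = s • (b ^ j) v := by
  set Z := scalSub Γ with hZ
  have hnt : Nontrivial (Γ ⧸ Z) := by
    rw [← Finite.one_lt_card_iff_nontrivial]
    have h1 : Z.index ≠ 1 := fun h => hne (Subgroup.index_eq_one.mp h)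
    have h0 : Z.index ≠ 0 := Subgroup.index_ne_zero_of_finite
    unfold Subgroup.index at h1 h0
    omega
  obtain ⟨A, hAn, hAp⟩ := exists_normal_prime_card_of_isSupersolvable
    (isSupersolvable_quotient Z hss)
  set r := Nat.card A with hr
  have hrf : Fact r.Prime := ⟨hAp⟩
  have hAne : A ≠ ⊥ := by
    intro h
    rw [hr, h, Subgroup.card_bot] at hAp
    exact Nat.not_prime_one hAp
  obtain ⟨ā, hā⟩ := (Subgroup.ne_bot_iff_exists_ne_one).mp hAne
  obtain ⟨b0, hb0⟩ := QuotientGroup.mk_surjective (ā : Γ ⧸ Z)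
  have hord0 : orderOf b0 ≠ 0 := (orderOf_pos b0).ne'
  obtain ⟨e, m, hm, heq⟩ := Nat.exists_eq_pow_mul_and_not_dvd hord0 r hAp.ne_one
  have hm0 : m ≠ 0 := by
    rintro rfl
    rw [mul_zero] at heq
    exact hord0 heq
  set b : Γ := b0 ^ m with hb
  have hordb : orderOf b = r ^ e := by
    rw [hb, orderOf_pow_of_dvd hm0 (by rw [heq]; exact Dvd.intro_left _ rfl), heq,
      Nat.mul_div_cancel _ (Nat.pos_of_ne_zero hm0)]
  set β : A := ā ^ m with hβ
  have hmkb : ((b : Γ) : Γ ⧸ Z) = (β : Γ ⧸ Z) := by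
    rw [hb, hβ, QuotientGroup.mk_pow, hb0, Subgroup.coe_pow]
  have hāord : orderOf ā = r := by
    apply orderOf_eq_prime _ hā
    rw [hr]
    exact pow_card_eq_one'
  have hβne : β ≠ 1 := by
    intro h
    rw [hβ] at h
    have := orderOf_dvd_of_pow_eq_one h
    rw [hāord] at this
    exact hm this
  have hbns : ¬ IsScal ((b : Γ) : LE p V) := by
    intro h
    have hbZ : b ∈ Z := h
    have h1 : ((b : Γ) : Γ ⧸ Z) = 1 := (QuotientGroup.eq_one_iff b).mpr hbZ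
    rw [hmkb] at h1
    apply hβne
    exact Subtype.ext h1
  refine ⟨r, (b : LE p V), e, hAp, b.2, ?_, hbns, ?_⟩
  · rw [Subgroup.orderOf_coe]; exact hordb
  · intro g hg
    set g' : Γ := ⟨g, hg⟩ with hg'
    have hc : (g' : Γ ⧸ Z) * (β : Γ ⧸ Z) * (g' : Γ ⧸ Z)⁻¹ ∈ A := hAn.conj_mem _ β.2 _
    have hmem : (⟨_, hc⟩ : A) ∈ Subgroup.zpowers β :=
      mem_zpowers_of_prime_card (p := r) hr.symm hβne
    rw [← mem_powers_iff_mem_zpowers] at hmem
    obtain ⟨j, hj⟩ := Submonoid.mem_powers_iff _ _ |>.mp hmem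
    have hj' : ((β : Γ ⧸ Z)) ^ j = (g' : Γ ⧸ Z) * (β : Γ ⧸ Z) * (g' : Γ ⧸ Z)⁻¹ := by
      have := congrArg (fun x : A => (x : Γ ⧸ Z)) hj
      simpa using this
    rw [← hmkb] at hj'
    have h2 : ((b ^ j : Γ) : Γ ⧸ Z) = ((g' * b * g'⁻¹ : Γ) : Γ ⧸ Z) := by
      rw [QuotientGroup.mk_pow, hj', QuotientGroup.mk_mul, QuotientGroup.mk_mul,
        QuotientGroup.mk_inv]
    have h3 : (b ^ j)⁻¹ * (g' * b * g'⁻¹) ∈ Z := QuotientGroup.eq.mp h2
    obtain ⟨s, hs⟩ := h3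
    refine ⟨j, s, fun v => ?_⟩
    have h4 := hs v
    have h5 : (g * (b : LE p V) * g⁻¹) v = ((b : LE p V) ^ j) (((b : LE p V) ^ j)⁻¹ ((g * (b : LE p V) * g⁻¹) v)) := by
      rw [LinearEquiv.coe_inv, LinearEquiv.apply_symm_apply]
    rw [h5]
    have h6 : (((b : LE p V) ^ j)⁻¹ ((g * (b : LE p V) * g⁻¹) v)) = s • v := by
      rw [← h4]
      rfl
    rw [h6, map_smul]

end Cfsg.Agent.Lib.Helper71.IrrMod
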