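import Mathlib
import Cfsg.Prelude.Def_SolvableStructure
import Cfsg.Agent.Lib.Helper71.IrrModA
import Cfsg.Agent.Lib.Helper71.IrrModB

set_option autoImplicit false

namespace Cfsg.Agent.Lib.Helper71.IrrMod

variable {p : ℕ} [hp : Fact p.Prime] {V : Type*} [AddCommGroup V] [Module (ZMod p) V]

set_option maxHeartbeats 1600000 in
/-- An irreducible faithful module over `ZMod p` for a supersolvable group in which every
`p'`-element of prime power order acts by a scalar on its commutator space has order `p`. -/
theorem card_eq_prime [Finite V] [Nontrivial V] (Γ : Subgroup (LE p V))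
    (hss : Cfsg.IsSupersolvable Γ)
    (hirr : ∀ W : Submodule (ZMod p) V, (∀ γ ∈ Γ, ∀ w ∈ W, γ w ∈ W) → W = ⊥ ∨ W = ⊤)
    (hH : ∀ γ ∈ Γ, ∀ r : ℕ, r.Prime → r ≠ p → (∃ a, orderOf γ = r ^ a) →
      ∀ v : V, ∃ s : ZMod p, γ (v - γ v) = s • (v - γ v)) :
    Nat.card V = p := by
  by_cases hZ : scalSub Γ = ⊤
  · obtain ⟨v, hv⟩ := exists_ne (0 : V)
    have hinv : ∀ γ ∈ Γ, ∀ w ∈ (ZMod p ∙ v), γ w ∈ (ZMod p ∙ v) := by
      intro γ hγ w hw
      have : (⟨γ, hγ⟩ : Γ) ∈ scalSub Γ := by rw [hZ]; trivial
      obtain ⟨s, hs⟩ := this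
      rw [show γ w = s • w from hs w]
      exact Submodule.smul_mem _ _ hw
    rcases hirr _ hinv with h | h
    · exfalso; rw [Submodule.span_singleton_eq_bot] at h; exact hv h
    · have h1 : Module.finrank (ZMod p) V = 1 := by
        rw [← finrank_top (ZMod p) V, ← h]; exact finrank_span_singleton hv
      rw [Module.natCard_eq_pow_finrank (K := ZMod p) (V := V), h1, pow_one, Nat.card_zmod]
  · exfalso
    obtain ⟨r, b, a, hr, hbΓ, hord, hbns, hconj⟩ := exists_special Γ hss hZ
    have hb1 : b ^ (r ^ a) = 1 := by rw [← hord]; exact pow_orderOf_eq_one b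
    by_cases hrp : r = p
    · rw [hrp] at hb1
      obtain ⟨v0, hv0, hfix⟩ := exists_fixed_of_pElement b a hb1
      have hinv : ∀ γ ∈ Γ, ∀ w ∈ fixS b, γ w ∈ fixS b := by
        intro g hg w hw
        rw [mem_fixS] at hw ⊢
        obtain ⟨j, s, hjs⟩ := hconj g⁻¹ (Γ.inv_mem hg)
        rw [inv_inv] at hjs
        have hck : ∀ k : ℕ, ∀ v, ((g⁻¹ * b * g) ^ k) v = s ^ k • (b ^ (j * k)) v := by
          intro k
          induction k with
          | zero => intro v; simp
          | succ k ih =>
            intro v
            rw [pow_succ', LinearEquiv.mul_apply, ih, map_smul, hjs, ← LinearEquiv.mul_apply,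
              ← pow_add, smul_smul, ← pow_succ, Nat.mul_add_one, add_comm (j * k) j]
        have hc1 : (g⁻¹ * b * g) ^ (p ^ a) = 1 := by
          have := conj_pow (a := g⁻¹) (b := b) (i := p ^ a)
          rw [inv_inv] at this
          rw [this, hb1]
          group
        have h1 := hck (p ^ a) v0
        rw [hc1, pow_apply_of_fix hfix, ZMod.pow_card_pow, LinearEquiv.coe_one, id_eq] at h1
        have hs1 : s = 1 := by
          have h2 : (s - 1) • v0 = 0 := by rw [sub_smul, one_smul, ← h1, sub_self]
          rcases smul_eq_zero.mp h2 with h3 | h3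
          · exact sub_eq_zero.mp h3
          · exact absurd h3 hv0
        have h2 := hjs w
        rw [pow_apply_of_fix hw, hs1, one_smul] at h2
        simp only [LinearEquiv.mul_apply, LinearEquiv.coe_inv] at h2
        have := congrArg g h2
        rw [LinearEquiv.apply_symm_apply] at this
        exact this
      rcases hirr _ hinv with h | h
      · exact hv0 ((Submodule.mem_bot _).mp (h ▸ mem_fixS.mpr hfix))
      · apply hbns
        refine ⟨1, fun v => ?_⟩
        rw [one_smul]
        exact mem_fixS.mp (h ▸ Submodule.mem_top)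
    · have hcop : (r ^ a).Coprime p :=
        Nat.Coprime.pow_left a ((Nat.coprime_primes hr hp.out).mpr hrp)
      set V0 := fixS b with hV0
      set V1 := comS b with hV1
      have hdisj : Disjoint V0 V1 := fixS_disjoint_comS b _ hb1 hcop
      have hdec := exists_decomp b _ hb1 hcop
      obtain ⟨lam, hlam⟩ := uniform_scalar (b : V →ₗ[ZMod p] V) V1 (by
        intro w hw
        obtain ⟨v, rfl⟩ := mem_comS.mp hw
        exact hH b hbΓ r hr hrp ⟨a, hord⟩ v)
      have hlam' : ∀ w ∈ V1, b w = lam • w := hlam
      have hfix0 : ∀ w ∈ V0, b w = w := fun w hw => mem_fixS.mp hw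
      have hV1ne : ∃ v1 ∈ V1, v1 ≠ 0 := by
        by_contra hcon
        push Not at hcon
        apply hbns
        refine ⟨1, fun v => ?_⟩
        have := hcon _ (sub_mem_comS b v)
        rw [sub_eq_zero] at this
        rw [one_smul, ← this]
      have hV0ne : ∃ v0 ∈ V0, v0 ≠ 0 := by
        by_contra hcon
        push Not at hcon
        apply hbns
        refine ⟨lam, fun v => ?_⟩
        obtain ⟨v0, h0, v1, h1, rfl⟩ := hdec v
        rw [hcon v0 h0, zero_add]
        exact hlam' v1 h1
      obtain ⟨w0, hw0, hw0ne⟩ := hV0ne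
      obtain ⟨w1, hw1, hw1ne⟩ := hV1ne
      have hlam1 : lam ≠ 1 := by
        intro h
        have : w1 ∈ V0 := by rw [hV0, mem_fixS, hlam' w1 hw1, h, one_smul]
        exact hw1ne ((Submodule.disjoint_def.mp hdisj) w1 this hw1)
      have hlampow : lam ^ (r ^ a) = 1 := by
        have := pow_apply_of_smul (hlam' w1 hw1) (r ^ a)
        rw [hb1, LinearEquiv.coe_one, id_eq] at this
        have h2 : (lam ^ (r ^ a) - 1) • w1 = 0 := by rw [sub_smul, one_smul, ← this, sub_self]
        rcases smul_eq_zero.mp h2 with h3 | h3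
        · exact sub_eq_zero.mp h3
        · exact absurd h3 hw1ne
      have hlam0 : lam ≠ 0 := by
        intro h
        rw [h, zero_pow (pow_ne_zero _ hr.ne_zero)] at hlampow
        exact zero_ne_one hlampow
      have hdich : ∀ g ∈ Γ, (∀ v0 ∈ V0, g v0 ∈ V0) ∨
          ((∀ v0 ∈ V0, g v0 ∈ V1) ∧ (∀ v1 ∈ V1, g v1 ∈ V0) ∧
            (∀ v0 ∈ V0, (g * b * g⁻¹) v0 = lam • v0) ∧
            (∀ v1 ∈ V1, (g * b * g⁻¹) v1 = v1)) := by
        intro g hg
        obtain ⟨j, s, hjs⟩ := hconj g hg
        set mu := s * lam ^ j with hmu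
        have hb'0 : ∀ v0 ∈ V0, (g * b * g⁻¹) v0 = s • v0 := by
          intro v0 h0
          rw [hjs, pow_apply_of_fix (hfix0 v0 h0)]
        have hb'1 : ∀ v1 ∈ V1, (g * b * g⁻¹) v1 = mu • v1 := by
          intro v1 h1
          rw [hjs, pow_apply_of_smul (hlam' v1 h1), smul_smul]
        have hgfix : ∀ v0 ∈ V0, (g * b * g⁻¹) (g v0) = g v0 := by
          intro v0 h0
          simp only [LinearEquiv.mul_apply, LinearEquiv.coe_inv, LinearEquiv.symm_apply_apply]
          rw [hfix0 v0 h0]
        have hkey : ∀ x0 ∈ V0, ∀ x1 ∈ V1, (g * b * g⁻¹) (x0 + x1) = x0 + x1 →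
            (s - 1) • x0 = 0 ∧ (mu - 1) • x1 = 0 := by
          intro x0 h0 x1 h1 hx
          rw [map_add, hb'0 x0 h0, hb'1 x1 h1] at hx
          apply decomp_unique hdisj (V0.smul_mem _ h0) (V1.smul_mem _ h1)
          have : (s - 1) • x0 + (mu - 1) • x1 = (s • x0 + mu • x1) - (x0 + x1) := by module
          rw [this, hx, sub_self]
        by_cases hs1 : s = 1
        · left
          intro v0 h0
          obtain ⟨x0, hx0, x1, hx1, hx⟩ := hdec (g v0)
          have := hkey x0 hx0 x1 hx1 (by rw [hx]; exact hgfix v0 h0)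
          rcases smul_eq_zero.mp this.2 with h3 | h3
          · exfalso
            apply hbns
            refine ⟨1, fun v => ?_⟩
            rw [one_smul]
            have hb'id : ∀ v, (g * b * g⁻¹) v = v := by
              intro v
              obtain ⟨y0, hy0, y1, hy1, rfl⟩ := hdec v
              rw [map_add, hb'0 y0 hy0, hb'1 y1 hy1, hs1, sub_eq_zero.mp h3, one_smul, one_smul]
            have := hb'id (g v)
            simp only [LinearEquiv.mul_apply, LinearEquiv.coe_inv,
              LinearEquiv.symm_apply_apply] at this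
            exact g.injective this
          · rw [← hx, h3, add_zero]; exact hx0
        · right
          have hs1' : s - 1 ≠ 0 := sub_ne_zero.mpr hs1
          have hgV0 : ∀ v0 ∈ V0, g v0 ∈ V1 := by
            intro v0 h0
            obtain ⟨x0, hx0, x1, hx1, hx⟩ := hdec (g v0)
            have := hkey x0 hx0 x1 hx1 (by rw [hx]; exact hgfix v0 h0)
            rcases smul_eq_zero.mp this.1 with h3 | h3
            · exact absurd h3 hs1'
            · rw [← hx, h3, zero_add]; exact hx1
          have hmu1 : mu = 1 := by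
            have h1 := hgV0 w0 hw0
            have := hkey 0 V0.zero_mem (g w0) h1 (by rw [zero_add]; exact hgfix w0 hw0)
            rcases smul_eq_zero.mp this.2 with h3 | h3
            · exact sub_eq_zero.mp h3
            · exfalso; apply hw0ne; apply g.injective; rw [h3, map_zero]
          have hgV1 : ∀ v1 ∈ V1, g v1 ∈ V0 := by
            intro v1 h1
            obtain ⟨u, rfl⟩ := mem_comS.mp h1
            have e1 : g (u - b u) = g u - (g * b * g⁻¹) (g u) := by
              simp only [LinearEquiv.mul_apply, LinearEquiv.coe_inv,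
                LinearEquiv.symm_apply_apply, map_sub]
            obtain ⟨y0, hy0, y1, hy1, hy⟩ := hdec (g u)
            rw [e1, ← hy, map_add, hb'0 y0 hy0, hb'1 y1 hy1, hmu1, one_smul]
            have : y0 + y1 - (s • y0 + y1) = (1 - s) • y0 := by module
            rw [this]
            exact V0.smul_mem _ hy0
          have hs_lam : s = lam := by
            have h0 := hgV1 w1 hw1
            have e1 : (g * b * g⁻¹) (g w1) = lam • g w1 := by
              simp only [LinearEquiv.mul_apply, LinearEquiv.coe_inv,
                LinearEquiv.symm_apply_apply]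
              rw [hlam' w1 hw1, map_smul]
            rw [hb'0 _ h0] at e1
            have h2 : (s - lam) • g w1 = 0 := by rw [sub_smul, e1, sub_self]
            rcases smul_eq_zero.mp h2 with h3 | h3
            · exact sub_eq_zero.mp h3
            · exfalso; apply hw1ne; apply g.injective; rw [h3, map_zero]
          refine ⟨hgV0, hgV1, ?_, ?_⟩
          · intro v0 h0; rw [hb'0 v0 h0, hs_lam]
          · intro v1 h1; rw [hb'1 v1 h1, hmu1, one_smul]
      have hexg : ∃ g ∈ Γ, ¬ (∀ v0 ∈ V0, g v0 ∈ V0) := by
        by_contra hcon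
        push Not at hcon
        rcases hirr V0 hcon with h | h
        · exact hw0ne ((Submodule.mem_bot _).mp (h ▸ hw0))
        · have : w1 ∈ V0 := by rw [h]; trivial
          exact hw1ne ((Submodule.disjoint_def.mp hdisj) w1 this hw1)
      obtain ⟨g, hg, hgn⟩ := hexg
      rcases hdich g hg with h | ⟨hg0, hg1, hb'0, hb'1⟩
      · exact hgn h
      set b' := g * b * g⁻¹ with hb'
      have hb'Γ : b' ∈ Γ := Γ.mul_mem (Γ.mul_mem hg hbΓ) (Γ.inv_mem hg)
      by_cases hl2 : lam ^ 2 = 1
      · -- `lam = -1`, `p` odd: use a swapping 2-element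
        have hlamneg : lam = -1 := by
          have : (lam - 1) * (lam + 1) = 0 := by
            have : (lam - 1) * (lam + 1) = lam ^ 2 - 1 := by ring
            rw [this, hl2, sub_self]
          rcases mul_eq_zero.mp this with h | h
          · exact absurd (sub_eq_zero.mp h) hlam1
          · exact eq_neg_of_add_eq_zero_left h
        have hp2 : (2 : ℕ) ≠ p := by
          intro h
          apply hlam1
          have h2 : ((2 : ℕ) : ZMod p) = 0 := (ZMod.natCast_eq_zero_iff 2 p).mpr (by rw [h])
          rw [hlamneg]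
          have : (2 : ZMod p) = 0 := by exact_mod_cast h2
          linear_combination (-1 : ZMod p) * this
        have hS : ∀ (A B : Submodule (ZMod p) V), Disjoint A B → ∀ y ∈ Γ,
            (∃ e, orderOf y = 2 ^ e) →
            (∀ v ∈ A, y v ∈ B) → (∀ v ∈ B, y v ∈ A) → ∀ v ∈ A, y (y v) = v := by
          intro A B hAB y hyΓ hyord hyA hyB v hv
          by_cases hv0 : v = 0
          · rw [hv0, map_zero, map_zero]
          obtain ⟨n, hn⟩ := hH y hyΓ 2 Nat.prime_two hp2 hyord v
          rw [map_sub] at hn
          have hdu := decomp_unique hAB (a := - y (y v) - n • v) (b := y v + n • y v)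
            (A.sub_mem (A.neg_mem (hyB _ (hyA v hv))) (A.smul_mem _ hv))
            (B.add_mem (hyA v hv) (B.smul_mem _ (hyA v hv))) (by
              have : - y (y v) - n • v + (y v + n • y v)
                  = (y v - y (y v)) - n • (v - y v) := by module
              rw [this, hn, sub_self])
          have hn1 : n = -1 := by
            have h2 : (1 + n) • y v = 0 := by rw [add_smul, one_smul]; exact hdu.2
            rcases smul_eq_zero.mp h2 with h3 | h3
            · exact eq_neg_of_add_eq_zero_right h3
            · exfalso; apply hv0; apply y.injective; rw [h3, map_zero]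
          have h1 := hdu.1
          rw [hn1] at h1
          have h4 : - y (y v) - (-1 : ZMod p) • v = v - y (y v) := by module
          rw [h4] at h1
          exact (sub_eq_zero.mp h1).symm
        obtain ⟨e, m, hm, heq⟩ :=
          Nat.exists_eq_pow_mul_and_not_dvd (orderOf_pos g).ne' 2 (by norm_num)
        have hm0 : m ≠ 0 := by
          rintro rfl
          exact hm (dvd_zero 2)
        set t := g ^ m with ht
        have htΓ : t ∈ Γ := Γ.pow_mem hg m
        have htord : orderOf t = 2 ^ e := by
          rw [ht, orderOf_pow_of_dvd hm0 (by rw [heq]; exact Dvd.intro_left _ rfl), heq,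
            Nat.mul_div_cancel _ (Nat.pos_of_ne_zero hm0)]
        have hg2 : ∀ k : ℕ, (∀ v ∈ V0, (g ^ (2 * k)) v ∈ V0) ∧
            (∀ v ∈ V1, (g ^ (2 * k)) v ∈ V1) := by
          intro k
          induction k with
          | zero => simp
          | succ k ih =>
            have e2 : 2 * (k + 1) = 2 + 2 * k := by ring
            rw [e2, pow_add, pow_two]
            constructor
            · intro v hv
              simp only [LinearEquiv.mul_apply]
              exact hg1 _ (hg0 _ (ih.1 v hv))
            · intro v hv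
              simp only [LinearEquiv.mul_apply]
              exact hg0 _ (hg1 _ (ih.2 v hv))
        obtain ⟨k, hk⟩ : ∃ k, m = 2 * k + 1 := ⟨m / 2, by omega⟩
        have htg : t = g * g ^ (2 * k) := by rw [← pow_succ', ← hk]
        have ht0 : ∀ v ∈ V0, t v ∈ V1 := by
          intro v hv
          rw [htg, LinearEquiv.mul_apply]
          exact hg0 _ ((hg2 k).1 v hv)
        have ht1 : ∀ v ∈ V1, t v ∈ V0 := by
          intro v hv
          rw [htg, LinearEquiv.mul_apply]
          exact hg1 _ ((hg2 k).2 v hv)
        have htt : ∀ v, t (t v) = v := by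
          intro v
          obtain ⟨v0, h0, v1, h1, rfl⟩ := hdec v
          rw [map_add, map_add, hS V0 V1 hdisj t htΓ ⟨e, htord⟩ ht0 ht1 v0 h0,
            hS V1 V0 hdisj.symm t htΓ ⟨e, htord⟩ ht1 ht0 v1 h1]
        set u := b * t with hu
        have huΓ : u ∈ Γ := Γ.mul_mem hbΓ htΓ
        have hu0 : ∀ v ∈ V0, u v ∈ V1 := fun v hv => by
          rw [hu, LinearEquiv.mul_apply, hlam' _ (ht0 v hv)]
          exact V1.smul_mem _ (ht0 v hv)
        have hu1 : ∀ v ∈ V1, u v ∈ V0 := fun v hv => by
          rw [hu, LinearEquiv.mul_apply, hfix0 _ (ht1 v hv)]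
          exact ht1 v hv
        have huu : ∀ v, u (u v) = lam • v := by
          intro v
          obtain ⟨v0, h0, v1, h1, rfl⟩ := hdec v
          simp only [hu, LinearEquiv.mul_apply, map_add]
          rw [hlam' _ (ht0 v0 h0), map_smul, htt, map_smul, hfix0 v0 h0, hfix0 _ (ht1 v1 h1),
            htt, hlam' v1 h1, smul_add]
        have hu4 : u ^ 4 = 1 := by
          ext v
          have : u ^ 4 = u * u * (u * u) := by
            rw [show (4 : ℕ) = 2 + 2 from rfl, pow_add, pow_two]
          rw [this]
          simp only [LinearEquiv.mul_apply]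
          rw [huu, huu, smul_smul, ← pow_two, hl2, one_smul]
          simp
        obtain ⟨e', -, he'⟩ := (Nat.dvd_prime_pow Nat.prime_two).mp
          (show orderOf u ∣ 2 ^ 2 from orderOf_dvd_of_pow_eq_one hu4)
        have hfin := hS V1 V0 hdisj.symm u huΓ ⟨e', he'⟩ hu1 hu0 w1 hw1
        rw [huu] at hfin
        apply hlam1
        have h2 : (lam - 1) • w1 = 0 := by rw [sub_smul, one_smul, hfin, sub_self]
        rcases smul_eq_zero.mp h2 with h3 | h3
        · exact sub_eq_zero.mp h3
        · exact absurd h3 hw1ne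
      · set y := b * b' * b' with hy
        have hyΓ : y ∈ Γ := Γ.mul_mem (Γ.mul_mem hbΓ hb'Γ) hb'Γ
        have hy0 : ∀ v0 ∈ V0, y v0 = lam ^ 2 • v0 := by
          intro v0 h0
          simp only [hy, LinearEquiv.mul_apply]
          rw [hb'0 v0 h0, map_smul, hb'0 v0 h0, map_smul, map_smul, hfix0 v0 h0, smul_smul,
            pow_two]
        have hy1 : ∀ v1 ∈ V1, y v1 = lam • v1 := by
          intro v1 h1
          simp only [hy, LinearEquiv.mul_apply]
          rw [hb'1 v1 h1, hb'1 v1 h1, hlam' v1 h1]
        have hyord : y ^ (r ^ a) = 1 := by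
          ext v
          obtain ⟨v0, h0, v1, h1, rfl⟩ := hdec v
          rw [map_add, pow_apply_of_smul (hy0 v0 h0), pow_apply_of_smul (hy1 v1 h1), ← pow_mul,
            mul_comm 2, pow_mul, hlampow, one_pow, one_smul, one_smul]
          simp
        obtain ⟨a', -, ha'⟩ := (Nat.dvd_prime_pow hr).mp (orderOf_dvd_of_pow_eq_one hyord)
        obtain ⟨t, ht⟩ := hH y hyΓ r hr hrp ⟨a', ha'⟩ (w0 + w1)
        rw [map_add, hy0 w0 hw0, hy1 w1 hw1] at ht
        have e1 : w0 + w1 - (lam ^ 2 • w0 + lam • w1)
            = (1 - lam ^ 2) • w0 + (1 - lam) • w1 := by module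
        rw [e1, map_add, map_smul, map_smul, hy0 w0 hw0, hy1 w1 hw1] at ht
        have hdu := decomp_unique hdisj (a := ((lam ^ 2 - t) * (1 - lam ^ 2)) • w0)
          (b := ((lam - t) * (1 - lam)) • w1) (V0.smul_mem _ hw0) (V1.smul_mem _ hw1) (by
            have : ((lam ^ 2 - t) * (1 - lam ^ 2)) • w0 + ((lam - t) * (1 - lam)) • w1
                = ((1 - lam ^ 2) • lam ^ 2 • w0 + (1 - lam) • lam • w1)
                  - t • ((1 - lam ^ 2) • w0 + (1 - lam) • w1) := by module
            rw [this, ht, sub_self])
        have ht0 : t = lam ^ 2 := by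
          rcases smul_eq_zero.mp hdu.1 with h3 | h3
          · rcases mul_eq_zero.mp h3 with h4 | h4
            · exact (sub_eq_zero.mp h4).symm
            · exact absurd (sub_eq_zero.mp h4).symm hl2
          · exact absurd h3 hw0ne
        have ht1 : t = lam := by
          rcases smul_eq_zero.mp hdu.2 with h3 | h3
          · rcases mul_eq_zero.mp h3 with h4 | h4
            · exact (sub_eq_zero.mp h4).symm
            · exact absurd (sub_eq_zero.mp h4).symm hlam1
          · exact absurd h3 hw1ne
        apply hlam1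
        have : lam * (lam - 1) = 0 := by rw [mul_sub, mul_one, ← pow_two, ← ht0, ht1, sub_self]
        rcases mul_eq_zero.mp this with h | h
        · exact absurd h hlam0
        · exact sub_eq_zero.mp h

end Cfsg.Agent.Lib.Helper71.IrrMod
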