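import Mathlib
import Cfsg.Prelude.Def_Solvable
import Cfsg.Agent.S0035
import Cfsg.Agent.Lib.Helper35.FrobeniusHall

/-!
# Groups with trivial centre in which every nonidentity element has a maximal centralizer

Basic lemmas: `C x` (centralizer of an element), `Zc x` (centre of `C x` as a subgroup of `G`),
the partition argument showing a nonabelian `C x` has prime exponent, and the Frobenius case.
-/

set_option autoImplicit false

namespace Cfsg.Agent.Lib.Helper71.MaxCent

open scoped Pointwise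

variable {G : Type*} [Group G]

/-- Centralizer of an element. -/
abbrev C (x : G) : Subgroup G := Subgroup.centralizer ({x} : Set G)

theorem mem_C {x k : G} : k ∈ C x ↔ k * x = x * k := Subgroup.mem_centralizer_singleton_iff

theorem self_mem_C (x : G) : x ∈ C x := mem_C.mpr rfl

/-- The centre of `C x`, as a subgroup of `G`. -/
def Zc (x : G) : Subgroup G := C x ⊓ Subgroup.centralizer (C x : Set G)

theorem mem_Zc {x z : G} :
    z ∈ Zc x ↔ z * x = x * z ∧ ∀ m : G, m * x = x * m → m * z = z * m := by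
  unfold Zc
  rw [Subgroup.mem_inf, mem_C, Subgroup.mem_centralizer_iff]
  constructor
  · rintro ⟨h1, h2⟩
    exact ⟨h1, fun m hm => h2 m (show m ∈ (C x : Set G) from mem_C.mpr hm)⟩
  · rintro ⟨h1, h2⟩
    exact ⟨h1, fun m hm => h2 m (mem_C.mp hm)⟩

theorem self_mem_Zc (x : G) : x ∈ Zc x := mem_Zc.mpr ⟨rfl, fun _ hm => hm⟩

theorem Zc_le_C_self (x : G) : Zc x ≤ C x := inf_le_left

theorem Zc_le_C {x y : G} (hy : y ∈ C x) : Zc y ≤ C x := by
  intro z hz
  rw [mem_Zc] at hz
  rw [mem_C]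
  exact (hz.2 x (mem_C.mp hy).symm).symm

theorem Zc_congr {a b : G} (h : C a = C b) : Zc a = Zc b := by
  unfold Zc; rw [h]

theorem Zc_ne_bot {x : G} (hx : x ≠ 1) : Zc x ≠ ⊥ := by
  intro h0
  have := self_mem_Zc x
  rw [h0, Subgroup.mem_bot] at this
  exact hx this

theorem C_eq_of_mem_Zc (H1 : ∀ g : G, g ≠ 1 → IsCoatom (C g)) {x a : G} (hx : x ≠ 1)
    (ha : a ∈ Zc x) (ha1 : a ≠ 1) : C a = C x := by
  have hle : C x ≤ C a := by
    intro m hm
    rw [mem_C] at hm ⊢
    exact (mem_Zc.mp ha).2 m hm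
  exact ((H1 x hx).le_iff_eq (H1 a ha1).1).mp hle

theorem not_mem_center (H1 : ∀ g : G, g ≠ 1 → IsCoatom (C g)) {g : G} (hg : g ≠ 1) :
    g ∉ Subgroup.center G := by
  intro h
  apply (H1 g hg).1
  rw [eq_top_iff]
  intro m _
  rw [mem_C]
  exact Subgroup.mem_center_iff.mp h m

/-- The partition argument: a nonabelian `C x` has prime exponent. -/
theorem exists_prime_exponent [Finite G] (H1 : ∀ g : G, g ≠ 1 → IsCoatom (C g)) {x : G}
    (hx : x ≠ 1) (hna : ¬ C x ≤ Zc x) : ∃ p : ℕ, p.Prime ∧ ∀ m ∈ C x, m ^ p = 1 := by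
  obtain ⟨y₀, hy₀M, hy₀A⟩ := SetLike.not_le_iff_exists.mp hna
  have hn1 : orderOf x ≠ 1 := by rwa [Ne, orderOf_eq_one_iff]
  have hn0 : orderOf x ≠ 0 := (orderOf_pos x).ne'
  obtain ⟨p, hp⟩ : ∃ p, p = (orderOf x).minFac := ⟨_, rfl⟩
  have hpp : p.Prime := by rw [hp]; exact Nat.minFac_prime hn1
  have hpd : p ∣ orderOf x := by rw [hp]; exact Nat.minFac_dvd _
  obtain ⟨a, ha⟩ : ∃ a, a = x ^ (orderOf x / p) := ⟨_, rfl⟩
  have hoa : orderOf a = p := by rw [ha]; exact orderOf_pow_orderOf_div hn0 hpd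
  have haA : a ∈ Zc x := by rw [ha]; exact Subgroup.pow_mem _ (self_mem_Zc x) _
  have ha1 : a ≠ 1 := by
    intro h
    rw [← orderOf_eq_one_iff, hoa] at h
    exact hpp.one_lt.ne' h
  have hap : a ^ p = 1 := by rw [← hoa]; exact pow_orderOf_eq_one a
  have hCa : C a = C x := C_eq_of_mem_Zc H1 hx haA ha1
  have claim1 : ∀ y ∈ C x, y ∉ Zc x → y ^ p = 1 := by
    intro y hyM hyA
    by_contra hyp
    have hy1 : y ≠ 1 := fun h => hyA (h ▸ Subgroup.one_mem _)
    have hcomm : Commute a y := ((mem_Zc.mp haA).2 y (mem_C.mp hyM)).symm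
    have hay1 : a * y ≠ 1 := by
      intro h
      apply hyA
      have : y = a⁻¹ := eq_inv_of_mul_eq_one_right h
      rw [this]
      exact Subgroup.inv_mem _ haA
    have hpow : (a * y) ^ p = y ^ p := by rw [hcomm.mul_pow, hap, one_mul]
    have h1 : y ^ p ∈ Zc (a * y) := by
      rw [← hpow]; exact Subgroup.pow_mem _ (self_mem_Zc _) _
    have e1 : C (y ^ p) = C (a * y) := C_eq_of_mem_Zc H1 hay1 h1 hyp
    have h2 : y ^ p ∈ Zc y := Subgroup.pow_mem _ (self_mem_Zc _) _
    have e2 : C (y ^ p) = C y := C_eq_of_mem_Zc H1 hy1 h2 hyp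
    have e3 : Zc (a * y) = Zc y := Zc_congr (e1.symm.trans e2)
    have h3 : a * y ∈ Zc y := by rw [← e3]; exact self_mem_Zc (a * y)
    have h4 : a ∈ Zc y := by
      have := Subgroup.mul_mem _ h3 (Subgroup.inv_mem _ (self_mem_Zc y))
      rwa [mul_inv_cancel_right] at this
    have e4 : C a = C y := C_eq_of_mem_Zc H1 hy1 h4 ha1
    have e5 : Zc y = Zc x := Zc_congr (e4.symm.trans hCa)
    exact hyA (by rw [← e5]; exact self_mem_Zc y)
  have claim2 : ∀ z ∈ Zc x, z ^ p = 1 := by
    intro z hz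
    have hzy : z * y₀ ∈ C x := Subgroup.mul_mem _ (Zc_le_C_self x hz) hy₀M
    have hzy' : z * y₀ ∉ Zc x := by
      intro h
      apply hy₀A
      have := Subgroup.mul_mem _ (Subgroup.inv_mem _ hz) h
      rwa [inv_mul_cancel_left] at this
    have hcomm : Commute z y₀ := ((mem_Zc.mp hz).2 y₀ (mem_C.mp hy₀M)).symm
    have := claim1 _ hzy hzy'
    rw [hcomm.mul_pow, claim1 y₀ hy₀M hy₀A, mul_one] at this
    exact this
  refine ⟨p, hpp, fun m hm => ?_⟩
  by_cases hmA : m ∈ Zc x
  · exact claim2 m hmA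
  · exact claim1 m hm hmA

/-- If `x ≠ 1`, `x ^ r = 1` with `r` prime and `C x` is nonabelian, then `C x` has exponent `r`. -/
theorem exponent_eq [Finite G] (H1 : ∀ g : G, g ≠ 1 → IsCoatom (C g)) {x : G}
    (hx : x ≠ 1) (hna : ¬ C x ≤ Zc x) {r : ℕ} (hr : r.Prime) (hxr : x ^ r = 1) :
    ∀ m ∈ C x, m ^ r = 1 := by
  obtain ⟨q, hq, hexpq⟩ := exists_prime_exponent H1 hx hna
  have hxq : x ^ q = 1 := hexpq x (self_mem_C x)
  have h1 : orderOf x ∣ q := orderOf_dvd_of_pow_eq_one hxq
  have h2 : orderOf x ∣ r := orderOf_dvd_of_pow_eq_one hxr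
  have h3 : orderOf x ≠ 1 := by rwa [Ne, orderOf_eq_one_iff]
  have h4 : orderOf x = q := ((Nat.dvd_prime hq).mp h1).resolve_left h3
  have h5 : orderOf x = r := ((Nat.dvd_prime hr).mp h2).resolve_left h3
  have hqr : q = r := by rw [← h4, h5]
  rw [← hqr]; exact hexpq

/-- Nonidentity elements of a nonabelian `C x` again have nonabelian centralizers. -/
theorem na_of_mem [Finite G] (H1 : ∀ g : G, g ≠ 1 → IsCoatom (C g)) {x : G} (hx : x ≠ 1)
    (hna : ¬ C x ≤ Zc x) {y : G} (hy : y ∈ C x) (hy1 : y ≠ 1) : ¬ C y ≤ Zc y := by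
  by_cases hyA : y ∈ Zc x
  · have e := C_eq_of_mem_Zc H1 hx hyA hy1
    rw [Zc_congr e, e]; exact hna
  · intro hab
    have hle : C y ≤ C x := hab.trans (Zc_le_C hy)
    have e : C x = C y := ((H1 y hy1).le_iff_eq (H1 x hx).1).mp hle
    exact hyA (by rw [Zc_congr e]; exact self_mem_Zc y)

theorem index_eq_card_of_compl {K H : Subgroup G} [K.Normal] (h1 : K ⊓ H = ⊥)
    (h2 : H ⊔ K = ⊤) : K.index = Nat.card H := by
  have := Subgroup.relIndex_sup_right (H := H) (K := K)
  rw [h2, Subgroup.relIndex_top_right] at this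
  rw [this, ← Subgroup.inf_relIndex_right, h1, Subgroup.relIndex_bot_left]

/-- In the presence of a nonabelian centralizer, no centralizer is both abelian and normal. -/
theorem not_abelian_normal [Finite G] (H1 : ∀ g : G, g ≠ 1 → IsCoatom (C g)) {x : G}
    (hx : x ≠ 1) (hna : ¬ C x ≤ Zc x) {h : G} (hh : h ≠ 1)
    (hab : C h ≤ Zc h) (hnorm : (C h).Normal) : False := by
  have hinf : C h ⊓ C x = ⊥ := by
    rw [eq_bot_iff]
    intro y hy
    rw [Subgroup.mem_bot]
    by_contra hy1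
    obtain ⟨hyR, hyM⟩ := Subgroup.mem_inf.mp hy
    have hnaY := na_of_mem H1 hx hna hyM hy1
    have hle : C h ≤ C y := by
      intro m hm
      rw [mem_C]
      have hyZ : y ∈ Zc h := hab hyR
      exact (mem_Zc.mp hyZ).2 m (mem_C.mp hm)
    have e : C y = C h := ((H1 h hh).le_iff_eq (H1 y hy1).1).mp hle
    apply hnaY
    rw [Zc_congr e, e]; exact hab
  have hRM : C x ⊔ C h = ⊤ := by
    rcases (H1 x hx).le_iff.mp (le_sup_left : C x ≤ C x ⊔ C h) with h1 | h1
    · exact h1
    · exfalso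
      have hle : C h ≤ C x := by rw [← h1]; exact le_sup_right
      have h0 : C h = ⊥ := by rw [← hinf]; exact (inf_eq_left.mpr hle).symm
      have hmem : h ∈ C h := self_mem_C h
      rw [h0, Subgroup.mem_bot] at hmem
      exact hh hmem
  have hinfA : C h ⊓ Zc x = ⊥ := by
    rw [eq_bot_iff, ← hinf]; exact inf_le_inf_left _ (Zc_le_C_self x)
  have hRA : Zc x ⊔ C h = ⊤ := by
    rcases (H1 h hh).le_iff.mp (le_sup_right : C h ≤ Zc x ⊔ C h) with h1 | h1
    · exact h1
    · exfalso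
      have hle : Zc x ≤ C h := by rw [← h1]; exact le_sup_left
      have h0 : Zc x = ⊥ := by rw [← hinfA]; exact (inf_eq_right.mpr hle).symm
      exact Zc_ne_bot hx h0
  have c1 := index_eq_card_of_compl (K := C h) (H := C x) hinf hRM
  have c2 := index_eq_card_of_compl (K := C h) (H := Zc x) hinfA hRA
  have hAM : Zc x = C x :=
    Subgroup.eq_of_le_of_card_ge (Zc_le_C_self x) (by rw [← c1, c2])
  exact hna (by rw [hAM])

/-- An abelian, non-normal centralizer is a Frobenius complement, and `G` is then solvable. -/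
theorem solvable_of_abelian_nonnormal [Finite G] (H1 : ∀ g : G, g ≠ 1 → IsCoatom (C g)) {x : G}
    (hx : x ≠ 1) (hab : C x ≤ Zc x) (hnn : ¬ (C x).Normal) : Group.IsSolvable G := by
  have hcomm : ∀ a ∈ C x, ∀ b ∈ C x, a * b = b * a := fun a ha b hb =>
    (mem_Zc.mp (hab hb)).2 a (mem_C.mp ha)
  have hCy : ∀ y ∈ C x, y ≠ 1 → C y = C x := fun y hy hy1 =>
    C_eq_of_mem_Zc H1 hx (hab hy) hy1
  have hN : ∀ g : G, (∀ m : G, m ∈ C x ↔ g * m * g⁻¹ ∈ C x) → g ∈ C x := by
    intro g hg
    have hle : C x ≤ Subgroup.normalizer (C x : Set G) := Subgroup.le_normalizer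
    rcases (H1 x hx).le_iff.mp hle with h1 | h1
    · exact absurd (Subgroup.normalizer_eq_top_iff.mp h1) hnn
    · rw [← h1, Subgroup.mem_normalizer_iff]; exact hg
  have hF : Cfsg.IsFrobeniusComplement (C x) := by
    refine ⟨?_, (H1 x hx).1, ?_⟩
    · intro h0
      have hmem : x ∈ C x := self_mem_C x
      rw [h0, Subgroup.mem_bot] at hmem
      exact hx hmem
    · intro g hg
      rw [eq_bot_iff]
      intro y hy
      rw [Subgroup.mem_bot]
      by_contra hy1
      obtain ⟨hyM, hyg⟩ := Subgroup.mem_inf.mp hy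
      rw [Cfsg.Agent.Lib.Helper35.mem_conj_smul] at hyg
      apply hg
      apply hN
      intro m
      have hy'1 : g⁻¹ * y * g ≠ 1 := by
        intro h; apply hy1
        have : y = g * (g⁻¹ * y * g) * g⁻¹ := by group
        rw [this, h]; group
      have e1 := hCy _ hyg hy'1
      have e2 := hCy y hyM hy1
      constructor
      · intro hm
        rw [← e2, mem_C]
        rw [← e1, mem_C] at hm
        calc g * m * g⁻¹ * y = g * (m * (g⁻¹ * y * g)) * g⁻¹ := by group
          _ = g * ((g⁻¹ * y * g) * m) * g⁻¹ := by rw [hm]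
          _ = y * (g * m * g⁻¹) := by group
      · intro hm
        rw [← e1, mem_C]
        rw [← e2, mem_C] at hm
        calc m * (g⁻¹ * y * g) = g⁻¹ * ((g * m * g⁻¹) * y) * g := by group
          _ = g⁻¹ * (y * (g * m * g⁻¹)) * g := by rw [hm]
          _ = (g⁻¹ * y * g) * m := by group
  obtain ⟨N, hNset, hNn, hcompl⟩ := Cfsg.Agent.S0035.result (C x) hF
  have hmemN : ∀ k : G, k ∈ N ↔ (k = 1 ∨ ∀ g : G, k ∉ MulAut.conj g • C x) := by
    intro k; rw [← SetLike.mem_coe, hNset]; rfl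
  have hNtop : N ≠ ⊤ := by
    intro h
    have hx' : x ∈ N := h ▸ Subgroup.mem_top x
    rcases (hmemN x).mp hx' with h1 | h1
    · exact hx h1
    · apply h1 1
      rw [Cfsg.Agent.Lib.Helper35.mem_conj_smul]
      simpa using self_mem_C x
  have hNab : ∀ a ∈ N, ∀ b ∈ N, a * b = b * a := by
    intro a ha b hb
    by_cases ha1 : a = 1
    · rw [ha1, one_mul, mul_one]
    have hle : C a ≤ N := by
      intro c hc
      rw [mem_C] at hc
      rw [hmemN]
      by_contra hcon
      push Not at hcon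
      obtain ⟨hc1, g, hcg⟩ := hcon
      have hag := Cfsg.Agent.Lib.Helper35.mem_conj_of_commute hF hc1 hcg hc.symm
      rcases (hmemN a).mp ha with h1 | h1
      · exact ha1 h1
      · exact h1 g hag
    have e : N = C a := ((H1 a ha1).le_iff_eq hNtop).mp hle
    have hb' : b ∈ C a := e ▸ hb
    rw [mem_C] at hb'
    exact hb'.symm
  have := hNn
  have : Group.IsSolvable N :=
    Group.isSolvable_of_comm (fun a b => Subtype.ext (hNab a a.2 b b.2))
  have : Group.IsSolvable (C x) :=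
    Group.isSolvable_of_comm (fun a b => Subtype.ext (hcomm a a.2 b b.2))
  have : Group.IsSolvable (G ⧸ N) :=
    Group.isSolvable_of_isSolvable_injective
      (f := (hcompl.symm.QuotientMulEquiv).toMonoidHom) (hcompl.symm.QuotientMulEquiv).injective
  exact Group.isSolvable_of_ker_le_range N.subtype (QuotientGroup.mk' N) (by simp)

/-- If every centralizer of a nonidentity element is abelian and normal, `G` is abelian. -/
theorem comm_of_all_abelian_normal (H1 : ∀ g : G, g ≠ 1 → IsCoatom (C g))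
    (hab : ∀ x : G, x ≠ 1 → C x ≤ Zc x) (hn : ∀ x : G, x ≠ 1 → (C x).Normal)
    (x y : G) : x * y = y * x := by
  by_cases hx : x = 1
  · rw [hx, one_mul, mul_one]
  by_cases hy : y = 1
  · rw [hy, one_mul, mul_one]
  by_cases hxy : C x = C y
  · have : x ∈ C y := hxy ▸ self_mem_C x
    exact mem_C.mp this
  · have hdis : Disjoint (C x) (C y) := by
      rw [disjoint_iff, eq_bot_iff]
      intro z hz
      rw [Subgroup.mem_bot]
      by_contra hz1
      obtain ⟨hzx, hzy⟩ := Subgroup.mem_inf.mp hz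
      have e1 := C_eq_of_mem_Zc H1 hx (hab x hx hzx) hz1
      have e2 := C_eq_of_mem_Zc H1 hy (hab y hy hzy) hz1
      exact hxy (e1.symm.trans e2)
    exact Subgroup.commute_of_normal_of_disjoint _ _ (hn x hx) (hn y hy) hdis x y
      (self_mem_C x) (self_mem_C y)

end Cfsg.Agent.Lib.Helper71.MaxCent
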