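import Cfsg.Agent.Lib.Helper71.MaxCentStruct

/-!
# Groups whose noncentral elements have maximal centralizers: the case `Z₂(G) > Z(G)`.
-/

set_option autoImplicit false

namespace Cfsg.Agent.Lib.Helper71.MaxCent

open scoped Pointwise commutatorElement

variable {G : Type*} [Group G]

/-- The hypothesis passes to the quotient by the centre. -/
theorem quot_hyp (h : ∀ g : G, g ∉ Subgroup.center G → IsCoatom (C g)) :
    ∀ q : G ⧸ Subgroup.center G, q ∉ Subgroup.center (G ⧸ Subgroup.center G) → IsCoatom (C q) := by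
  intro q hq
  obtain ⟨g, rfl⟩ := QuotientGroup.mk'_surjective (Subgroup.center G) q
  have hsurj := QuotientGroup.mk'_surjective (Subgroup.center G)
  have hg : g ∉ Subgroup.center G := by
    intro hg
    apply hq
    have : (QuotientGroup.mk' (Subgroup.center G)) g = 1 := by
      rw [← MonoidHom.mem_ker, QuotientGroup.ker_mk']; exact hg
    rw [this]; exact Subgroup.one_mem _
  have hc := h g hg
  obtain ⟨D, hD⟩ : ∃ D : Subgroup (G ⧸ Subgroup.center G),
      D = C ((QuotientGroup.mk' (Subgroup.center G)) g) := ⟨_, rfl⟩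
  rw [← hD]
  have hDtop : D ≠ ⊤ := by
    intro h0
    apply hq
    rw [Subgroup.mem_center_iff]
    intro b
    have hb : b ∈ D := h0 ▸ Subgroup.mem_top b
    rw [hD, mem_C] at hb
    exact hb
  have hle : C g ≤ D.comap (QuotientGroup.mk' (Subgroup.center G)) := by
    intro m hm
    rw [mem_C] at hm
    rw [Subgroup.mem_comap, hD, mem_C, ← map_mul, ← map_mul, hm]
  have hcomapD : D.comap (QuotientGroup.mk' (Subgroup.center G)) = C g := by
    refine (hc.le_iff_eq ?_).mp hle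
    intro h0
    apply hDtop
    rw [← Subgroup.map_comap_eq_self_of_surjective hsurj D, h0,
      Subgroup.map_top_of_surjective _ hsurj]
  refine ⟨hDtop, fun B hB => ?_⟩
  have hle2 : C g ≤ B.comap (QuotientGroup.mk' (Subgroup.center G)) := by
    rw [← hcomapD]; exact Subgroup.comap_mono hB.le
  rcases hc.le_iff.mp hle2 with h1 | h1
  · rw [← Subgroup.map_comap_eq_self_of_surjective hsurj B, h1,
      Subgroup.map_top_of_surjective _ hsurj]
  · exfalso
    apply hB.ne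
    rw [← Subgroup.map_comap_eq_self_of_surjective hsurj B, h1, ← hcomapD,
      Subgroup.map_comap_eq_self_of_surjective hsurj D]

/-- A normal maximal subgroup contains all commutators. -/
theorem commutator_mem_of_normal_coatom {N : Subgroup G} (hNn : N.Normal) (hN : IsCoatom N)
    (a b : G) : ⁅a, b⁆ ∈ N := by
  by_cases ha : a ∈ N
  · have : ⁅a, b⁆ = a * (b * a⁻¹ * b⁻¹) := by rw [commutatorElement_def]; group
    rw [this]
    exact N.mul_mem ha (hNn.conj_mem a⁻¹ (N.inv_mem ha) b)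
  · have hsup : N ⊔ Subgroup.zpowers a = ⊤ := by
      rcases hN.le_iff.mp (le_sup_left : N ≤ N ⊔ Subgroup.zpowers a) with h1 | h1
      · exact h1
      · exfalso
        apply ha
        have hle : Subgroup.zpowers a ≤ N := by rw [← h1]; exact le_sup_right
        exact hle (Subgroup.mem_zpowers a)
    have hb : b ∈ ((N ⊔ Subgroup.zpowers a : Subgroup G) : Set G) := by
      rw [hsup]; exact Set.mem_univ b
    haveI := hNn
    rw [Subgroup.normal_mul] at hb
    obtain ⟨n, hn, c, hc, rfl⟩ := Set.mem_mul.mp hb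
    obtain ⟨k, rfl⟩ := Subgroup.mem_zpowers_iff.mp hc
    have : ⁅a, n * a ^ k⁆ = (a * n * a⁻¹) * n⁻¹ := by rw [commutatorElement_def]; group
    rw [this]
    exact N.mul_mem (hNn.conj_mem n hn a) (N.inv_mem hn)

/-- If `Z₂(G) > Z(G)` then `G` has class at most two. -/
theorem class_two (h : ∀ g : G, g ∉ Subgroup.center G → IsCoatom (C g))
    (hZ2 : Subgroup.center (G ⧸ Subgroup.center G) ≠ ⊥) :
    ∀ a b : G, ⁅a, b⁆ ∈ Subgroup.center G := by
  obtain ⟨Z2, hZ2def⟩ : ∃ Z2 : Subgroup G,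
      Z2 = (Subgroup.center (G ⧸ Subgroup.center G)).comap
        (QuotientGroup.mk' (Subgroup.center G)) := ⟨_, rfl⟩
  have hfact : ∀ w ∈ Z2, ∀ g : G, ⁅g, w⁆ ∈ Subgroup.center G := by
    intro w hw g
    rw [hZ2def, Subgroup.mem_comap, Subgroup.mem_center_iff] at hw
    rw [← QuotientGroup.eq_one_iff, ← QuotientGroup.mk'_apply, map_commutatorElement,
      commutatorElement_eq_one_iff_mul_comm]
    exact hw _
  obtain ⟨K, hK⟩ : ∃ K : Subgroup G, K = Subgroup.centralizer (Z2 : Set G) := ⟨_, rfl⟩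
  have hZK : Subgroup.center G ≤ K := by
    intro z hz
    rw [hK, Subgroup.mem_centralizer_iff]
    intro w _
    exact Subgroup.mem_center_iff.mp hz w
  -- an element of `Z₂ \ Z`
  obtain ⟨xq, hxq⟩ := (Subgroup.ne_bot_iff_exists_ne_one).mp hZ2
  obtain ⟨x, hx⟩ := QuotientGroup.mk'_surjective (Subgroup.center G) (xq : G ⧸ Subgroup.center G)
  have hxZ2 : x ∈ Z2 := by
    rw [hZ2def, Subgroup.mem_comap, hx]; exact xq.2
  have hxZ : x ∉ Subgroup.center G := by
    intro hxz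
    apply hxq
    apply Subtype.ext
    rw [← hx, QuotientGroup.mk'_apply, (QuotientGroup.eq_one_iff x).mpr hxz]; rfl
  obtain ⟨y₀, hy₀⟩ : ∃ y₀ : G, y₀ ∉ K := by
    by_contra hcon
    push Not at hcon
    apply hxZ
    rw [Subgroup.mem_center_iff]
    intro g
    have hg := hcon g
    rw [hK, Subgroup.mem_centralizer_iff] at hg
    exact (hg x hxZ2).symm
  -- centralizers of elements outside `K` are normal
  have hnorm : ∀ y : G, y ∉ K → (C y).Normal := by
    intro y hy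
    have hyZ : y ∉ Subgroup.center G := fun hyz => hy (hZK hyz)
    have hc := h y hyZ
    by_contra hnn
    apply hy
    have hNeq : Subgroup.normalizer (C y : Set G) = C y := by
      rcases hc.le_iff.mp (Subgroup.le_normalizer : C y ≤ Subgroup.normalizer (C y : Set G))
        with h1 | h1
      · exact absurd (Subgroup.normalizer_eq_top_iff.mp h1) hnn
      · exact h1
    have hZC : Subgroup.center G ≤ C y := by
      intro z hz
      rw [mem_C]
      exact (Subgroup.mem_center_iff.mp hz y).symm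
    have hfwd : ∀ w ∈ Z2, ∀ l ∈ C y, w * l * w⁻¹ ∈ C y := by
      intro w hw l hl
      have h1 : w * l * w⁻¹ = ⁅w, l⁆ * l := by rw [commutatorElement_def]; group
      rw [h1]
      refine Subgroup.mul_mem _ (hZC ?_) hl
      rw [← commutatorElement_inv]
      exact Subgroup.inv_mem _ (hfact w hw l)
    rw [hK, Subgroup.mem_centralizer_iff]
    intro w hw
    have hwN : w ∈ Subgroup.normalizer (C y : Set G) := by
      rw [Subgroup.mem_normalizer_iff]
      intro l
      constructor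
      · exact hfwd w hw l
      · intro hl
        have := hfwd w⁻¹ (Subgroup.inv_mem _ hw) _ hl
        have e : w⁻¹ * (w * l * w⁻¹) * w⁻¹⁻¹ = l := by group
        rw [e] at this
        exact this
    rw [hNeq, mem_C] at hwN
    exact hwN
  have hstep3 : ∀ y : G, y ∉ K → ∀ a b : G, ⁅a, b⁆ * y = y * ⁅a, b⁆ := by
    intro y hy a b
    have hyZ : y ∉ Subgroup.center G := fun hyz => hy (hZK hyz)
    exact mem_C.mp (commutator_mem_of_normal_coatom (hnorm y hy) (h y hyZ) a b)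
  intro a b
  rw [Subgroup.mem_center_iff]
  intro y
  by_cases hy : y ∈ K
  · have hyy₀ : y * y₀ ∉ K := by
      intro hmem
      apply hy₀
      have := K.mul_mem (K.inv_mem hy) hmem
      rwa [inv_mul_cancel_left] at this
    have h1 := hstep3 _ hyy₀ a b
    have h2 := hstep3 _ hy₀ a b
    have h3 : ⁅a, b⁆ * y₀⁻¹ = y₀⁻¹ * ⁅a, b⁆ := by
      calc ⁅a, b⁆ * y₀⁻¹ = y₀⁻¹ * (y₀ * ⁅a, b⁆) * y₀⁻¹ := by group
        _ = y₀⁻¹ * (⁅a, b⁆ * y₀) * y₀⁻¹ := by rw [h2]
        _ = y₀⁻¹ * ⁅a, b⁆ := by group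
    calc y * ⁅a, b⁆ = (y * y₀) * (y₀⁻¹ * ⁅a, b⁆) := by group
      _ = (y * y₀) * (⁅a, b⁆ * y₀⁻¹) := by rw [h3]
      _ = ((y * y₀) * ⁅a, b⁆) * y₀⁻¹ := by group
      _ = (⁅a, b⁆ * (y * y₀)) * y₀⁻¹ := by rw [h1]
      _ = ⁅a, b⁆ * y := by group
  · exact (hstep3 y hy a b).symm

section ClassTwo

variable (hc2 : ∀ a b : G, ⁅a, b⁆ ∈ Subgroup.center G)
include hc2

theorem comm_mul_left (a b x : G) : ⁅a * b, x⁆ = ⁅a, x⁆ * ⁅b, x⁆ := by
  have h1 : ⁅a * b, x⁆ = a * ⁅b, x⁆ * a⁻¹ * ⁅a, x⁆ := by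
    simp only [commutatorElement_def]; group
  have h2 : a * ⁅b, x⁆ = ⁅b, x⁆ * a := Subgroup.mem_center_iff.mp (hc2 b x) a
  have h3 : ⁅b, x⁆ * ⁅a, x⁆ = ⁅a, x⁆ * ⁅b, x⁆ :=
    (Subgroup.mem_center_iff.mp (hc2 a x) ⁅b, x⁆)
  rw [h1, h2, mul_assoc ⁅b, x⁆, mul_inv_cancel, mul_one, h3]

theorem comm_pow_left (g x : G) (n : ℕ) : ⁅g ^ n, x⁆ = ⁅g, x⁆ ^ n := by
  induction n with
  | zero => rw [pow_zero, pow_zero, commutatorElement_one_left]
  | succ n ih => rw [pow_succ, comm_mul_left hc2, ih, pow_succ]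

theorem comm_pow_right (g x : G) (n : ℕ) : ⁅g, x ^ n⁆ = ⁅g, x⁆ ^ n := by
  calc ⁅g, x ^ n⁆ = ⁅x ^ n, g⁆⁻¹ := (commutatorElement_inv _ _).symm
    _ = (⁅x, g⁆ ^ n)⁻¹ := by rw [comm_pow_left hc2]
    _ = (⁅x, g⁆⁻¹) ^ n := (inv_pow _ _).symm
    _ = ⁅g, x⁆ ^ n := by rw [commutatorElement_inv]

/-- In class two with maximal centralizers, a prime power of each noncentral element is central. -/
theorem exists_prime_pow_mem_center [Finite G]
    (h : ∀ g : G, g ∉ Subgroup.center G → IsCoatom (C g)) {x : G}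
    (hx : x ∉ Subgroup.center G) : ∃ p : ℕ, p.Prime ∧ x ^ p ∈ Subgroup.center G := by
  have hM := h x hx
  obtain ⟨g₀, hg₀⟩ : ∃ g₀ : G, g₀ ∉ C x := by
    by_contra hcon
    push Not at hcon
    exact hM.1 (eq_top_iff.mpr fun g _ => hcon g)
  obtain ⟨z₀, hz₀⟩ : ∃ z₀, z₀ = ⁅g₀, x⁆ := ⟨_, rfl⟩
  have hz₀1 : z₀ ≠ 1 := by
    intro h0
    apply hg₀
    rw [mem_C, ← commutatorElement_eq_one_iff_mul_comm, ← hz₀, h0]
  have ho1 : orderOf z₀ ≠ 1 := by rwa [Ne, orderOf_eq_one_iff]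
  have ho0 : orderOf z₀ ≠ 0 := (orderOf_pos z₀).ne'
  obtain ⟨p, hp⟩ : ∃ p, p = (orderOf z₀).minFac := ⟨_, rfl⟩
  have hpp : p.Prime := by rw [hp]; exact Nat.minFac_prime ho1
  have hpd : p ∣ orderOf z₀ := by rw [hp]; exact Nat.minFac_dvd _
  obtain ⟨T, hmemT⟩ : ∃ T : Subgroup G, ∀ g : G, g ∈ T ↔ ⁅g, x⁆ ^ p = 1 := by
    refine ⟨{ carrier := {g | ⁅g, x⁆ ^ p = 1}
              mul_mem' := ?_
              one_mem' := ?_
              inv_mem' := ?_ }, fun g => Iff.rfl⟩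
    · intro a b ha hb
      have ha' : ⁅a, x⁆ ^ p = 1 := ha
      have hb' : ⁅b, x⁆ ^ p = 1 := hb
      show ⁅a * b, x⁆ ^ p = 1
      have hcm : Commute ⁅a, x⁆ ⁅b, x⁆ := Subgroup.mem_center_iff.mp (hc2 b x) ⁅a, x⁆
      rw [comm_mul_left hc2, hcm.mul_pow, ha', hb', one_mul]
    · show ⁅(1 : G), x⁆ ^ p = 1
      rw [commutatorElement_one_left, one_pow]
    · intro a ha
      have ha' : ⁅a, x⁆ ^ p = 1 := ha
      show ⁅a⁻¹, x⁆ ^ p = 1
      have h1 : ⁅a⁻¹, x⁆ * ⁅a, x⁆ = 1 := by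
        rw [← comm_mul_left hc2, inv_mul_cancel, commutatorElement_one_left]
      have h2 : ⁅a⁻¹, x⁆ = ⁅a, x⁆⁻¹ := eq_inv_of_mul_eq_one_left h1
      rw [h2, inv_pow, ha', inv_one]
  have hMT : C x ≤ T := by
    intro g hg
    rw [hmemT, commutatorElement_eq_one_iff_mul_comm.mpr (mem_C.mp hg), one_pow]
  obtain ⟨g₁, hg₁⟩ : ∃ g₁, g₁ = g₀ ^ (orderOf z₀ / p) := ⟨_, rfl⟩
  have hφg₁ : ⁅g₁, x⁆ = z₀ ^ (orderOf z₀ / p) := by rw [hg₁, comm_pow_left hc2, hz₀]
  have hg₁T : g₁ ∈ T := by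
    rw [hmemT, hφg₁, ← pow_mul, Nat.div_mul_cancel hpd, pow_orderOf_eq_one]
  have hg₁M : g₁ ∉ C x := by
    intro hmem
    have h1 : ⁅g₁, x⁆ = 1 := commutatorElement_eq_one_iff_mul_comm.mpr (mem_C.mp hmem)
    rw [hφg₁] at h1
    have h2 := orderOf_pow_orderOf_div ho0 hpd
    rw [h1, orderOf_one] at h2
    exact hpp.one_lt.ne h2
  have hTtop : T = ⊤ := by
    rcases hM.le_iff.mp hMT with h1 | h1
    · exact h1
    · exact absurd (h1 ▸ hg₁T) hg₁M
  refine ⟨p, hpp, ?_⟩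
  rw [Subgroup.mem_center_iff]
  intro g
  have hg : g ∈ T := hTtop ▸ Subgroup.mem_top g
  rw [hmemT, ← comm_pow_right hc2] at hg
  exact commutatorElement_eq_one_iff_mul_comm.mp hg

/-- In class two with maximal centralizers, `G / Z(G)` is elementary abelian. -/
theorem elementary_abelian_quotient [Finite G]
    (h : ∀ g : G, g ∉ Subgroup.center G → IsCoatom (C g)) {x₀ : G}
    (hx₀ : x₀ ∉ Subgroup.center G) :
    (∀ a b : G ⧸ Subgroup.center G, a * b = b * a) ∧
      ∃ p : ℕ, p.Prime ∧ ∀ q : G ⧸ Subgroup.center G, q ^ p = 1 := by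
  have hcomm : ∀ a b : G ⧸ Subgroup.center G, a * b = b * a := by
    intro a b
    obtain ⟨a, rfl⟩ := QuotientGroup.mk'_surjective (Subgroup.center G) a
    obtain ⟨b, rfl⟩ := QuotientGroup.mk'_surjective (Subgroup.center G) b
    rw [← map_mul, ← map_mul, QuotientGroup.mk'_apply, QuotientGroup.mk'_apply, QuotientGroup.eq]
    have : (a * b)⁻¹ * (b * a) = ⁅b⁻¹, a⁻¹⁆ := by rw [commutatorElement_def]; group
    rw [this]; exact hc2 _ _
  refine ⟨hcomm, ?_⟩
  have hprime : ∀ q : G ⧸ Subgroup.center G, q ≠ 1 → (orderOf q).Prime := by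
    intro q hq
    obtain ⟨x, rfl⟩ := QuotientGroup.mk'_surjective (Subgroup.center G) q
    have hx : x ∉ Subgroup.center G := by
      intro hx
      apply hq
      rw [QuotientGroup.mk'_apply, QuotientGroup.eq_one_iff]; exact hx
    obtain ⟨p, hp, hxp⟩ := exists_prime_pow_mem_center hc2 h hx
    have h1 : (QuotientGroup.mk' (Subgroup.center G) x) ^ p = 1 := by
      rw [← map_pow, QuotientGroup.mk'_apply, QuotientGroup.eq_one_iff]; exact hxp
    have h2 := orderOf_dvd_of_pow_eq_one h1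
    have h3 : orderOf (QuotientGroup.mk' (Subgroup.center G) x) ≠ 1 := by
      rwa [Ne, orderOf_eq_one_iff]
    rw [((Nat.dvd_prime hp).mp h2).resolve_left h3]
    exact hp
  have hq₀ : (QuotientGroup.mk' (Subgroup.center G) x₀) ≠ 1 := by
    intro h0
    apply hx₀
    rw [QuotientGroup.mk'_apply, QuotientGroup.eq_one_iff] at h0
    exact h0
  obtain ⟨q₀, hq₀def⟩ : ∃ q₀, q₀ = QuotientGroup.mk' (Subgroup.center G) x₀ := ⟨_, rfl⟩
  rw [← hq₀def] at hq₀
  refine ⟨orderOf q₀, hprime q₀ hq₀, ?_⟩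
  intro q
  by_cases hq1 : q = 1
  · rw [hq1, one_pow]
  have hr := hprime q hq1
  have hp := hprime q₀ hq₀
  by_cases hpr : orderOf q = orderOf q₀
  · rw [← hpr]; exact pow_orderOf_eq_one q
  · exfalso
    have hcop : Nat.Coprime (orderOf q₀) (orderOf q) :=
      (Nat.coprime_primes hp hr).mpr (Ne.symm hpr)
    have hcm : Commute q₀ q := hcomm q₀ q
    have hord := hcm.orderOf_mul_eq_mul_orderOf_of_coprime hcop
    have hne : q₀ * q ≠ 1 := by
      intro h0
      rw [h0, orderOf_one] at hord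
      have := hp.two_le
      have := hr.two_le
      nlinarith
    have := hprime _ hne
    rw [hord] at this
    exact Nat.not_prime_mul hp.one_lt.ne' hr.one_lt.ne' this

end ClassTwo

end Cfsg.Agent.Lib.Helper71.MaxCent
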