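import Cfsg.Agent.Lib.Helper71.MaxCent

/-!
# The counting contradiction: not every nonidentity element can have a nonabelian maximal
centralizer.
-/

set_option autoImplicit false

namespace Cfsg.Agent.Lib.Helper71.MaxCent

open scoped Pointwise

variable {G : Type*} [Group G]

theorem sum_inv_sq_le (N : ℕ) (hN : 2 ≤ N) :
    ∑ m ∈ Finset.Ico 3 (N + 1), (1 : ℚ) / (m : ℚ) ^ 2 ≤ 1 / 2 - 1 / N := by
  induction N, hN using Nat.le_induction with
  | base => norm_num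
  | succ n hn ih =>
    rw [Finset.sum_Ico_succ_top (by omega)]
    have hn' : (2 : ℚ) ≤ n := by exact_mod_cast hn
    have hstep : (1 : ℚ) / ((n : ℚ) + 1) ^ 2 ≤ 1 / n - 1 / ((n : ℚ) + 1) := by
      rw [div_sub_div _ _ (by positivity) (by positivity),
        div_le_div_iff₀ (by positivity) (by positivity)]
      nlinarith
    push_cast at ih ⊢
    linarith

theorem arith_contra (g : ℕ) (hg : 2 ≤ g) (f : ℕ → ℕ)
    (h1 : ∀ r ∈ g.primeFactors, 3 ≤ r ∧ f r * r ^ 2 ≤ g)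
    (h2 : g - 1 ≤ ∑ r ∈ g.primeFactors, f r) : False := by
  have hsub : g.primeFactors ⊆ Finset.Ico 3 (g + 1) := by
    intro r hr
    rw [Finset.mem_Ico]
    exact ⟨(h1 r hr).1,
      Nat.lt_succ_of_le (Nat.le_of_dvd (by omega) (Nat.dvd_of_mem_primeFactors hr))⟩
  have hq : ((g : ℚ) - 1) ≤ ∑ r ∈ g.primeFactors, (f r : ℚ) := by
    have h3 : ((g - 1 : ℕ) : ℚ) ≤ ((∑ r ∈ g.primeFactors, f r : ℕ) : ℚ) := by exact_mod_cast h2
    rw [Nat.cast_sub (by omega), Nat.cast_sum] at h3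
    simpa using h3
  have hb : ∑ r ∈ g.primeFactors, (f r : ℚ) ≤
      ∑ r ∈ g.primeFactors, (g : ℚ) * (1 / (r : ℚ) ^ 2) := by
    apply Finset.sum_le_sum
    intro r hr
    have h := (h1 r hr).2
    have hr3 := (h1 r hr).1
    have hr0 : (0 : ℚ) < (r : ℚ) := by exact_mod_cast (by omega : 0 < r)
    have hrpos : (0 : ℚ) < (r : ℚ) ^ 2 := by positivity
    rw [mul_one_div, le_div_iff₀ hrpos]
    exact_mod_cast h
  have hc : ∑ r ∈ g.primeFactors, (g : ℚ) * (1 / (r : ℚ) ^ 2) ≤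
      (g : ℚ) * ∑ m ∈ Finset.Ico 3 (g + 1), (1 : ℚ) / (m : ℚ) ^ 2 := by
    rw [← Finset.mul_sum]
    apply mul_le_mul_of_nonneg_left _ (by positivity)
    apply Finset.sum_le_sum_of_subset_of_nonneg hsub
    intro m _ _
    positivity
  have hd := sum_inv_sq_le g hg
  have hg0 : (0 : ℚ) < (g : ℚ) := by exact_mod_cast (by omega : 0 < g)
  have he : (g : ℚ) * ∑ m ∈ Finset.Ico 3 (g + 1), (1 : ℚ) / (m : ℚ) ^ 2 ≤
      (g : ℚ) * (1 / 2 - 1 / g) := mul_le_mul_of_nonneg_left hd hg0.le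
  have hf : (g : ℚ) * (1 / 2 - 1 / g) = g / 2 - 1 := by
    field_simp
  have : (g : ℚ) - 1 ≤ g / 2 - 1 := by linarith
  linarith

/-- In a finite `p`-group, a proper inclusion of subgroups multiplies the order by at least `p`. -/
theorem card_mul_le_of_lt [Finite G] {p : ℕ} (hp : p.Prime) {H K : Subgroup G}
    (hK : ∃ n : ℕ, Nat.card K = p ^ n) (hlt : H < K) : Nat.card H * p ≤ Nat.card K := by
  obtain ⟨n, hn⟩ := hK
  obtain ⟨k, hk⟩ := Subgroup.card_dvd_of_le hlt.le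
  have hkd : k ∣ p ^ n := by rw [← hn, hk]; exact dvd_mul_left _ _
  obtain ⟨j, -, hj⟩ := (Nat.dvd_prime_pow hp).mp hkd
  have hj0 : j ≠ 0 := by
    intro h0
    rw [h0, pow_zero] at hj
    rw [hj, mul_one] at hk
    exact hlt.ne (Subgroup.eq_of_le_of_card_ge hlt.le hk.le)
  have hpk : p ≤ k := by
    rw [hj]
    calc p = p ^ 1 := (pow_one p).symm
      _ ≤ p ^ j := Nat.pow_le_pow_right hp.pos (Nat.pos_of_ne_zero hj0)
  rw [hk]
  exact Nat.mul_le_mul_left _ hpk

/-- Exponent 2 forces commutativity. -/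
theorem comm_of_sq_eq_one {a b : G} (ha : a ^ 2 = 1) (hb : b ^ 2 = 1) (hab : (a * b) ^ 2 = 1) :
    a * b = b * a := by
  have ha' : a⁻¹ = a := inv_eq_of_mul_eq_one_left (by rw [← sq]; exact ha)
  have hb' : b⁻¹ = b := inv_eq_of_mul_eq_one_left (by rw [← sq]; exact hb)
  have h : (a * b)⁻¹ = a * b := inv_eq_of_mul_eq_one_left (by rw [← sq]; exact hab)
  rw [mul_inv_rev, ha', hb'] at h
  exact h.symm

/-- A nonabelian maximal centralizer does not have exponent `2`. -/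
theorem exponent_ne_two {x : G} (hna : ¬ C x ≤ Zc x) (hexp : ∀ m ∈ C x, m ^ 2 = 1) : False := by
  apply hna
  intro a ha
  rw [mem_Zc]
  refine ⟨mem_C.mp ha, fun m hm => ?_⟩
  have hmM : m ∈ C x := mem_C.mpr hm
  exact comm_of_sq_eq_one (hexp m hmM) (hexp a ha) (hexp _ (Subgroup.mul_mem _ hmM ha))

/-- The centre of a nonabelian `C x` of exponent `r` has index at least `r ^ 2`. -/
theorem card_Zc_mul_sq_le [Finite G] {x : G} (hna : ¬ C x ≤ Zc x) {r : ℕ} (hr : r.Prime)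
    (hexp : ∀ m ∈ C x, m ^ r = 1) : Nat.card (Zc x) * r ^ 2 ≤ Nat.card (C x) := by
  have : Fact r.Prime := ⟨hr⟩
  obtain ⟨y, hyM, hyA⟩ := SetLike.not_le_iff_exists.mp hna
  have hS : IsPGroup r (C x) := fun m => ⟨1, by
    rw [pow_one]; exact Subtype.ext (by simpa using hexp m.1 m.2)⟩
  have hScard : ∃ n : ℕ, Nat.card (C x) = r ^ n := IsPGroup.iff_card.mp hS
  obtain ⟨Y, hY⟩ : ∃ Y : Subgroup G, Y = C x ⊓ C y := ⟨_, rfl⟩
  have hYS : Y ≤ C x := by rw [hY]; exact inf_le_left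
  have hYcard : ∃ n : ℕ, Nat.card Y = r ^ n := IsPGroup.iff_card.mp (hS.to_le hYS)
  have hZY : Zc x < Y := by
    refine lt_of_le_of_ne ?_ ?_
    · intro z hz
      rw [hY]
      refine Subgroup.mem_inf.mpr ⟨Zc_le_C_self x hz, ?_⟩
      rw [mem_C]
      exact ((mem_Zc.mp hz).2 y (mem_C.mp hyM)).symm
    · intro h
      apply hyA
      rw [h, hY]
      exact Subgroup.mem_inf.mpr ⟨hyM, self_mem_C y⟩
  have hYlt : Y < C x := by
    refine lt_of_le_of_ne hYS ?_
    intro h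
    apply hyA
    rw [mem_Zc]
    refine ⟨mem_C.mp hyM, fun m hm => ?_⟩
    have hmY : m ∈ Y := by rw [h]; exact mem_C.mpr hm
    rw [hY] at hmY
    exact mem_C.mp (Subgroup.mem_inf.mp hmY).2
  have h1 := card_mul_le_of_lt hr hYcard hZY
  have h2 := card_mul_le_of_lt hr hScard hYlt
  calc Nat.card (Zc x) * r ^ 2 = Nat.card (Zc x) * r * r := by ring
    _ ≤ Nat.card Y * r := Nat.mul_le_mul_right _ h1
    _ ≤ Nat.card (C x) := h2

/-- The Sylow subgroup given by a nonabelian maximal centralizer. -/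
noncomputable def sylowC [Finite G] (H1 : ∀ g : G, g ≠ 1 → IsCoatom (C g)) {x : G} (hx : x ≠ 1)
    {p : ℕ} [Fact p.Prime] (hexp : ∀ m ∈ C x, m ^ p = 1) : Sylow p G :=
  { toSubgroup := C x
    isPGroup' := fun m => ⟨1, by
      rw [pow_one]; exact Subtype.ext (by simpa using hexp m.1 m.2)⟩
    is_maximal' := by
      intro Q hQ hle
      rcases (H1 x hx).le_iff.mp hle with h | h
      · exfalso
        have hG : IsPGroup p G := by
          rw [h] at hQ
          exact hQ.of_equiv Subgroup.topEquiv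
        haveI : Nontrivial G := ⟨⟨x, 1, hx⟩⟩
        haveI := hG.center_nontrivial
        obtain ⟨z, hz1⟩ := exists_ne (1 : Subgroup.center G)
        have hz1' : (z : G) ≠ 1 := fun h0 => hz1 (Subtype.ext h0)
        exact not_mem_center H1 hz1' z.2
      · exact h }

theorem coe_sylowC [Finite G] (H1 : ∀ g : G, g ≠ 1 → IsCoatom (C g)) {x : G} (hx : x ≠ 1)
    {p : ℕ} [Fact p.Prime] (hexp : ∀ m ∈ C x, m ^ p = 1) :
    ((sylowC H1 hx hexp : Sylow p G) : Subgroup G) = C x := rfl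

/-- The elements of prime order `r` number at most `|G| / r ^ 2`. -/
theorem ncard_Er_bound [Finite G] (H1 : ∀ g : G, g ≠ 1 → IsCoatom (C g))
    (hall : ∀ h : G, h ≠ 1 → ¬ C h ≤ Zc h) (r : ℕ) (hr : r.Prime) :
    Set.ncard {h : G | h ≠ 1 ∧ h ^ r = 1} * r ^ 2 ≤ Nat.card G := by
  haveI : Fact r.Prime := ⟨hr⟩
  by_cases hne : ∃ h₀ : G, h₀ ≠ 1 ∧ h₀ ^ r = 1
  swap
  · have : {h : G | h ≠ 1 ∧ h ^ r = 1} = ∅ := by
      ext h
      simp only [Set.mem_ofPred_eq, Set.mem_empty_iff_false, iff_false]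
      exact fun hh => hne ⟨h, hh⟩
    rw [this, Set.ncard_empty, zero_mul]; exact Nat.zero_le _
  obtain ⟨h₀, h₀1, h₀r⟩ := hne
  have hexp₀ := exponent_eq H1 h₀1 (hall h₀ h₀1) hr h₀r
  obtain ⟨f, hf⟩ : ∃ f : (G ⧸ C h₀) × Zc h₀ → G,
      f = fun qz => qz.1.out * (qz.2 : G) * (qz.1.out)⁻¹ := ⟨_, rfl⟩
  have hsub : {h : G | h ≠ 1 ∧ h ^ r = 1} ⊆ Set.range f := by
    rintro h ⟨hh1, hhr⟩
    have hexp := exponent_eq H1 hh1 (hall h hh1) hr hhr
    obtain ⟨g, hg⟩ := MulAction.exists_smul_eq G (sylowC H1 h₀1 hexp₀) (sylowC H1 hh1 hexp)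
    have hmem : ∀ m : G, m ∈ C h ↔ g⁻¹ * m * g ∈ C h₀ := by
      intro m
      rw [← coe_sylowC H1 hh1 hexp, ← hg, Sylow.coe_subgroup_smul,
        Cfsg.Agent.Lib.Helper35.mem_conj_smul, coe_sylowC]
    obtain ⟨z, hz⟩ : ∃ z, z = g⁻¹ * h * g := ⟨_, rfl⟩
    have hzZ : z ∈ Zc h₀ := by
      rw [mem_Zc]
      have h1 : z ∈ C h₀ := by rw [hz]; exact (hmem h).mp (self_mem_C h)
      refine ⟨mem_C.mp h1, fun m₀ hm₀ => ?_⟩
      have h2 : g * m₀ * g⁻¹ ∈ C h := by
        rw [hmem]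
        have : g⁻¹ * (g * m₀ * g⁻¹) * g = m₀ := by group
        rw [this]; exact mem_C.mpr hm₀
      rw [mem_C] at h2
      rw [hz]
      calc m₀ * (g⁻¹ * h * g) = g⁻¹ * ((g * m₀ * g⁻¹) * h) * g := by group
        _ = g⁻¹ * (h * (g * m₀ * g⁻¹)) * g := by rw [h2]
        _ = g⁻¹ * h * g * m₀ := by group
    obtain ⟨s, hs⟩ := QuotientGroup.mk_out_eq_mul (C h₀) g
    refine ⟨((g : G ⧸ C h₀), ⟨z, hzZ⟩), ?_⟩
    rw [hf]
    show (QuotientGroup.mk g : G ⧸ C h₀).out * z * ((QuotientGroup.mk g : G ⧸ C h₀).out)⁻¹ = h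
    rw [hs]
    have hsz : (s : G) * z = z * s := (mem_Zc.mp hzZ).2 s (mem_C.mp s.2)
    calc g * ↑s * z * (g * ↑s)⁻¹ = g * (↑s * z) * (↑s : G)⁻¹ * g⁻¹ := by group
      _ = g * (z * ↑s) * (↑s : G)⁻¹ * g⁻¹ := by rw [hsz]
      _ = g * z * g⁻¹ := by group
      _ = h := by rw [hz]; group
  have h1 : Set.ncard {h : G | h ≠ 1 ∧ h ^ r = 1} ≤ Nat.card (G ⧸ C h₀) * Nat.card (Zc h₀) := by
    calc Set.ncard {h : G | h ≠ 1 ∧ h ^ r = 1} ≤ (Set.range f).ncard :=
          Set.ncard_le_ncard hsub (Set.toFinite _)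
      _ = (f '' Set.univ).ncard := by rw [Set.image_univ]
      _ ≤ (Set.univ : Set ((G ⧸ C h₀) × Zc h₀)).ncard := Set.ncard_image_le (Set.toFinite _)
      _ = Nat.card (G ⧸ C h₀) * Nat.card (Zc h₀) := by rw [Set.ncard_univ, Nat.card_prod]
  have h2 := card_Zc_mul_sq_le (hall h₀ h₀1) hr hexp₀
  calc Set.ncard {h : G | h ≠ 1 ∧ h ^ r = 1} * r ^ 2
      ≤ (Nat.card (G ⧸ C h₀) * Nat.card (Zc h₀)) * r ^ 2 := Nat.mul_le_mul_right _ h1
    _ = (C h₀).index * (Nat.card (Zc h₀) * r ^ 2) := by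
        rw [← Subgroup.index_eq_card, mul_assoc]
    _ ≤ (C h₀).index * Nat.card (C h₀) := Nat.mul_le_mul_left _ h2
    _ = Nat.card G := Subgroup.index_mul_card _

/-- Not every nonidentity element can have a nonabelian maximal centralizer. -/
theorem count_contra [Finite G] (H1 : ∀ g : G, g ≠ 1 → IsCoatom (C g)) {x : G} (hx : x ≠ 1)
    (hall : ∀ h : G, h ≠ 1 → ¬ C h ≤ Zc h) : False := by
  classical
  haveI : Fintype G := Fintype.ofFinite G
  have hg2 : 2 ≤ Nat.card G := by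
    haveI : Nontrivial G := ⟨⟨x, 1, hx⟩⟩
    exact Finite.one_lt_card
  refine arith_contra (Nat.card G) hg2 (fun r => Set.ncard {h : G | h ≠ 1 ∧ h ^ r = 1}) ?_ ?_
  · intro r hr
    have hrp := Nat.prime_of_mem_primeFactors hr
    refine ⟨?_, ncard_Er_bound H1 hall r hrp⟩
    haveI : Fact r.Prime := ⟨hrp⟩
    obtain ⟨h, hh⟩ := exists_prime_orderOf_dvd_card' r (Nat.dvd_of_mem_primeFactors hr)
    have hh1 : h ≠ 1 := by
      intro h0
      rw [h0, orderOf_one] at hh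
      exact hrp.one_lt.ne hh
    have hhr : h ^ r = 1 := by rw [← hh]; exact pow_orderOf_eq_one h
    have hexp := exponent_eq H1 hh1 (hall h hh1) hrp hhr
    have h2 : r ≠ 2 := by
      intro h2
      rw [h2] at hexp
      exact exponent_ne_two (hall h hh1) hexp
    have := hrp.two_le
    omega
  · have hcard : Nat.card G - 1 = (Finset.univ.erase (1 : G)).card := by
      rw [Finset.card_erase_of_mem (Finset.mem_univ _), Finset.card_univ,
        Nat.card_eq_fintype_card]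
    have hsub : Finset.univ.erase (1 : G) ⊆ (Nat.card G).primeFactors.biUnion
        (fun r => Finset.univ.filter (fun h : G => h ≠ 1 ∧ h ^ r = 1)) := by
      intro h hh
      have hh1 : h ≠ 1 := Finset.ne_of_mem_erase hh
      obtain ⟨q, hq, hexpq⟩ := exists_prime_exponent H1 hh1 (hall h hh1)
      have hhq : h ^ q = 1 := hexpq h (self_mem_C h)
      have hoq : orderOf h = q :=
        ((Nat.dvd_prime hq).mp (orderOf_dvd_of_pow_eq_one hhq)).resolve_left
          (by rw [orderOf_eq_one_iff]; exact hh1)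
      rw [Finset.mem_biUnion]
      refine ⟨q, ?_, ?_⟩
      · rw [Nat.mem_primeFactors]
        exact ⟨hq, hoq ▸ orderOf_dvd_natCard h, Nat.card_pos.ne'⟩
      · rw [Finset.mem_filter]; exact ⟨Finset.mem_univ _, hh1, hhq⟩
    rw [hcard]
    calc (Finset.univ.erase (1 : G)).card
        ≤ ((Nat.card G).primeFactors.biUnion
          (fun r => Finset.univ.filter (fun h : G => h ≠ 1 ∧ h ^ r = 1))).card :=
          Finset.card_le_card hsub
      _ ≤ ∑ r ∈ (Nat.card G).primeFactors,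
          (Finset.univ.filter (fun h : G => h ≠ 1 ∧ h ^ r = 1)).card := Finset.card_biUnion_le
      _ = ∑ r ∈ (Nat.card G).primeFactors, Set.ncard {h : G | h ≠ 1 ∧ h ^ r = 1} := by
        apply Finset.sum_congr rfl
        intro r _
        rw [← Set.ncard_coe_finset]
        congr 1
        ext h
        simp

/-- Main theorem for trivial centre: if every nonidentity element has a maximal centralizer,
the group is solvable. -/
theorem solvable_of_forall_isCoatom [Finite G] (H1 : ∀ g : G, g ≠ 1 → IsCoatom (C g)) :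
    Group.IsSolvable G := by
  by_cases hb : ∃ x : G, x ≠ 1 ∧ C x ≤ Zc x ∧ ¬ (C x).Normal
  · obtain ⟨x, hx, hab, hnn⟩ := hb
    exact solvable_of_abelian_nonnormal H1 hx hab hnn
  by_cases hc : ∃ x : G, x ≠ 1 ∧ ¬ C x ≤ Zc x
  · exfalso
    obtain ⟨x, hx, hna⟩ := hc
    have hall : ∀ h : G, h ≠ 1 → ¬ C h ≤ Zc h := by
      intro h hh hab
      have hnorm : (C h).Normal := by
        by_contra hnn
        exact hb ⟨h, hh, hab, hnn⟩
      exact not_abelian_normal H1 hx hna hh hab hnorm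
    exact count_contra H1 hx hall
  · have hab : ∀ x : G, x ≠ 1 → C x ≤ Zc x := by
      intro x hx
      by_contra h
      exact hc ⟨x, hx, h⟩
    have hn : ∀ x : G, x ≠ 1 → (C x).Normal := by
      intro x hx
      by_contra h
      exact hb ⟨x, hx, hab x hx, h⟩
    exact Group.isSolvable_of_comm (comm_of_all_abelian_normal H1 hab hn)

end Cfsg.Agent.Lib.Helper71.MaxCent
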