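import Cfsg.Agent.Lib.Helper71.MaxCentCount

/-!
# Structure of groups with trivial centre in which every nonidentity element has a maximal
centralizer: a Frobenius group `p ^ a : q`.
-/

set_option autoImplicit false

namespace Cfsg.Agent.Lib.Helper71.MaxCent

open scoped Pointwise

variable {G : Type*} [Group G]

/-- The Frobenius structure given by an abelian non-normal centralizer. -/
theorem frob_struct [Finite G] (H1 : ∀ g : G, g ≠ 1 → IsCoatom (C g)) {x : G}
    (hx : x ≠ 1) (hab : C x ≤ Zc x) (hnn : ¬ (C x).Normal) :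
    ∃ N : Subgroup G, N.Normal ∧ N.IsComplement' (C x) ∧ N ≠ ⊤ ∧
      (∀ a ∈ N, a ≠ 1 → C a = N) := by
  have hCy : ∀ y ∈ C x, y ≠ 1 → C y = C x := fun y hy hy1 =>
    C_eq_of_mem_Zc H1 hx (hab hy) hy1
  have hN : ∀ g : G, (∀ m : G, m ∈ C x ↔ g * m * g⁻¹ ∈ C x) → g ∈ C x := by
    intro g hg
    have hle : C x ≤ Subgroup.normalizer (C x : Set G) := Subgroup.le_normalizer
    rcases (H1 x hx).le_iff.mp hle with h1 | h1
    · exact absurd (Subgroup.normalizer_eq_top_iff.mp h1) hnn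
    · rw [← h1, Subgroup.mem_normalizer_iff]; exact hg
  have hF : Cfsg.IsFrobeniusComplement (C x) := by
    refine ⟨?_, (H1 x hx).1, ?_⟩
    · intro h0
      have hmem : x ∈ C x := self_mem_C x
      rw [h0, Subgroup.mem_bot] at hmem
      exact hx hmem
    · intro g hg
      rw [eq_bot_iff]
      intro y hy
      rw [Subgroup.mem_bot]
      by_contra hy1
      obtain ⟨hyM, hyg⟩ := Subgroup.mem_inf.mp hy
      rw [Cfsg.Agent.Lib.Helper35.mem_conj_smul] at hyg
      apply hg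
      apply hN
      intro m
      have hy'1 : g⁻¹ * y * g ≠ 1 := by
        intro h; apply hy1
        have : y = g * (g⁻¹ * y * g) * g⁻¹ := by group
        rw [this, h]; group
      have e1 := hCy _ hyg hy'1
      have e2 := hCy y hyM hy1
      constructor
      · intro hm
        rw [← e2, mem_C]
        rw [← e1, mem_C] at hm
        calc g * m * g⁻¹ * y = g * (m * (g⁻¹ * y * g)) * g⁻¹ := by group
          _ = g * ((g⁻¹ * y * g) * m) * g⁻¹ := by rw [hm]
          _ = y * (g * m * g⁻¹) := by group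
      · intro hm
        rw [← e1, mem_C]
        rw [← e2, mem_C] at hm
        calc m * (g⁻¹ * y * g) = g⁻¹ * ((g * m * g⁻¹) * y) * g := by group
          _ = g⁻¹ * (y * (g * m * g⁻¹)) * g := by rw [hm]
          _ = (g⁻¹ * y * g) * m := by group
  obtain ⟨N, hNset, hNn, hcompl⟩ := Cfsg.Agent.S0035.result (C x) hF
  have hmemN : ∀ k : G, k ∈ N ↔ (k = 1 ∨ ∀ g : G, k ∉ MulAut.conj g • C x) := by
    intro k; rw [← SetLike.mem_coe, hNset]; rfl
  have hNtop : N ≠ ⊤ := by
    intro h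
    have hx' : x ∈ N := h ▸ Subgroup.mem_top x
    rcases (hmemN x).mp hx' with h1 | h1
    · exact hx h1
    · apply h1 1
      rw [Cfsg.Agent.Lib.Helper35.mem_conj_smul]
      simpa using self_mem_C x
  refine ⟨N, hNn, hcompl, hNtop, ?_⟩
  intro a ha ha1
  have hle : C a ≤ N := by
    intro c hc
    rw [mem_C] at hc
    rw [hmemN]
    by_contra hcon
    push Not at hcon
    obtain ⟨hc1, g, hcg⟩ := hcon
    have hag := Cfsg.Agent.Lib.Helper35.mem_conj_of_commute hF hc1 hcg hc.symm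
    rcases (hmemN a).mp ha with h1 | h1
    · exact ha1 h1
    · exact h1 g hag
  exact (((H1 a ha1).le_iff_eq hNtop).mp hle).symm

/-- The structure theorem in the Frobenius case. -/
theorem struct_of_abelian_nonnormal [Finite G] (H1 : ∀ g : G, g ≠ 1 → IsCoatom (C g)) {x : G}
    (hx : x ≠ 1) (hab : C x ≤ Zc x) (hnn : ¬ (C x).Normal) :
    ∃ p q a : ℕ, p.Prime ∧ q.Prime ∧ p ≠ q ∧ Nat.card G = p ^ a * q ∧
      (∀ P : Subgroup G, Nat.card P = p ^ a → P.Normal) ∧
      (∀ H : Subgroup G, H ≠ ⊤ → ∀ a ∈ H, ∀ b ∈ H, a * b = b * a) := by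
  obtain ⟨N, hNn, hcompl, hNtop, hCN⟩ := frob_struct H1 hx hab hnn
  have hNM : N ⊓ C x = ⊥ := disjoint_iff.mp hcompl.disjoint
  have hsup : N ⊔ C x = ⊤ := hcompl.sup_eq_top
  have hNbot : N ≠ ⊥ := by
    intro h0
    rw [h0, bot_sup_eq] at hsup
    exact (H1 x hx).1 hsup
  have hNab : ∀ a ∈ N, ∀ b ∈ N, a * b = b * a := by
    intro a ha b hb
    by_cases ha1 : a = 1
    · rw [ha1, one_mul, mul_one]
    have hb' : b ∈ C a := by rw [hCN a ha ha1]; exact hb
    exact (mem_C.mp hb').symm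
  -- `N` is a coatom
  obtain ⟨a₀', ha₀'⟩ := (Subgroup.ne_bot_iff_exists_ne_one).mp hNbot
  have ha₀N : (a₀' : G) ∈ N := a₀'.2
  have ha₀1 : (a₀' : G) ≠ 1 := fun h => ha₀' (Subtype.ext h)
  have hNco : IsCoatom N := by rw [← hCN _ ha₀N ha₀1]; exact H1 _ ha₀1
  have hidx : N.index = Nat.card (C x) :=
    index_eq_card_of_compl (K := N) (H := C x) hNM (by rw [sup_comm]; exact hsup)
  have hcardmul : Nat.card N * Nat.card (C x) = Nat.card G := hcompl.card_mul_card
  -- the prime `p`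
  have hN1 : 1 < Nat.card N := (Subgroup.one_lt_card_iff_ne_bot N).mpr hNbot
  obtain ⟨p, hp⟩ : ∃ p, p = (Nat.card N).minFac := ⟨_, rfl⟩
  have hpp : p.Prime := by rw [hp]; exact Nat.minFac_prime hN1.ne'
  have hpd : p ∣ Nat.card N := by rw [hp]; exact Nat.minFac_dvd _
  haveI : Fact p.Prime := ⟨hpp⟩
  obtain ⟨n₀, hn₀⟩ := exists_prime_orderOf_dvd_card' p hpd
  obtain ⟨N₀, hN₀⟩ : ∃ N₀ : Subgroup G, ∀ n : G, n ∈ N₀ ↔ n ∈ N ∧ n ^ p = 1 := by
    refine ⟨{ carrier := {n | n ∈ N ∧ n ^ p = 1}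
              mul_mem' := ?_
              one_mem' := ⟨N.one_mem, one_pow _⟩
              inv_mem' := ?_ }, fun n => Iff.rfl⟩
    · rintro a b ⟨ha, hap⟩ ⟨hb, hbp⟩
      refine ⟨N.mul_mem ha hb, ?_⟩
      have hc : Commute a b := hNab a ha b hb
      rw [hc.mul_pow, hap, hbp, one_mul]
    · rintro a ⟨ha, hap⟩
      exact ⟨N.inv_mem ha, by rw [inv_pow, hap, inv_one]⟩
  have hN₀n : N₀.Normal := by
    refine ⟨fun n hn g => ?_⟩
    rw [hN₀] at hn ⊢
    exact ⟨hNn.conj_mem n hn.1 g, by rw [conj_pow, hn.2]; group⟩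
  have hN₀le : N₀ ≤ N := fun n hn => ((hN₀ n).mp hn).1
  have hN₀bot : N₀ ≠ ⊥ := by
    intro h0
    have hmem : (n₀ : G) ∈ N₀ := by
      rw [hN₀]
      refine ⟨n₀.2, ?_⟩
      have : n₀ ^ p = 1 := by rw [← hn₀]; exact pow_orderOf_eq_one n₀
      have h2 := congrArg (fun t : N => (t : G)) this
      simpa using h2
    rw [h0, Subgroup.mem_bot] at hmem
    have h1 : n₀ = 1 := Subtype.ext hmem
    rw [h1, orderOf_one] at hn₀
    exact hpp.one_lt.ne hn₀
  have hN₀M : N₀ ⊓ C x = ⊥ := by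
    rw [eq_bot_iff, ← hNM]; exact inf_le_inf_right _ hN₀le
  have hMN₀ : C x ⊔ N₀ = ⊤ := by
    rcases (H1 x hx).le_iff.mp (le_sup_left : C x ≤ C x ⊔ N₀) with h1 | h1
    · exact h1
    · exfalso
      have hle : N₀ ≤ C x := by rw [← h1]; exact le_sup_right
      apply hN₀bot
      rw [← hN₀M]; exact (inf_eq_left.mpr hle).symm
  have hidx0 : N₀.index = Nat.card (C x) :=
    index_eq_card_of_compl (K := N₀) (H := C x) hN₀M hMN₀
  have hN₀eq : N₀ = N := by
    apply Subgroup.eq_of_le_of_card_ge hN₀le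
    have h1 := Subgroup.index_mul_card N₀
    have h2 := Subgroup.index_mul_card N
    rw [hidx0] at h1
    rw [hidx] at h2
    have hpos : 0 < Nat.card (C x) := Nat.card_pos
    have : Nat.card (C x) * Nat.card N₀ = Nat.card (C x) * Nat.card N := by rw [h1, h2]
    exact (Nat.eq_of_mul_eq_mul_left hpos this).ge
  have hNexp : ∀ n ∈ N, n ^ p = 1 := by
    intro n hn
    rw [← hN₀eq] at hn
    exact ((hN₀ n).mp hn).2
  have hNp : IsPGroup p N := fun m => ⟨1, by
    rw [pow_one]; exact Subtype.ext (by simpa using hNexp m.1 m.2)⟩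
  obtain ⟨a, ha⟩ := IsPGroup.iff_card.mp hNp
  -- the prime `q`
  have hM1 : 1 < Nat.card (C x) := by
    rw [Subgroup.one_lt_card_iff_ne_bot]
    intro h0
    have hmem : x ∈ C x := self_mem_C x
    rw [h0, Subgroup.mem_bot] at hmem
    exact hx hmem
  obtain ⟨q, hq⟩ : ∃ q, q = (Nat.card (C x)).minFac := ⟨_, rfl⟩
  have hqp : q.Prime := by rw [hq]; exact Nat.minFac_prime hM1.ne'
  have hqd : q ∣ Nat.card (C x) := by rw [hq]; exact Nat.minFac_dvd _
  haveI : Fact q.Prime := ⟨hqp⟩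
  obtain ⟨m₀, hm₀⟩ := exists_prime_orderOf_dvd_card' q hqd
  have hm₀1 : (m₀ : G) ≠ 1 := by
    intro h0
    have h1 : m₀ = 1 := Subtype.ext h0
    rw [h1, orderOf_one] at hm₀
    exact hqp.one_lt.ne hm₀
  have hom₀ : orderOf (m₀ : G) = q := by rw [Subgroup.orderOf_coe]; exact hm₀
  have hTM : Subgroup.zpowers (m₀ : G) ≤ C x := by
    rw [Subgroup.zpowers_le]; exact m₀.2
  have hNT : N ⊓ Subgroup.zpowers (m₀ : G) = ⊥ := by
    rw [eq_bot_iff, ← hNM]; exact inf_le_inf_left _ hTM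
  have hTN : Subgroup.zpowers (m₀ : G) ⊔ N = ⊤ := by
    rcases hNco.le_iff.mp (le_sup_right : N ≤ Subgroup.zpowers (m₀ : G) ⊔ N) with h1 | h1
    · exact h1
    · exfalso
      have hle : Subgroup.zpowers (m₀ : G) ≤ N := by rw [← h1]; exact le_sup_left
      have h0 : Subgroup.zpowers (m₀ : G) = ⊥ := by
        rw [← hNT]; exact (inf_eq_right.mpr hle).symm
      rw [Subgroup.zpowers_eq_bot] at h0
      exact hm₀1 h0
  have hidxT : N.index = q := by
    rw [index_eq_card_of_compl (K := N) (H := Subgroup.zpowers (m₀ : G)) hNT hTN,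
      Nat.card_zpowers, hom₀]
  have hMq : Nat.card (C x) = q := by rw [← hidx, hidxT]
  have hcardG : Nat.card G = p ^ a * q := by rw [← hcardmul, ha, hMq]
  -- `p ≠ q`
  have hpq : p ≠ q := by
    intro h
    have hG : IsPGroup p G := IsPGroup.of_card (n := a + 1) (by rw [hcardG, ← h, pow_succ])
    haveI : Nontrivial G := ⟨⟨x, 1, hx⟩⟩
    haveI := hG.center_nontrivial
    obtain ⟨z, hz1⟩ := exists_ne (1 : Subgroup.center G)
    have hz1' : (z : G) ≠ 1 := fun h0 => hz1 (Subtype.ext h0)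
    exact not_mem_center H1 hz1' z.2
  -- elements outside `N`
  have hout : ∀ h : G, h ∉ N → Nat.card (C h) = q := by
    intro h hh
    have hh1 : h ≠ 1 := fun h0 => hh (h0 ▸ N.one_mem)
    have hinf : N ⊓ C h = ⊥ := by
      rw [eq_bot_iff]
      intro k hk
      rw [Subgroup.mem_bot]
      by_contra hk1
      obtain ⟨hkN, hkh⟩ := Subgroup.mem_inf.mp hk
      apply hh
      rw [← hCN k hkN hk1, mem_C]
      exact (mem_C.mp hkh).symm
    have hs : C h ⊔ N = ⊤ := by
      rcases (H1 h hh1).le_iff.mp (le_sup_left : C h ≤ C h ⊔ N) with h1 | h1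
      · exact h1
      · exfalso
        have hle : N ≤ C h := by rw [← h1]; exact le_sup_right
        apply hNbot
        rw [← hinf]; exact (inf_eq_left.mpr hle).symm
    rw [← index_eq_card_of_compl (K := N) (H := C h) hinf hs, hidxT]
  have hout2 : ∀ h : G, h ∉ N → orderOf h = q := by
    intro h hh
    have hh1 : h ≠ 1 := fun h0 => hh (h0 ▸ N.one_mem)
    have hd : orderOf h ∣ q := by
      rw [← hout h hh]; exact Subgroup.orderOf_dvd_natCard _ (self_mem_C h)
    exact ((Nat.dvd_prime hqp).mp hd).resolve_left (by rw [orderOf_eq_one_iff]; exact hh1)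
  refine ⟨p, q, a, hpp, hqp, hpq, hcardG, ?_, ?_⟩
  · intro P hP
    have hPN : P ≤ N := by
      intro y hy
      by_contra hyN
      have h1 := hout2 y hyN
      have h2 : orderOf y ∣ p ^ a := by
        rw [← hP]; exact Subgroup.orderOf_dvd_natCard _ hy
      rw [h1] at h2
      exact hpq ((Nat.prime_dvd_prime_iff_eq hqp hpp).mp (hqp.dvd_of_dvd_pow h2)).symm
    have : P = N := Subgroup.eq_of_le_of_card_ge hPN (by rw [hP, ha])
    rw [this]; exact hNn
  · intro H hH
    by_cases hHN : H ≤ N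
    · exact fun a ha b hb => hNab a (hHN ha) b (hHN hb)
    · obtain ⟨h, hhH, hhN⟩ := SetLike.not_le_iff_exists.mp hHN
      have hh1 : h ≠ 1 := fun h0 => hhN (h0 ▸ N.one_mem)
      have hzle : Subgroup.zpowers h ≤ C h := by
        rw [Subgroup.zpowers_le]; exact self_mem_C h
      have hzeq : Subgroup.zpowers h = C h :=
        Subgroup.eq_of_le_of_card_ge hzle (by rw [hout h hhN, Nat.card_zpowers, hout2 h hhN])
      have hle : C h ≤ H := by rw [← hzeq, Subgroup.zpowers_le]; exact hhH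
      have hHeq : H = C h := ((H1 h hh1).le_iff_eq hH).mp hle
      intro a ha b hb
      rw [hHeq, ← hzeq] at ha hb
      obtain ⟨i, rfl⟩ := Subgroup.mem_zpowers_iff.mp ha
      obtain ⟨j, rfl⟩ := Subgroup.mem_zpowers_iff.mp hb
      exact Commute.zpow_zpow_self h i j

/-- The structure theorem for trivial centre. -/
theorem struct_of_forall_isCoatom [Finite G] [Nontrivial G]
    (H1 : ∀ g : G, g ≠ 1 → IsCoatom (C g)) :
    ∃ p q a : ℕ, p.Prime ∧ q.Prime ∧ p ≠ q ∧ Nat.card G = p ^ a * q ∧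
      (∀ P : Subgroup G, Nat.card P = p ^ a → P.Normal) ∧
      (∀ H : Subgroup G, H ≠ ⊤ → ∀ a ∈ H, ∀ b ∈ H, a * b = b * a) := by
  by_cases hb : ∃ x : G, x ≠ 1 ∧ C x ≤ Zc x ∧ ¬ (C x).Normal
  · obtain ⟨x, hx, hab, hnn⟩ := hb
    exact struct_of_abelian_nonnormal H1 hx hab hnn
  exfalso
  by_cases hc : ∃ x : G, x ≠ 1 ∧ ¬ C x ≤ Zc x
  · obtain ⟨x, hx, hna⟩ := hc
    have hall : ∀ h : G, h ≠ 1 → ¬ C h ≤ Zc h := by
      intro h hh hab
      have hnorm : (C h).Normal := by
        by_contra hnn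
        exact hb ⟨h, hh, hab, hnn⟩
      exact not_abelian_normal H1 hx hna hh hab hnorm
    exact count_contra H1 hx hall
  · have hab : ∀ x : G, x ≠ 1 → C x ≤ Zc x := by
      intro x hx
      by_contra h
      exact hc ⟨x, hx, h⟩
    have hn : ∀ x : G, x ≠ 1 → (C x).Normal := by
      intro x hx
      by_contra h
      exact hb ⟨x, hx, hab x hx, h⟩
    obtain ⟨x, hx⟩ := exists_ne (1 : G)
    apply not_mem_center H1 hx
    rw [Subgroup.mem_center_iff]
    intro g
    exact comm_of_all_abelian_normal H1 hab hn g x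

end Cfsg.Agent.Lib.Helper71.MaxCent
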