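import Cfsg.Agent.Lib.Helper71.OddClassA

/-!
# Odd class sizes of 2-elements force abelian Sylow 2-subgroups (Camina–Herzog), elementary proof
-/

set_option linter.unusedSectionVars false

namespace Cfsg.Agent.Lib.Helper71.OddClass

open Subgroup

variable {G : Type*} [Group G]

theorem inv_eq_self_of_sq {a : G} (h : a * a = 1) : a⁻¹ = a := inv_eq_of_mul_eq_one_left h

theorem two_of_mem (P : Sylow 2 G) {x : G} (hx : x ∈ (P : Subgroup G)) :
    ∃ k : ℕ, orderOf x = 2 ^ k := by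
  obtain ⟨k, hk⟩ := IsPGroup.iff_orderOf.1 P.isPGroup' ⟨x, hx⟩
  exact ⟨k, by rw [← hk, Subgroup.orderOf_mk]⟩

/-- In a finite group, one-sided invariance under conjugation by `n` gives membership in the normalizer. -/
theorem mem_normalizer_of_conj_mem [Finite G] (W : Subgroup G) (n : G)
    (hn : ∀ w ∈ W, n * w * n⁻¹ ∈ W) : n ∈ normalizer (W : Set G) := by
  rw [mem_normalizer_iff]
  intro x
  refine ⟨hn x, fun hx => ?_⟩
  let f : W → W := fun w => ⟨n * w * n⁻¹, hn w w.2⟩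
  have hf : Function.Injective f := by
    intro a b hab
    have : n * (a : G) * n⁻¹ = n * (b : G) * n⁻¹ := congrArg Subtype.val hab
    exact Subtype.ext (mul_left_cancel (mul_right_cancel this))
  obtain ⟨w, hw⟩ := Finite.surjective_of_injective hf ⟨n * x * n⁻¹, hx⟩
  have h2 : n * (w : G) * n⁻¹ = n * x * n⁻¹ := congrArg Subtype.val hw
  have h3 : (w : G) = x := mul_left_cancel (mul_right_cancel h2)
  rw [← h3]; exact w.2

/-- Control of fusion by the normalizer of a weakly closed subgroup, for a target element in the centre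
of the Sylow subgroup. -/
theorem control [Finite G] (P : Sylow 2 G) (W : Subgroup G) (hWP : W ≤ (P : Subgroup G))
    (hwc : ∀ k : G, (∀ w ∈ W, k * w * k⁻¹ ∈ (P : Subgroup G)) → ∀ w ∈ W, k * w * k⁻¹ ∈ W)
    (u g : G) (hu : ∀ w ∈ W, w * u = u * w)
    (hu' : ∀ d ∈ (P : Subgroup G), d * (g * u * g⁻¹) = (g * u * g⁻¹) * d) :
    ∃ n : G, n ∈ normalizer (W : Set G) ∧ n * u * n⁻¹ = g * u * g⁻¹ := by
  have : Fact (Nat.Prime 2) := ⟨Nat.prime_two⟩
  set u' := g * u * g⁻¹ with hu'def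
  set C := centralizer ({u'} : Set G) with hC
  have hPC : (P : Subgroup G) ≤ C := fun d hd =>
    mem_centralizer_singleton_iff_commute.2 (hu' d hd).symm
  set D : Subgroup G := W.map (MulAut.conj g).toMonoidHom with hD
  have hDC : D ≤ C := by
    rintro _ ⟨w, hw, rfl⟩
    rw [mem_centralizer_singleton_iff_commute]
    show Commute (g * u * g⁻¹) (g * w * g⁻¹)
    rw [Commute.conj_iff]
    exact (hu w hw).symm
  have hDp : IsPGroup 2 D := (P.isPGroup'.to_le hWP).map _
  have hrel : ¬ 2 ∣ (P : Subgroup G).relIndex C := fun h2 =>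
    P.not_dvd_index (h2.trans (relIndex_dvd_index_of_le hPC))
  obtain ⟨c, hcC, hc⟩ := exists_conj_mem_of_relIndex (p := 2) C (P : Subgroup G) D hDC hDp hrel
  refine ⟨c⁻¹ * g, ?_, ?_⟩
  · apply mem_normalizer_of_conj_mem
    apply hwc
    intro w hw
    have h1 := hc (g * w * g⁻¹) ⟨w, hw, rfl⟩
    have e : c⁻¹ * g * w * (c⁻¹ * g)⁻¹ = c⁻¹ * (g * w * g⁻¹) * c := by group
    rw [e]; exact h1
  · have h1 : Commute u' c := mem_centralizer_singleton_iff_commute.1 hcC
    have e : c⁻¹ * g * u * (c⁻¹ * g)⁻¹ = c⁻¹ * u' * c := by rw [hu'def]; group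
    rw [e]
    have : u' * c = c * u' := h1
    calc c⁻¹ * u' * c = c⁻¹ * (u' * c) := by group
      _ = c⁻¹ * (c * u') := by rw [this]
      _ = u' := by group

/-- Taking successive squares of a 2-element outside a subgroup `K` one reaches an element outside `K`
whose square lies in `K`. -/
theorem exists_sq_mem (P : Sylow 2 G) (K : Subgroup G) {x : G} (hx : x ∈ (P : Subgroup G))
    (hxK : x ∉ K) : ∃ y ∈ (P : Subgroup G), y ∉ K ∧ y * y ∈ K := by
  classical
  obtain ⟨k, hk⟩ := two_of_mem P hx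
  have hex : ∃ j : ℕ, x ^ (2 ^ j) ∈ K := ⟨k, by rw [← hk, pow_orderOf_eq_one]; exact K.one_mem⟩
  have hj0 : Nat.find hex ≠ 0 := by
    intro h0
    have := Nat.find_spec hex
    rw [h0] at this
    simp at this
    exact hxK this
  obtain ⟨j, hj⟩ := Nat.exists_eq_succ_of_ne_zero hj0
  refine ⟨x ^ (2 ^ j), pow_mem hx _, ?_, ?_⟩
  · exact Nat.find_min hex (by omega)
  · have := Nat.find_spec hex
    rw [hj, pow_succ, pow_mul, pow_two] at this
    exact this

section main

variable [Finite G]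
  (h : ∀ x : G, (∃ k : ℕ, orderOf x = 2 ^ k) → ¬ 2 ∣ (Subgroup.centralizer ({x} : Set G)).index)

omit [Finite G] in
include h in
theorem mul_sq_of_sq (P : Sylow 2 G) {a b : G} (ha : a ∈ (P : Subgroup G)) (hb : b ∈ (P : Subgroup G))
    (ha2 : a * a = 1) (hb2 : b * b = 1) : (a * b) * (a * b) = 1 := by
  apply sq_eq_one_of_real (h _ (two_of_mem P (mul_mem ha hb))) ha2
  rw [inv_eq_self_of_sq ha2, mul_inv_rev, inv_eq_self_of_sq ha2, inv_eq_self_of_sq hb2]
  calc a * (a * b) * a = (a * a) * b * a := by group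
    _ = b * a := by rw [ha2, one_mul]

/-- `Ω₁(P)`: the elements of `P` of square `1` form a subgroup. -/
def omegaOne (P : Sylow 2 G) : Subgroup G where
  carrier := {s | s ∈ (P : Subgroup G) ∧ s * s = 1}
  one_mem' := ⟨one_mem _, by simp⟩
  mul_mem' := by
    rintro a b ⟨ha, ha2⟩ ⟨hb, hb2⟩
    exact ⟨mul_mem ha hb, mul_sq_of_sq h P ha hb ha2 hb2⟩
  inv_mem' := by
    rintro a ⟨ha, ha2⟩
    rw [Set.mem_ofPred_eq, inv_eq_self_of_sq ha2]
    exact ⟨ha, ha2⟩

theorem mem_omegaOne (P : Sylow 2 G) {s : G} :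
    s ∈ omegaOne h P ↔ s ∈ (P : Subgroup G) ∧ s * s = 1 := Iff.rfl

theorem omegaOne_le (P : Sylow 2 G) : omegaOne h P ≤ (P : Subgroup G) := fun _ hs => hs.1

theorem omegaOne_commute (P : Sylow 2 G) {a b : G} (ha : a ∈ omegaOne h P) (hb : b ∈ omegaOne h P) :
    a * b = b * a := by
  have hab := ((omegaOne h P).mul_mem ha hb).2
  have h1 : a * b = (a * b)⁻¹ := (inv_eq_self_of_sq hab).symm
  rw [h1, mul_inv_rev, inv_eq_self_of_sq ha.2, inv_eq_self_of_sq hb.2]

theorem omegaOne_wc (P : Sylow 2 G) (k : G)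
    (hk : ∀ w ∈ omegaOne h P, k * w * k⁻¹ ∈ (P : Subgroup G)) :
    ∀ w ∈ omegaOne h P, k * w * k⁻¹ ∈ omegaOne h P := by
  intro w hw
  refine ⟨hk w hw, ?_⟩
  calc k * w * k⁻¹ * (k * w * k⁻¹) = k * (w * w) * k⁻¹ := by group
    _ = 1 := by rw [hw.2]; group

theorem le_normalizer_omegaOne (P : Sylow 2 G) :
    (P : Subgroup G) ≤ normalizer ((omegaOne h P : Subgroup G) : Set G) := by
  intro d hd
  apply mem_normalizer_of_conj_mem
  apply omegaOne_wc
  intro w hw
  exact mul_mem (mul_mem hd hw.1) (inv_mem hd)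

end main

end Cfsg.Agent.Lib.Helper71.OddClass
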