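import Cfsg.Agent.Lib.Helper71.OddClassB

/-!
# Odd class sizes of 2-elements force abelian Sylow 2-subgroups: main argument
-/

set_option linter.unusedSectionVars false

namespace Cfsg.Agent.Lib.Helper71.OddClass

open Subgroup

variable {G : Type*} [Group G] [Finite G]
  (h : ∀ x : G, (∃ k : ℕ, orderOf x = 2 ^ k) → ¬ 2 ∣ (Subgroup.centralizer ({x} : Set G)).index)

/-- If `x ∈ P` has its square centralizing `Ω₁(P)`, then `x` centralizes `Ω₁(P)`. -/
theorem key5 (P : Sylow 2 G) {x : G} (hx : x ∈ (P : Subgroup G))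
    (hx2 : ∀ e ∈ omegaOne h P, e * (x * x) = (x * x) * e) :
    ∀ e ∈ omegaOne h P, e * x = x * e := by
  have : Fact (Nat.Prime 2) := ⟨Nat.prime_two⟩
  set E := omegaOne h P with hE
  -- (i) a central conjugate of `x`
  obtain ⟨g, hgP, hgc⟩ := exists_conj_mem_center P x (two_of_mem P hx) (h x (two_of_mem P hx))
  set a := g * x * g⁻¹ with ha
  -- (ii) its square
  have hsq : g * (x * x) * g⁻¹ = a * a := by rw [ha]; group
  have hbc : ∀ d ∈ (P : Subgroup G), d * (g * (x * x) * g⁻¹) = (g * (x * x) * g⁻¹) * d := by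
    intro d hd
    rw [hsq]
    have h1 : Commute d a := hgc d hd
    exact (h1.mul_right h1)
  -- (iii) control of fusion by `N(E)`
  obtain ⟨n, hnN, hn⟩ := control P E (omegaOne_le h P) (omegaOne_wc h P) (x * x) g hx2 hbc
  -- (iv)
  set x₁ := n * x * n⁻¹ with hx₁
  set b := a * a with hb
  have hx₁sq : x₁ * x₁ = b := by
    rw [← hsq, ← hn, hx₁]; group
  -- (v) conjugate `x₁` into `P` inside `N(E) ∩ C(b)`
  set M : Subgroup G := normalizer ((E : Subgroup G) : Set G) ⊓ centralizer ({b} : Set G) with hM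
  have hPM : (P : Subgroup G) ≤ M := by
    refine le_inf (le_normalizer_omegaOne h P) ?_
    intro d hd
    rw [mem_centralizer_singleton_iff_commute]
    have h1 : Commute d a := hgc d hd
    exact (h1.mul_right h1).symm
  have hx₁N : x₁ ∈ normalizer ((E : Subgroup G) : Set G) :=
    mul_mem (mul_mem hnN (le_normalizer_omegaOne h P hx)) (inv_mem hnN)
  have hx₁C : x₁ ∈ centralizer ({b} : Set G) := by
    rw [mem_centralizer_singleton_iff_commute, ← hx₁sq]
    exact (Commute.refl x₁).mul_left (Commute.refl x₁)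
  have hx₁M : x₁ ∈ M := Subgroup.mem_inf.2 ⟨hx₁N, hx₁C⟩
  have hDp : IsPGroup 2 (zpowers x₁) := by
    obtain ⟨k, hk⟩ := two_of_mem P hx
    exact IsPGroup.of_card (n := k) (by rw [Nat.card_zpowers, hx₁, orderOf_conj_eq, hk])
  have hrel : ¬ 2 ∣ (P : Subgroup G).relIndex M := fun h2 =>
    P.not_dvd_index (h2.trans (relIndex_dvd_index_of_le hPM))
  obtain ⟨m, hmM, hm⟩ := exists_conj_mem_of_relIndex (p := 2) M (P : Subgroup G) (zpowers x₁)
    (by rw [zpowers_le]; exact hx₁M) hDp hrel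
  set x₂ := m⁻¹ * x₁ * m with hx₂
  have hx₂P : x₂ ∈ (P : Subgroup G) := hm x₁ (mem_zpowers x₁)
  have hmb : Commute b m := mem_centralizer_singleton_iff_commute.1 hmM.2
  have hx₂sq : x₂ * x₂ = b := by
    have e : x₂ * x₂ = m⁻¹ * (x₁ * x₁) * m := by rw [hx₂]; group
    rw [e, hx₁sq]
    have : b * m = m * b := hmb
    calc m⁻¹ * b * m = m⁻¹ * (b * m) := by group
      _ = m⁻¹ * (m * b) := by rw [this]
      _ = b := by group
  -- (vi) `x₂ = s * a` with `s ∈ E`
  have hax₂ : Commute x₂ a := hgc x₂ hx₂P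
  set s := x₂ * a⁻¹ with hs
  have hsE : s ∈ E := by
    refine ⟨mul_mem hx₂P (inv_mem hgP), ?_⟩
    have h1 : Commute x₂ a⁻¹ := hax₂.inv_right
    calc s * s = x₂ * (a⁻¹ * x₂) * a⁻¹ := by rw [hs]; group
      _ = x₂ * (x₂ * a⁻¹) * a⁻¹ := by rw [h1.eq]
      _ = (x₂ * x₂) * (a * a)⁻¹ := by group
      _ = 1 := by rw [hx₂sq, hb, mul_inv_cancel]
  have hx₂c : ∀ e ∈ E, Commute x₂ e := by
    intro e he
    have e1 : x₂ = s * a := by rw [hs]; group
    rw [e1]
    have h1 : Commute s e := omegaOne_commute h P hsE he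
    have h2 : Commute a e := (hgc e he.1).symm
    exact h1.mul_left h2
  -- (vii) back to `x`
  intro e he
  set k := n⁻¹ * m with hk
  have hkN : k ∈ normalizer ((E : Subgroup G) : Set G) := mul_mem (inv_mem hnN) hmM.1
  have hxk : x = k * x₂ * k⁻¹ := by rw [hk, hx₂, hx₁]; group
  have he' : k⁻¹ * e * k ∈ E := (mem_normalizer_iff''.1 hkN e).1 he
  have h1 : Commute x₂ (k⁻¹ * e * k) := hx₂c _ he'
  have h2 : Commute (k * x₂ * k⁻¹) (k * (k⁻¹ * e * k) * k⁻¹) := (Commute.conj_iff k).2 h1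
  have e2 : k * (k⁻¹ * e * k) * k⁻¹ = e := by group
  rw [e2, ← hxk] at h2
  exact h2.symm.eq

/-- Step 5: `Ω₁(P)` is central in `P`. -/
theorem omegaOne_central (P : Sylow 2 G) :
    ∀ x ∈ (P : Subgroup G), ∀ e ∈ omegaOne h P, e * x = x * e := by
  by_contra hcon
  push Not at hcon
  obtain ⟨x, hx, e, he, hne⟩ := hcon
  set K : Subgroup G := centralizer ((omegaOne h P : Subgroup G) : Set G) with hK
  have hxK : x ∉ K := by
    intro hxK
    rw [hK, mem_centralizer_iff] at hxK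
    exact hne (hxK e he)
  obtain ⟨y, hyP, hyK, hy2⟩ := exists_sq_mem P K hx hxK
  apply hyK
  rw [hK, mem_centralizer_iff]
  rw [hK, mem_centralizer_iff] at hy2
  exact key5 h P hyP hy2

include h in
/-- If `y ∈ P` has central square, `y` is central in `P`. -/
theorem key6 (P : Sylow 2 G) {y : G} (hy : y ∈ (P : Subgroup G))
    (hy2 : ∀ d ∈ (P : Subgroup G), d * (y * y) = (y * y) * d) :
    ∀ d ∈ (P : Subgroup G), d * y = y * d := by
  have : Fact (Nat.Prime 2) := ⟨Nat.prime_two⟩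
  obtain ⟨g, hgP, hgc⟩ := exists_conj_mem_center P y (two_of_mem P hy) (h y (two_of_mem P hy))
  set a := g * y * g⁻¹ with ha
  have hsq : g * (y * y) * g⁻¹ = a * a := by rw [ha]; group
  have hbc : ∀ d ∈ (P : Subgroup G), d * (g * (y * y) * g⁻¹) = (g * (y * y) * g⁻¹) * d := by
    intro d hd
    rw [hsq]
    have h1 : Commute d a := hgc d hd
    exact (h1.mul_right h1)
  obtain ⟨m, hmN, hm⟩ := control P (P : Subgroup G) le_rfl (fun k hk => hk) (y * y) g hy2 hbc
  set a' := m⁻¹ * a * m with ha'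
  have ha'P : a' ∈ (P : Subgroup G) := (mem_normalizer_iff''.1 hmN a).1 hgP
  have ha'c : ∀ d ∈ (P : Subgroup G), Commute a' d := by
    intro d hd
    have hd' : m * d * m⁻¹ ∈ (P : Subgroup G) := (mem_normalizer_iff.1 hmN d).1 hd
    have h1 : Commute a (m * d * m⁻¹) := (hgc _ hd').symm
    have h2 : Commute (m⁻¹ * a * m⁻¹⁻¹) (m⁻¹ * (m * d * m⁻¹) * m⁻¹⁻¹) := (Commute.conj_iff m⁻¹).2 h1
    have e1 : m⁻¹ * a * m⁻¹⁻¹ = a' := by rw [ha']; group
    have e2 : m⁻¹ * (m * d * m⁻¹) * m⁻¹⁻¹ = d := by group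
    rw [e1, e2] at h2
    exact h2
  have ha'sq : a' * a' = y * y := by
    have e : a' * a' = m⁻¹ * (a * a) * m := by rw [ha']; group
    rw [e, ← hsq, ← hm]; group
  set s := y * a'⁻¹ with hs
  have hya : Commute y a' := (ha'c y hy).symm
  have hsE : s ∈ omegaOne h P := by
    refine ⟨mul_mem hy (inv_mem ha'P), ?_⟩
    have h1 : Commute y a'⁻¹ := hya.inv_right
    calc s * s = y * (a'⁻¹ * y) * a'⁻¹ := by rw [hs]; group
      _ = y * (y * a'⁻¹) * a'⁻¹ := by rw [h1.eq]
      _ = (y * y) * (a' * a')⁻¹ := by group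
      _ = 1 := by rw [ha'sq, mul_inv_cancel]
  intro d hd
  have e1 : y = s * a' := by rw [hs]; group
  have h1 : Commute d s := omegaOne_central h P d hd s hsE |>.symm
  have h2 : Commute d a' := (ha'c d hd).symm
  rw [e1]
  exact (h1.mul_right h2).eq

include h in
/-- Camina–Herzog: if all 2-elements have odd class size, Sylow 2-subgroups are abelian. -/
theorem sylow_commute (P : Sylow 2 G) :
    ∀ x ∈ (P : Subgroup G), ∀ d ∈ (P : Subgroup G), d * x = x * d := by
  by_contra hcon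
  push Not at hcon
  obtain ⟨x, hx, d, hd, hne⟩ := hcon
  set K : Subgroup G := centralizer (((P : Subgroup G) : Subgroup G) : Set G) with hK
  have hxK : x ∉ K := by
    intro hxK
    rw [hK, mem_centralizer_iff] at hxK
    exact hne (hxK d hd)
  obtain ⟨y, hyP, hyK, hy2⟩ := exists_sq_mem P K hx hxK
  apply hyK
  rw [hK, mem_centralizer_iff]
  rw [hK, mem_centralizer_iff] at hy2
  exact key6 h P hyP hy2

end Cfsg.Agent.Lib.Helper71.OddClass
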