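import Cfsg.Agent.Lib.Helper71.MaxCentClass2
import Cfsg.Agent.Lib.Helper24.SylowInv
import Cfsg.Agent.Lib.Helper72.SylowProd

/-!
# A proper normal subgroup outside of which every element has prime power order and a maximal
centralizer is solvable (in fact then either `N` is a `p`-group or `G` itself is solvable).
-/

set_option autoImplicit false

namespace Cfsg.Agent.Lib.Helper71.PrimePowOutside

open scoped Pointwise commutatorElement
open Cfsg.Agent.Lib.Helper71.MaxCent Cfsg.Agent.Lib.Helper72 Cfsg.Agent.Lib.Helper24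

variable {G : Type*} [Group G]

/-- Case A: some element outside `N` centralizes `N`; then `N` is a `p`-group. -/
theorem isPGroup_of_le_centralizer [Finite G] (N : Subgroup G) {x : G} (hx : x ∉ N)
    (h : ∀ y : G, y ∉ N → IsPrimePow (orderOf y)) (hle : N ≤ C x) :
    ∃ p : ℕ, p.Prime ∧ IsPGroup p N := by
  obtain ⟨p, k, hp, hk, hpk⟩ := (isPrimePow_nat_iff _).mp (h x hx)
  refine ⟨p, hp, ?_⟩
  have key : ∀ n ∈ N, ∀ s : ℕ, s.Prime → s ∣ orderOf n → s = p := by
    intro n hn s hs hsd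
    by_contra hsp
    have ho0 : orderOf n ≠ 0 := (orderOf_pos n).ne'
    obtain ⟨n', hn'⟩ : ∃ n', n' = n ^ (orderOf n / s) := ⟨_, rfl⟩
    have hon' : orderOf n' = s := by rw [hn']; exact orderOf_pow_orderOf_div ho0 hsd
    have hn'N : n' ∈ N := by rw [hn']; exact N.pow_mem hn _
    have hcomm : Commute x n' := (mem_C.mp (hle hn'N)).symm
    have hcop : Nat.Coprime (orderOf x) (orderOf n') := by
      rw [← hpk, hon']
      exact Nat.Coprime.pow_left _ ((Nat.coprime_primes hp hs).mpr (Ne.symm hsp))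
    have hord := hcomm.orderOf_mul_eq_mul_orderOf_of_coprime hcop
    have hxn : x * n' ∉ N := fun hmem => hx (by
      have := N.mul_mem hmem (N.inv_mem hn'N)
      rwa [mul_inv_cancel_right] at this)
    obtain ⟨r, j, hr, hj, hrj⟩ := (isPrimePow_nat_iff _).mp (h _ hxn)
    rw [hord, ← hpk, hon'] at hrj
    have h1 : p ∣ r ^ j := by rw [hrj]; exact Dvd.dvd.mul_right (dvd_pow_self p hk.ne') s
    have h2 : s ∣ r ^ j := by rw [hrj]; exact dvd_mul_left s _
    have e1 := (Nat.prime_dvd_prime_iff_eq hp hr).mp (hp.dvd_of_dvd_pow h1)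
    have e2 := (Nat.prime_dvd_prime_iff_eq hs hr).mp (hs.dvd_of_dvd_pow h2)
    exact hsp (e2.trans e1.symm)
  intro n
  have ho0 : orderOf (n : G) ≠ 0 := (orderOf_pos _).ne'
  have := Nat.eq_prime_pow_of_unique_prime_dvd ho0 (fun {d} hd hdd => key n n.2 d hd hdd)
  refine ⟨(orderOf (n : G)).primeFactorsList.length, ?_⟩
  apply Subtype.ext
  rw [Subgroup.coe_pow, ← this, pow_orderOf_eq_one]; rfl

section CaseB

variable (N : Subgroup G) [hN : N.Normal]
  (h : ∀ x : G, x ∉ N → IsPrimePow (orderOf x) ∧ IsCoatom (C x))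
  (hB : ∀ x : G, x ∉ N → ¬ N ≤ C x)
include hN h hB

theorem sup_C_eq_top {x : G} (hx : x ∉ N) : N ⊔ C x = ⊤ := by
  rcases (h x hx).2.le_iff.mp (le_sup_right : C x ≤ N ⊔ C x) with h1 | h1
  · exact h1
  · exfalso
    apply hB x hx
    rw [← h1]; exact le_sup_left

theorem quot_comm (a b : G) :
    (QuotientGroup.mk a : G ⧸ N) * QuotientGroup.mk b = QuotientGroup.mk b * QuotientGroup.mk a := by
  by_cases ha : a ∈ N
  · rw [(QuotientGroup.eq_one_iff a).mpr ha, one_mul, mul_one]
  · have hb : b ∈ ((N ⊔ C a : Subgroup G) : Set G) := by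
      rw [sup_C_eq_top N h hB ha]; exact Set.mem_univ b
    rw [Subgroup.normal_mul] at hb
    obtain ⟨n, hn, c, hc, rfl⟩ := Set.mem_mul.mp hb
    have hc' : c * a = a * c := mem_C.mp hc
    rw [QuotientGroup.mk_mul, (QuotientGroup.eq_one_iff n).mpr hn, one_mul, ← QuotientGroup.mk_mul,
      ← QuotientGroup.mk_mul, hc']

/-- All elements outside `N` are `p`-elements for one and the same prime `p`. -/
theorem orderOf_eq_pow [Finite G] {x₀ : G} (hx₀ : x₀ ∉ N) {p k : ℕ} (hp : p.Prime)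
    (hpk : p ^ k = orderOf x₀) {y : G} (hy : y ∉ N) : ∃ j : ℕ, orderOf y = p ^ j := by
  obtain ⟨r, j, hr, hj, hrj⟩ := (isPrimePow_nat_iff _).mp (h y hy).1
  by_cases hrp : r = p
  · exact ⟨j, by rw [← hrj, hrp]⟩
  exfalso
  have hx1 : (QuotientGroup.mk x₀ : G ⧸ N) ≠ 1 := fun h0 => hx₀ ((QuotientGroup.eq_one_iff _).mp h0)
  have hy1 : (QuotientGroup.mk y : G ⧸ N) ≠ 1 := fun h0 => hy ((QuotientGroup.eq_one_iff _).mp h0)
  have hox : orderOf (QuotientGroup.mk x₀ : G ⧸ N) ∣ p ^ k := by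
    rw [hpk]; exact orderOf_map_dvd (QuotientGroup.mk' N) x₀
  have hoy : orderOf (QuotientGroup.mk y : G ⧸ N) ∣ r ^ j := by
    rw [hrj]; exact orderOf_map_dvd (QuotientGroup.mk' N) y
  obtain ⟨a, -, hoa⟩ := (Nat.dvd_prime_pow hp).mp hox
  obtain ⟨b, -, hob⟩ := (Nat.dvd_prime_pow hr).mp hoy
  have ha0 : a ≠ 0 := by
    intro h0
    rw [h0, pow_zero, orderOf_eq_one_iff] at hoa
    exact hx1 hoa
  have hb0 : b ≠ 0 := by
    intro h0
    rw [h0, pow_zero, orderOf_eq_one_iff] at hob
    exact hy1 hob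
  have hcop : Nat.Coprime (orderOf (QuotientGroup.mk x₀ : G ⧸ N))
      (orderOf (QuotientGroup.mk y : G ⧸ N)) := by
    rw [hoa, hob]
    exact Nat.Coprime.pow _ _ ((Nat.coprime_primes hp hr).mpr (Ne.symm hrp))
  have hcomm : Commute (QuotientGroup.mk x₀ : G ⧸ N) (QuotientGroup.mk y) :=
    quot_comm N h hB x₀ y
  have hord := hcomm.orderOf_mul_eq_mul_orderOf_of_coprime hcop
  rw [hoa, hob] at hord
  have hpa : 1 < p ^ a := Nat.one_lt_pow ha0 hp.one_lt
  have hrb : 1 < r ^ b := Nat.one_lt_pow hb0 hr.one_lt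
  have hxy : x₀ * y ∉ N := by
    intro hmem
    have h1 : (QuotientGroup.mk x₀ : G ⧸ N) * QuotientGroup.mk y = 1 := by
      rw [← QuotientGroup.mk_mul]; exact (QuotientGroup.eq_one_iff _).mpr hmem
    rw [h1, orderOf_one] at hord
    nlinarith
  obtain ⟨s, c, hs, hc, hsc⟩ := (isPrimePow_nat_iff _).mp (h _ hxy).1
  have hdvd : p ^ a * r ^ b ∣ s ^ c := by
    rw [← hord, hsc, ← QuotientGroup.mk_mul]
    exact orderOf_map_dvd (QuotientGroup.mk' N) (x₀ * y)
  have h1 : p ∣ s ^ c := (dvd_pow_self p ha0).trans ((dvd_mul_right _ _).trans hdvd)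
  have h2 : r ∣ s ^ c := (dvd_pow_self r hb0).trans ((dvd_mul_left _ _).trans hdvd)
  have e1 := (Nat.prime_dvd_prime_iff_eq hp hs).mp (hp.dvd_of_dvd_pow h1)
  have e2 := (Nat.prime_dvd_prime_iff_eq hr hs).mp (hr.dvd_of_dvd_pow h2)
  exact hrp (e2.trans e1.symm)

/-- Centralizers of elements outside `N` are `p`-groups. -/
theorem isPGroup_C [Finite G] {x₀ : G} (hx₀ : x₀ ∉ N) {p k : ℕ} (hp : p.Prime)
    (hpk : p ^ k = orderOf x₀) {x : G} (hx : x ∉ N) : IsPGroup p (C x) := by
  intro m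
  by_cases hm : (m : G) ∈ N
  · obtain ⟨i, hi⟩ := orderOf_eq_pow N h hB hx₀ hp hpk hx
    have hxm : x * (m : G) ∉ N := fun hmem => hx (by
      have := N.mul_mem hmem (N.inv_mem hm)
      rwa [mul_inv_cancel_right] at this)
    obtain ⟨j, hj⟩ := orderOf_eq_pow N h hB hx₀ hp hpk hxm
    refine ⟨i + j, Subtype.ext ?_⟩
    have hcomm : Commute x (m : G) := (mem_C.mp m.2).symm
    have h1 : x ^ p ^ (i + j) = 1 := by
      rw [pow_add, pow_mul, ← hi, pow_orderOf_eq_one, one_pow]
    have h2 : (x * (m : G)) ^ p ^ (i + j) = 1 := by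
      rw [pow_add, mul_comm (p ^ i), pow_mul, ← hj, pow_orderOf_eq_one, one_pow]
    rw [hcomm.mul_pow, h1, one_mul] at h2
    simpa using h2
  · obtain ⟨j, hj⟩ := orderOf_eq_pow N h hB hx₀ hp hpk hm
    exact ⟨j, Subtype.ext (by rw [Subgroup.coe_pow, ← hj, pow_orderOf_eq_one]; rfl)⟩

end CaseB

/-- A maximal subgroup which is a `p`-group is a Sylow `p`-subgroup unless `G` is a `p`-group. -/
noncomputable def sylowOfCoatom {p : ℕ} {M : Subgroup G} (hM : IsPGroup p M) (hco : IsCoatom M)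
    (hG : ¬ IsPGroup p G) : Sylow p G :=
  { toSubgroup := M
    isPGroup' := hM
    is_maximal' := by
      intro Q hQ hle
      rcases hco.le_iff.mp hle with h1 | h1
      · exfalso
        apply hG
        rw [h1] at hQ
        exact hQ.of_equiv Subgroup.topEquiv
      · exact h1 }

theorem coe_sylowOfCoatom {p : ℕ} {M : Subgroup G} (hM : IsPGroup p M) (hco : IsCoatom M)
    (hG : ¬ IsPGroup p G) : ((sylowOfCoatom hM hco hG : Sylow p G) : Subgroup G) = M := rfl

/-- The counting argument: the Sylow subgroup `C x₀` is abelian. -/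
theorem comm_of_count [Finite G] (N : Subgroup G) [hN : N.Normal] {p : ℕ} [Fact p.Prime]
    (hG : ¬ IsPGroup p G)
    (hco : ∀ x : G, x ∉ N → IsCoatom (C x)) (hpg : ∀ x : G, x ∉ N → IsPGroup p (C x))
    {x₀ : G} (hx₀ : x₀ ∉ N) (hsup : N ⊔ C x₀ = ⊤) :
    ∀ a ∈ C x₀, ∀ b ∈ C x₀, a * b = b * a := by
  -- the key inclusion: every element of `C x₀` outside `N` is central in `C x₀`
  obtain ⟨W, hW⟩ : ∃ W : Set G, W = {z : G | z ∈ Zc x₀ ∧ z ∉ N} := ⟨_, rfl⟩
  obtain ⟨V, hV⟩ : ∃ V : Set G, V = {z : G | z ∈ C x₀ ∧ z ∉ N} := ⟨_, rfl⟩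
  have hWV : W ⊆ V := by
    rw [hW, hV]
    rintro z ⟨hz, hzN⟩
    exact ⟨Zc_le_C_self x₀ hz, hzN⟩
  obtain ⟨f, hf⟩ : ∃ f : (G ⧸ C x₀) × G → G,
      f = fun qz => qz.1.out * qz.2 * (qz.1.out)⁻¹ := ⟨_, rfl⟩
  have hsub : ((N : Set G)ᶜ) ⊆ f '' (Set.univ ×ˢ W) := by
    intro y hy
    have hyN : y ∉ N := hy
    obtain ⟨g, hg⟩ := MulAction.exists_smul_eq G
      (sylowOfCoatom (hpg x₀ hx₀) (hco x₀ hx₀) hG) (sylowOfCoatom (hpg y hyN) (hco y hyN) hG)
    have hmem : ∀ m : G, m ∈ C y ↔ g⁻¹ * m * g ∈ C x₀ := by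
      intro m
      rw [← coe_sylowOfCoatom (hpg y hyN) (hco y hyN) hG, ← hg, Sylow.coe_subgroup_smul,
        Cfsg.Agent.Lib.Helper35.mem_conj_smul, coe_sylowOfCoatom]
    obtain ⟨z, hz⟩ : ∃ z, z = g⁻¹ * y * g := ⟨_, rfl⟩
    have hzZ : z ∈ Zc x₀ := by
      rw [mem_Zc]
      have h1 : z ∈ C x₀ := by rw [hz]; exact (hmem y).mp (self_mem_C y)
      refine ⟨mem_C.mp h1, fun m₀ hm₀ => ?_⟩
      have h2 : g * m₀ * g⁻¹ ∈ C y := by
        rw [hmem]
        have : g⁻¹ * (g * m₀ * g⁻¹) * g = m₀ := by group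
        rw [this]; exact mem_C.mpr hm₀
      rw [mem_C] at h2
      rw [hz]
      calc m₀ * (g⁻¹ * y * g) = g⁻¹ * ((g * m₀ * g⁻¹) * y) * g := by group
        _ = g⁻¹ * (y * (g * m₀ * g⁻¹)) * g := by rw [h2]
        _ = g⁻¹ * y * g * m₀ := by group
    have hzN : z ∉ N := by
      intro hzN
      apply hyN
      have := hN.conj_mem z hzN g
      rw [hz] at this
      have e : g * (g⁻¹ * y * g) * g⁻¹ = y := by group
      rwa [e] at this
    obtain ⟨s, hs⟩ := QuotientGroup.mk_out_eq_mul (C x₀) g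
    refine ⟨((g : G ⧸ C x₀), z), ⟨Set.mem_univ _, by rw [hW]; exact ⟨hzZ, hzN⟩⟩, ?_⟩
    rw [hf]
    show (QuotientGroup.mk g : G ⧸ C x₀).out * z * ((QuotientGroup.mk g : G ⧸ C x₀).out)⁻¹ = y
    rw [hs]
    have hsz : (s : G) * z = z * s := (mem_Zc.mp hzZ).2 s (mem_C.mp s.2)
    calc g * ↑s * z * (g * ↑s)⁻¹ = g * (↑s * z) * (↑s : G)⁻¹ * g⁻¹ := by group
      _ = g * (z * ↑s) * (↑s : G)⁻¹ * g⁻¹ := by rw [hsz]
      _ = g * z * g⁻¹ := by group
      _ = y := by rw [hz]; group
  -- cardinalities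
  have hcardS : ((N : Set G)ᶜ).ncard ≤ (C x₀).index * W.ncard := by
    calc ((N : Set G)ᶜ).ncard ≤ (f '' (Set.univ ×ˢ W)).ncard :=
          Set.ncard_le_ncard hsub (Set.toFinite _)
      _ ≤ (Set.univ ×ˢ W : Set ((G ⧸ C x₀) × G)).ncard := Set.ncard_image_le (Set.toFinite _)
      _ = (C x₀).index * W.ncard := by
          rw [Set.ncard_prod, Set.ncard_univ, Subgroup.index_eq_card]
  have h1 : ((N : Set G)ᶜ).ncard + Nat.card N = Nat.card G :=
    Set.ncard_compl_add_ncard (N : Set G)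
  have hVeq : V = (C x₀ : Set G) \ ((C x₀ ⊓ N : Subgroup G) : Set G) := by
    rw [hV]
    ext z
    simp only [Set.mem_ofPred_eq, Set.mem_sdiff, SetLike.mem_coe, Subgroup.mem_inf]
    tauto
  have h2 : V.ncard + Nat.card (C x₀ ⊓ N : Subgroup G) = Nat.card (C x₀) := by
    rw [hVeq]
    exact Set.ncard_sdiff_add_ncard_of_subset
      (show ((C x₀ ⊓ N : Subgroup G) : Set G) ⊆ (C x₀ : Set G) from fun z hz => hz.1)
  have h3 : (C x₀).index * Nat.card (C x₀) = Nat.card G := Subgroup.index_mul_card _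
  have h4 : N.index * Nat.card N = Nat.card G := Subgroup.index_mul_card _
  have h5 : N.index * Nat.card (C x₀ ⊓ N : Subgroup G) = Nat.card (C x₀) := by
    have e1 := Subgroup.relIndex_sup_right (H := C x₀) (K := N)
    rw [sup_comm, hsup, Subgroup.relIndex_top_right] at e1
    have e2 := relIndex_mul_card_inf N (C x₀)
    rw [← e1, inf_comm] at e2
    exact e2
  obtain ⟨i, hi⟩ : ∃ i, N.index = i + 1 :=
    ⟨N.index - 1, (Nat.succ_pred_eq_of_pos (Nat.pos_of_ne_zero Subgroup.index_ne_zero_of_finite)).symm⟩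
  obtain ⟨n, hn⟩ : ∃ n, n = Nat.card N := ⟨_, rfl⟩
  obtain ⟨d, hd⟩ : ∃ d, d = Nat.card (C x₀ ⊓ N : Subgroup G) := ⟨_, rfl⟩
  rw [← hn] at h1 h4
  rw [← hd] at h2 h5
  rw [hi] at h4 h5
  have hS : ((N : Set G)ᶜ).ncard = i * n := by
    have : ((N : Set G)ᶜ).ncard + n = i * n + n := by rw [h1, ← h4]; ring
    exact Nat.add_right_cancel this
  have hVc : V.ncard = i * d := by
    have : V.ncard + d = i * d + d := by rw [h2, ← h5]; ring
    exact Nat.add_right_cancel this
  have hnpos : 0 < n := by rw [hn]; exact Nat.card_pos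
  have hle : V.ncard ≤ W.ncard := by
    have e : ((i + 1) * n) * V.ncard ≤ ((i + 1) * n) * W.ncard := by
      calc ((i + 1) * n) * V.ncard = (i * n) * ((i + 1) * d) := by rw [hVc]; ring
        _ = ((N : Set G)ᶜ).ncard * Nat.card (C x₀) := by rw [hS, h5]
        _ ≤ ((C x₀).index * W.ncard) * Nat.card (C x₀) := Nat.mul_le_mul_right _ hcardS
        _ = ((C x₀).index * Nat.card (C x₀)) * W.ncard := by ring
        _ = ((i + 1) * n) * W.ncard := by rw [h3, ← h4]
    exact Nat.le_of_mul_le_mul_left e (Nat.mul_pos (Nat.succ_pos i) hnpos)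
  have hWeqV : W = V := Set.eq_of_subset_of_ncard_le hWV hle (Set.toFinite _)
  have hcentral : ∀ y ∈ C x₀, y ∉ N → y ∈ Zc x₀ := by
    intro y hy hyN
    have : y ∈ V := by rw [hV]; exact ⟨hy, hyN⟩
    rw [← hWeqV, hW] at this
    exact this.1
  have hx₀Z : x₀ ∈ Zc x₀ := self_mem_Zc x₀
  have hall : ∀ a ∈ C x₀, a ∈ Zc x₀ := by
    intro a ha
    by_cases haN : a ∈ N
    · have hax : a * x₀ ∉ N := fun hmem => hx₀ (by
        have := N.mul_mem (N.inv_mem haN) hmem
        rwa [inv_mul_cancel_left] at this)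
      have h6 := hcentral (a * x₀) (Subgroup.mul_mem _ ha (self_mem_C x₀)) hax
      have := Subgroup.mul_mem _ h6 (Subgroup.inv_mem _ hx₀Z)
      rwa [mul_inv_cancel_right] at this
    · exact hcentral a ha haN
  intro a ha b hb
  exact (mem_Zc.mp (hall b hb)).2 a (mem_C.mp ha)

/-- A group with an abelian Sylow subgroup which is a maximal subgroup is solvable
(Burnside's transfer theorem). -/
theorem solvable_of_abelian_sylow_coatom [Finite G] {p : ℕ} [Fact p.Prime] (P : Sylow p G)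
    (hco : IsCoatom (P : Subgroup G))
    (hab : ∀ a ∈ (P : Subgroup G), ∀ b ∈ (P : Subgroup G), a * b = b * a) :
    Group.IsSolvable G := by
  have hPsolv : Group.IsSolvable (P : Subgroup G) :=
    Group.isSolvable_of_comm (fun a b => Subtype.ext (hab a a.2 b b.2))
  by_cases hPn : (P : Subgroup G).Normal
  · have hq : Group.IsSolvable (G ⧸ (P : Subgroup G)) := by
      apply Group.isSolvable_of_comm
      intro a b
      obtain ⟨a, rfl⟩ := QuotientGroup.mk_surjective a
      obtain ⟨b, rfl⟩ := QuotientGroup.mk_surjective b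
      rw [← QuotientGroup.mk_mul, ← QuotientGroup.mk_mul, QuotientGroup.eq]
      have : (a * b)⁻¹ * (b * a) = ⁅b⁻¹, a⁻¹⁆ := by rw [commutatorElement_def]; group
      rw [this]
      exact commutator_mem_of_normal_coatom hPn hco _ _
    exact Group.isSolvable_of_ker_le_range (P : Subgroup G).subtype
      (QuotientGroup.mk' (P : Subgroup G)) (by simp)
  · have hNeq : Subgroup.normalizer ((P : Subgroup G) : Set G) = (P : Subgroup G) := by
      rcases hco.le_iff.mp Subgroup.le_normalizer with h1 | h1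
      · exact absurd (Subgroup.normalizer_eq_top_iff.mp h1) hPn
      · exact h1
    have hP : Subgroup.normalizer (P : Set G) ≤ Subgroup.centralizer (P : Set G) := by
      intro g hg
      have hg' : g ∈ (P : Subgroup G) := by rw [← hNeq]; exact hg
      rw [Subgroup.mem_centralizer_iff]
      intro m hm
      exact hab m hm g hg'
    have hcompl := MonoidHom.ker_transferSylow_isComplement' P hP
    obtain ⟨K, hK⟩ : ∃ K : Subgroup G, K = (MonoidHom.transferSylow P hP).ker := ⟨_, rfl⟩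
    rw [← hK] at hcompl
    have hKn : K.Normal := by rw [hK]; infer_instance
    have hq : Group.IsSolvable (G ⧸ K) :=
      Group.isSolvable_of_isSolvable_injective
        (f := (hcompl.symm.QuotientMulEquiv).toMonoidHom) (hcompl.symm.QuotientMulEquiv).injective
    have hKsolv : Group.IsSolvable K := by
      by_cases hKbot : K = ⊥
      · apply Group.isSolvable_of_comm
        intro a b
        have ha : (a : G) = 1 := Subgroup.mem_bot.mp (hKbot.le a.2)
        have hb : (b : G) = 1 := Subgroup.mem_bot.mp (hKbot.le b.2)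
        apply Subtype.ext
        rw [Subgroup.coe_mul, Subgroup.coe_mul, ha, hb]
      have hK1 : 1 < Nat.card K := (Subgroup.one_lt_card_iff_ne_bot K).mpr hKbot
      obtain ⟨r, hr⟩ : ∃ r, r = (Nat.card K).minFac := ⟨_, rfl⟩
      have hrp : r.Prime := by rw [hr]; exact Nat.minFac_prime hK1.ne'
      have hrd : r ∣ Nat.card K := by rw [hr]; exact Nat.minFac_dvd _
      haveI : Fact r.Prime := ⟨hrp⟩
      have hKP : K ⊓ (P : Subgroup G) = ⊥ := disjoint_iff.mp hcompl.disjoint
      have hKPsup : K ⊔ (P : Subgroup G) = ⊤ := hcompl.sup_eq_top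
      have hcop : (Nat.card (P : Subgroup G)).Coprime (Nat.card K) := by
        obtain ⟨n, hn⟩ := IsPGroup.iff_card.mp P.2
        rw [hn]
        apply Nat.Coprime.pow_left
        rw [Nat.Prime.coprime_iff_not_dvd Fact.out, ← hcompl.index_eq_card]
        exact P.not_dvd_index
      have hPK : (P : Subgroup G) ≤ Subgroup.normalizer (K : Set G) := by
        rw [Subgroup.normalizer_eq_top_iff.mpr hKn]; exact le_top
      obtain ⟨R, -, hPR⟩ := invariant_pSubgroup_le_sylow (p := r) (P : Subgroup G) K hPK hcop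
        (Or.inl hPsolv) ⊥ bot_le IsPGroup.of_bot (by
          rw [Subgroup.normalizer_eq_top_iff.mpr (inferInstance : (⊥ : Subgroup G).Normal)]
          exact le_top)
      obtain ⟨R', hR'⟩ : ∃ R' : Subgroup G, R' = (R : Subgroup K).map K.subtype := ⟨_, rfl⟩
      rw [← hR'] at hPR
      have hR'K : R' ≤ K := by rw [hR']; exact Subgroup.map_subtype_le _
      have hR'r : IsPGroup r R' := by rw [hR']; exact R.2.map _
      have hR'bot : R' ≠ ⊥ := by
        intro h0
        have hc : Nat.card R' = r ^ (Nat.card K).factorization r := by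
          rw [hR', Subgroup.card_map_of_injective K.subtype_injective, Sylow.card_eq_multiplicity]
        rw [h0, Subgroup.card_bot] at hc
        have h1 : 0 < (Nat.card K).factorization r :=
          hrp.factorization_pos_of_dvd (Nat.card_pos.ne') hrd
        have h2 := Nat.one_lt_pow h1.ne' hrp.one_lt
        omega
      have hR'P : R' ⊓ (P : Subgroup G) = ⊥ := by
        rw [eq_bot_iff, ← hKP]; exact inf_le_inf_right _ hR'K
      have hsup : (P : Subgroup G) ⊔ R' = ⊤ := by
        rcases hco.le_iff.mp (le_sup_left : (P : Subgroup G) ≤ (P : Subgroup G) ⊔ R') with h1 | h1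
        · exact h1
        · exfalso
          have hle : R' ≤ (P : Subgroup G) := by rw [← h1]; exact le_sup_right
          apply hR'bot
          rw [← hR'P]; exact (inf_eq_left.mpr hle).symm
      have hR'n : R'.Normal := by
        rw [← Subgroup.normalizer_eq_top_iff, eq_top_iff, ← hsup]
        exact sup_le hPR Subgroup.le_normalizer
      have c1 := index_eq_card_of_compl (K := R') (H := (P : Subgroup G)) hR'P hsup
      have c2 := index_eq_card_of_compl (K := K) (H := (P : Subgroup G)) hKP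
        (by rw [sup_comm]; exact hKPsup)
      have hR'K_eq : R' = K := by
        apply Subgroup.eq_of_le_of_card_ge hR'K
        have e1 := Subgroup.index_mul_card R'
        have e2 := Subgroup.index_mul_card K
        rw [c1] at e1
        rw [c2] at e2
        have hpos : 0 < Nat.card (P : Subgroup G) := Nat.card_pos
        exact (Nat.eq_of_mul_eq_mul_left hpos (e1.trans e2.symm)).ge
      have hKr : IsPGroup r K := hR'K_eq ▸ hR'r
      have hnil : Group.IsNilpotent K := hKr.isNilpotent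
      infer_instance
    exact Group.isSolvable_of_ker_le_range K.subtype (QuotientGroup.mk' K) (by simp)

/-- Main theorem: `N` is solvable. -/
theorem solvable_of_primePow_outside [Finite G] (N : Subgroup G) [hN : N.Normal] (hNtop : N ≠ ⊤)
    (h : ∀ x : G, x ∉ N → IsPrimePow (orderOf x) ∧ IsCoatom (C x)) : Group.IsSolvable N := by
  by_cases hA : ∃ x : G, x ∉ N ∧ N ≤ C x
  · obtain ⟨x, hx, hle⟩ := hA
    obtain ⟨p, hp, hNp⟩ := isPGroup_of_le_centralizer N hx (fun y hy => (h y hy).1) hle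
    haveI : Fact p.Prime := ⟨hp⟩
    have hnil : Group.IsNilpotent N := hNp.isNilpotent
    infer_instance
  · have hB : ∀ x : G, x ∉ N → ¬ N ≤ C x := fun x hx hle => hA ⟨x, hx, hle⟩
    obtain ⟨x₀, hx₀⟩ : ∃ x₀ : G, x₀ ∉ N := by
      by_contra hcon
      push Not at hcon
      exact hNtop (eq_top_iff.mpr fun g _ => hcon g)
    obtain ⟨p, k, hp, hk, hpk⟩ := (isPrimePow_nat_iff _).mp (h x₀ hx₀).1
    haveI : Fact p.Prime := ⟨hp⟩
    have hGsolv : Group.IsSolvable G := by
      by_cases hG : IsPGroup p G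
      · have hnil : Group.IsNilpotent G := hG.isNilpotent
        infer_instance
      · have hpg : ∀ x : G, x ∉ N → IsPGroup p (C x) :=
          fun x hx => isPGroup_C N h hB hx₀ hp hpk hx
        have hco : ∀ x : G, x ∉ N → IsCoatom (C x) := fun x hx => (h x hx).2
        have hab := comm_of_count N hG hco hpg hx₀ (sup_C_eq_top N h hB hx₀)
        exact solvable_of_abelian_sylow_coatom (sylowOfCoatom (hpg x₀ hx₀) (hco x₀ hx₀) hG)
          (hco x₀ hx₀) hab
    infer_instance

end Cfsg.Agent.Lib.Helper71.PrimePowOutside
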