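import Mathlib

set_option autoImplicit false

/-! A finite abelian group of odd order admitting endomorphisms `I`, `J` with
`I² = J² = -1` and `IJ = -JI` has square order. -/

namespace Cfsg.Agent.Lib.Helper71.QuatSq

section
variable {A : Type*} [AddCommGroup A] (I J : A →+ A)

/-- `u = a I + b J`. -/
def uMap (a b : ℤ) : A →+ A where
  toFun x := a • I x + b • J x
  map_zero' := by simp
  map_add' x y := by
    simp only [map_add, smul_add]
    abel

theorem uMap_apply (a b : ℤ) (x : A) : uMap I J a b x = a • I x + b • J x := rfl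

variable {I J}
variable (hI : ∀ x, I (I x) = -x) (hJ : ∀ x, J (J x) = -x) (hIJ : ∀ x, I (J x) = -J (I x))

include hI hJ hIJ

theorem uMap_uMap (a b : ℤ) (x : A) :
    uMap I J a b (uMap I J a b x) = (-(a * a + b * b)) • x := by
  simp only [uMap_apply, map_add, map_zsmul, hI, hJ, hIJ]
  module

theorem uMap_k (a b : ℤ) (x : A) :
    uMap I J a b (I (J x)) = -(I (J (uMap I J a b x))) := by
  simp only [uMap_apply, map_add, map_zsmul, map_neg, hI, hJ, hIJ, neg_neg]

theorem k_k (x : A) : I (J (I (J x))) = -x := by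
  simp only [map_neg, hI, hJ, hIJ, neg_neg]

theorem isSquare_card_of_exponent (p : ℕ) (hp : p.Prime) (hp2 : p ≠ 2) (B : AddSubgroup A)
    [Finite B] (hBI : ∀ x ∈ B, I x ∈ B) (hBJ : ∀ x ∈ B, J x ∈ B) (hBp : ∀ x ∈ B, p • x = 0) :
    IsSquare (Nat.card B) := by
  have := Fact.mk hp
  obtain ⟨a, b, k, _, _, hab⟩ := Int.exists_sq_add_sq_add_one_eq_mul p
  obtain ⟨u, hu⟩ : ∃ u : A →+ A, u = uMap I J (a : ℤ) (b : ℤ) := ⟨_, rfl⟩
  have huB : ∀ x ∈ B, u x ∈ B := fun x hx => by
    rw [hu, uMap_apply]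
    exact B.add_mem (B.zsmul_mem (hBI x hx) _) (B.zsmul_mem (hBJ x hx) _)
  have huu : ∀ x ∈ B, u (u x) = x := by
    intro x hx
    rw [hu, uMap_uMap hI hJ hIJ]
    have h1 : (-((a : ℤ) * a + b * b)) = 1 - (k : ℤ) * p := by
      have : ((a ^ 2 + b ^ 2 + 1 : ℕ) : ℤ) = ((k * p : ℕ) : ℤ) := by rw [hab]
      push_cast at this
      linarith
    have hpx : ((p : ℤ) • x) = 0 := by rw [natCast_zsmul]; exact hBp x hx
    rw [h1, sub_smul, one_smul, mul_smul, hpx, smul_zero, sub_zero]
  have huk : ∀ x, u (I (J x)) = -(I (J (u x))) := fun x => by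
    rw [hu]; exact uMap_k hI hJ hIJ _ _ x
  obtain ⟨c, hc⟩ : ∃ c : ℤ, 2 * c = (p : ℤ) + 1 := by
    obtain ⟨m, hm⟩ := hp.odd_of_ne_two hp2
    exact ⟨m + 1, by rw [hm]; push_cast; ring⟩
  have h2c : ∀ x ∈ B, (2 * c) • x = x := by
    intro x hx
    have hpx : ((p : ℤ) • x) = 0 := by rw [natCast_zsmul]; exact hBp x hx
    rw [hc, add_smul, one_smul, hpx, zero_add]
  have hkk := k_k hI hJ hIJ
  -- the two eigenspaces
  let Bp : Set A := {x | x ∈ B ∧ u x = x}
  let Bm : Set A := {x | x ∈ B ∧ u x = -x}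
  have e1 : Bp ≃ Bm :=
    { toFun := fun x => ⟨I (J x.1), hBI _ (hBJ _ x.2.1), by
        show u (I (J x.1)) = -(I (J x.1))
        rw [huk, x.2.2]⟩
      invFun := fun y => ⟨-(I (J y.1)), B.neg_mem (hBI _ (hBJ _ y.2.1)), by
        show u (-(I (J y.1))) = -(I (J y.1))
        rw [map_neg, huk, y.2.2, map_neg, map_neg, neg_neg]⟩
      left_inv := fun x => by
        apply Subtype.ext
        show -(I (J (I (J x.1)))) = x.1
        rw [hkk, neg_neg]
      right_inv := fun y => by
        apply Subtype.ext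
        show I (J (-(I (J y.1)))) = y.1
        rw [map_neg, map_neg, hkk, neg_neg] }
  have e2 : B ≃ Bp × Bm :=
    { toFun := fun x =>
        (⟨c • (x.1 + u x.1), B.zsmul_mem (B.add_mem x.2 (huB _ x.2)) c, by
            show u (c • (x.1 + u x.1)) = c • (x.1 + u x.1)
            rw [map_zsmul, map_add, huu _ x.2, add_comm]⟩,
         ⟨c • (x.1 - u x.1), B.zsmul_mem (B.sub_mem x.2 (huB _ x.2)) c, by
            show u (c • (x.1 - u x.1)) = -(c • (x.1 - u x.1))
            rw [map_zsmul, map_sub, huu _ x.2, ← smul_neg, neg_sub]⟩)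
      invFun := fun yw => ⟨yw.1.1 + yw.2.1, B.add_mem yw.1.2.1 yw.2.2.1⟩
      left_inv := fun x => by
        apply Subtype.ext
        show c • (x.1 + u x.1) + c • (x.1 - u x.1) = x.1
        have : c • (x.1 + u x.1) + c • (x.1 - u x.1) = (2 * c) • x.1 := by module
        rw [this, h2c _ x.2]
      right_inv := fun yw => by
        obtain ⟨⟨y, hyB, hy⟩, ⟨w, hwB, hw⟩⟩ := yw
        have hy' : u y = y := hy
        have hw' : u w = -w := hw
        apply Prod.ext
        · apply Subtype.ext
          show c • ((y + w) + u (y + w)) = y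
          rw [map_add, hy', hw']
          have : c • (y + w + (y + -w)) = (2 * c) • y := by module
          rw [this, h2c _ hyB]
        · apply Subtype.ext
          show c • ((y + w) - u (y + w)) = w
          rw [map_add, hy', hw']
          have : c • (y + w - (y + -w)) = (2 * c) • w := by module
          rw [this, h2c _ hwB] }
  rw [Nat.card_congr e2, Nat.card_prod, Nat.card_congr e1]
  exact ⟨_, rfl⟩

theorem isSquare_card_of_invariant [Finite A] (hodd : Odd (Nat.card A)) :
    ∀ (n : ℕ) (S : AddSubgroup A), Nat.card S = n → (∀ x ∈ S, I x ∈ S) → (∀ x ∈ S, J x ∈ S) →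
      IsSquare n := by
  intro n
  induction n using Nat.strong_induction_on with
  | _ n ih =>
  intro S hS hSI hSJ
  by_cases h1 : n = 1
  · rw [h1]; exact ⟨1, rfl⟩
  obtain ⟨p, hp, hpn⟩ := Nat.exists_prime_and_dvd h1
  have hnodd : Odd n := by
    have hdvd : n ∣ Nat.card A := by rw [← hS]; exact AddSubgroup.card_addSubgroup_dvd_card S
    exact Odd.of_dvd_nat hodd hdvd
  have hp2 : p ≠ 2 := by
    rintro rfl
    exact (Nat.not_even_iff_odd.mpr hnodd) (even_iff_two_dvd.mpr hpn)
  let f : S →+ A := (nsmulAddMonoidHom p).comp S.subtype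
  have hf : ∀ x : S, f x = p • (x : A) := fun x => rfl
  have hcard : Nat.card f.ker * Nat.card f.range = n := by
    rw [← hS, ← AddSubgroup.index_ker f, AddSubgroup.card_mul_index]
  have hBcard : Nat.card (f.ker.map S.subtype) = Nat.card f.ker :=
    AddSubgroup.card_map_of_injective S.subtype_injective
  have hBsq : IsSquare (Nat.card (f.ker.map S.subtype)) := by
    apply isSquare_card_of_exponent hI hJ hIJ p hp hp2
    · rintro x ⟨y, hy, rfl⟩
      refine ⟨⟨I y, hSI _ y.2⟩, ?_, rfl⟩
      show f ⟨I y, hSI _ y.2⟩ = 0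
      have hy0 : p • (y : A) = 0 := hy
      rw [hf]
      show p • I (y : A) = 0
      rw [← map_nsmul, hy0, map_zero]
    · rintro x ⟨y, hy, rfl⟩
      refine ⟨⟨J y, hSJ _ y.2⟩, ?_, rfl⟩
      show f ⟨J y, hSJ _ y.2⟩ = 0
      have hy0 : p • (y : A) = 0 := hy
      rw [hf]
      show p • J (y : A) = 0
      rw [← map_nsmul, hy0, map_zero]
    · rintro x ⟨y, hy, rfl⟩
      exact hy
  have hker_ne : Nat.card f.ker ≠ 1 := by
    intro hk
    have : Fact p.Prime := ⟨hp⟩
    have hpS : p ∣ Nat.card S := by rw [hS]; exact hpn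
    obtain ⟨x, hx⟩ := exists_prime_addOrderOf_dvd_card' p hpS
    have hxk : x ∈ f.ker := by
      show f x = 0
      rw [hf]
      have := addOrderOf_nsmul_eq_zero x
      rw [hx] at this
      have h2 : ((p • x : S) : A) = 0 := by rw [this]; rfl
      simpa using h2
    have hsub : Subsingleton f.ker := (Nat.card_eq_one_iff_unique.mp hk).1
    have : (⟨x, hxk⟩ : f.ker) = 0 := Subsingleton.elim _ _
    have hx0 : x = 0 := congrArg Subtype.val this
    rw [hx0, addOrderOf_zero] at hx
    exact hp.one_lt.ne hx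
  have hn0 : 0 < n := by rw [← hS]; exact Nat.card_pos
  have hkpos : 0 < Nat.card f.ker := Nat.card_pos
  have hClt : Nat.card f.range < n := by
    rw [← hcard]
    have : 2 ≤ Nat.card f.ker := by omega
    have hrpos : 0 < Nat.card f.range := Nat.card_pos
    nlinarith
  have hCsq : IsSquare (Nat.card f.range) := by
    apply ih _ hClt f.range rfl
    · rintro x ⟨y, rfl⟩
      refine ⟨⟨I y, hSI _ y.2⟩, ?_⟩
      rw [hf, hf]
      show p • I (y : A) = I (p • (y : A))
      rw [map_nsmul]
    · rintro x ⟨y, rfl⟩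
      refine ⟨⟨J y, hSJ _ y.2⟩, ?_⟩
      rw [hf, hf]
      show p • J (y : A) = J (p • (y : A))
      rw [map_nsmul]
  rw [← hcard, ← hBcard]
  exact hBsq.mul hCsq

theorem isSquare_card [Finite A] (hodd : Odd (Nat.card A)) : IsSquare (Nat.card A) := by
  have := isSquare_card_of_invariant hI hJ hIJ hodd (Nat.card A) ⊤ AddSubgroup.card_top
    (fun _ _ => AddSubgroup.mem_top _) (fun _ _ => AddSubgroup.mem_top _)
  exact this

end

/-- Multiplicative version. -/
theorem isSquare_card_mul {K : Type*} [CommGroup K] [Finite K] (I J : K →* K)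
    (hI : ∀ x, I (I x) = x⁻¹) (hJ : ∀ x, J (J x) = x⁻¹) (hIJ : ∀ x, I (J x) = (J (I x))⁻¹)
    (hodd : Odd (Nat.card K)) : IsSquare (Nat.card K) := by
  have h := isSquare_card (A := Additive K) (I := MonoidHom.toAdditive I)
    (J := MonoidHom.toAdditive J)
    (fun x => congrArg Additive.ofMul (hI x.toMul))
    (fun x => congrArg Additive.ofMul (hJ x.toMul))
    (fun x => congrArg Additive.ofMul (hIJ x.toMul))
    (by rw [Nat.card_congr Additive.toMul]; exact hodd)
  rwa [Nat.card_congr Additive.toMul] at h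

/-- Multiplicative version for a group known to be commutative. -/
theorem isSquare_card_mul' {K : Type*} [Group K] [Finite K] (hcomm : ∀ x y : K, x * y = y * x)
    (I J : K →* K)
    (hI : ∀ x, I (I x) = x⁻¹) (hJ : ∀ x, J (J x) = x⁻¹) (hIJ : ∀ x, I (J x) = (J (I x))⁻¹)
    (hodd : Odd (Nat.card K)) : IsSquare (Nat.card K) := by
  letI : CommGroup K := { (inferInstance : Group K) with mul_comm := hcomm }
  exact isSquare_card_mul I J hI hJ hIJ hodd

end Cfsg.Agent.Lib.Helper71.QuatSq
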