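import Cfsg.Agent.Lib.Helper71.RelMaxTypeN

/-!
# The case of an abelian normal subgroup of `G` inside `N`
-/

set_option autoImplicit false

namespace Cfsg.Agent.Lib.Helper71.RelMax

open Cfsg.Agent.Lib.Helper71.MaxCent

variable {G : Type*} [Group G]

theorem Hyp.data_of_abelian_normal [Finite G] {N : Subgroup G} (h : Hyp N) {L : Subgroup G}
    (hLn : L.Normal) (hLN : L ≤ N) (hL1 : L ≠ ⊥) (hLab : ∀ a ∈ L, ∀ b ∈ L, a * b = b * a) :
    Data N := by
  have hNn := h.normal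
  by_cases hs : ∃ y ∈ L, y ≠ 1 ∧ N ⊓ C y ≤ A N y
  · obtain ⟨y, hyL, hy1, hle⟩ := hs
    have hC : C y = Subgroup.centralizer (L : Set G) := by
      apply le_antisymm
      · intro m hm
        rw [Subgroup.mem_centralizer_iff]
        intro l hl
        have hl' : l ∈ N ⊓ C y :=
          Subgroup.mem_inf.mpr ⟨hLN hl, mem_C.mpr (hLab l hl y hyL)⟩
        exact ((mem_A.mp (hle hl')).2 m (mem_C.mp hm)).symm
      · intro m hm
        rw [Subgroup.mem_centralizer_iff] at hm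
        rw [mem_C]
        exact (hm y hyL).symm
    have hn : (C y).Normal := by rw [hC]; infer_instance
    exact h.data_of_normal (hLN hyL) hy1 hn
  · push Not at hs
    obtain ⟨y₀, hy₀L, hy₀1⟩ : ∃ y₀ ∈ L, y₀ ≠ 1 := by
      by_contra hcon
      push Not at hcon
      apply hL1
      rw [eq_bot_iff]
      intro l hl
      rw [Subgroup.mem_bot]; exact hcon l hl
    have hy₀N := hLN hy₀L
    obtain ⟨p, hp, hexp₀⟩ := h.exists_prime_exponent hy₀N hy₀1 (hs y₀ hy₀L hy₀1)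
    have hLp : ∀ l ∈ L, l ^ p = 1 := fun l hl =>
      hexp₀ l (Subgroup.mem_inf.mpr ⟨hLN hl, mem_C.mpr (hLab l hl y₀ hy₀L)⟩)
    have hexp : ∀ y ∈ L, y ≠ 1 → ∀ m ∈ N ⊓ C y, m ^ p = 1 := fun y hy hy1 =>
      h.exponent_eq (hLN hy) hy1 (hs y hy hy1) hp (hLp y hy)
    -- a prime `q ≠ p` dividing `|N|`
    obtain ⟨q, hq, hqp, hqd⟩ : ∃ q : ℕ, q.Prime ∧ q ≠ p ∧ q ∣ Nat.card N := by
      by_contra hcon
      push Not at hcon
      have hcard : Nat.card N = p ^ (Nat.card N).primeFactorsList.length :=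
        Nat.eq_prime_pow_of_unique_prime_dvd Nat.card_pos.ne'
          (fun {d} hd hdvd => by
            by_contra hne
            exact hcon d hd hne hdvd)
      have : Fact p.Prime := ⟨hp⟩
      have hPG : IsPGroup p N := IsPGroup.of_card hcard
      have : Nontrivial N := ⟨⟨⟨y₀, hy₀N⟩, 1, fun h0 => hy₀1 (congrArg Subtype.val h0)⟩⟩
      have := hPG.center_nontrivial
      obtain ⟨z, hz1⟩ := exists_ne (1 : Subgroup.center N)
      apply hz1
      apply Subtype.ext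
      apply Subtype.ext
      apply h.center _ (z : N).2
      intro n hn
      have := Subgroup.mem_center_iff.mp z.2 ⟨n, hn⟩
      exact congrArg Subtype.val this
    have : Fact q.Prime := ⟨hq⟩
    obtain ⟨u', hu'⟩ := exists_prime_orderOf_dvd_card' (G := N) q hqd
    obtain ⟨u, hudef⟩ : ∃ u : G, u = (u' : G) := ⟨_, rfl⟩
    have huN : u ∈ N := by rw [hudef]; exact u'.2
    have hou : orderOf u = q := by rw [hudef, Subgroup.orderOf_coe, hu']
    have hu1 : u ≠ 1 := by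
      intro h0
      rw [h0, orderOf_one] at hou
      exact hq.one_lt.ne hou
    have huq : u ^ q = 1 := by rw [← hou]; exact pow_orderOf_eq_one u
    have hLu : L ⊓ C u = ⊥ := by
      rw [eq_bot_iff]
      intro y hy
      obtain ⟨hyL, hyu⟩ := Subgroup.mem_inf.mp hy
      rw [Subgroup.mem_bot]
      by_contra hy1
      have huy : u ∈ N ⊓ C y := Subgroup.mem_inf.mpr ⟨huN, mem_C.mpr (mem_C.mp hyu).symm⟩
      have hup := hexp y hyL hy1 u huy
      have := orderOf_dvd_of_pow_eq_one hup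
      rw [hou] at this
      exact hqp ((Nat.prime_dvd_prime_iff_eq hq hp).mp this)
    have hCu := h.coatom u huN hu1
    have hCy := h.coatom y₀ hy₀N hy₀1
    have hsupLu : L ⊔ C u = ⊤ := by
      rcases hCu.le_iff.mp (le_sup_right : C u ≤ L ⊔ C u) with h1 | h1
      · exact h1
      · exfalso
        have hle : L ≤ C u := by rw [← h1]; exact le_sup_left
        have : y₀ ∈ L ⊓ C u := Subgroup.mem_inf.mpr ⟨hy₀L, hle hy₀L⟩
        rw [hLu, Subgroup.mem_bot] at this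
        exact hy₀1 this
    have hLCy : L ≤ C y₀ := fun l hl => mem_C.mpr (hLab l hl y₀ hy₀L)
    have huCy : u ∉ C y₀ := by
      intro hmem
      have : y₀ ∈ L ⊓ C u :=
        Subgroup.mem_inf.mpr ⟨hy₀L, mem_C.mpr (mem_C.mp hmem).symm⟩
      rw [hLu, Subgroup.mem_bot] at this
      exact hy₀1 this
    -- the subgroup `L ⟨u⟩ (C y₀ ∩ C u)`
    obtain ⟨Hs, hHs⟩ : ∃ Hs : Subgroup G, ∀ g : G,
        g ∈ Hs ↔ ∃ l ∈ L, ∃ i : ℤ, ∃ c ∈ C y₀ ⊓ C u, g = l * u ^ i * c := by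
      refine ⟨{ carrier := {g | ∃ l ∈ L, ∃ i : ℤ, ∃ c ∈ C y₀ ⊓ C u, g = l * u ^ i * c}
                mul_mem' := ?_
                one_mem' := ⟨1, L.one_mem, 0, 1, Subgroup.one_mem _, by simp⟩
                inv_mem' := ?_ }, fun g => Iff.rfl⟩
      · rintro _ _ ⟨l₁, hl₁, i, c₁, hc₁, rfl⟩ ⟨l₂, hl₂, j, c₂, hc₂, rfl⟩
        have hcu : c₁ * u ^ j = u ^ j * c₁ := by
          have h1 : Commute c₁ u := mem_C.mp (Subgroup.mem_inf.mp hc₁).2
          exact h1.zpow_right j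
        refine ⟨l₁ * ((u ^ i * c₁) * l₂ * (u ^ i * c₁)⁻¹), L.mul_mem hl₁ (hLn.conj_mem l₂ hl₂ _),
          i + j, c₁ * c₂, Subgroup.mul_mem _ hc₁ hc₂, ?_⟩
        calc l₁ * u ^ i * c₁ * (l₂ * u ^ j * c₂)
            = l₁ * ((u ^ i * c₁) * l₂ * (u ^ i * c₁)⁻¹) * u ^ i * (c₁ * u ^ j) * c₂ := by group
          _ = l₁ * ((u ^ i * c₁) * l₂ * (u ^ i * c₁)⁻¹) * u ^ i * (u ^ j * c₁) * c₂ := by rw [hcu]
          _ = l₁ * ((u ^ i * c₁) * l₂ * (u ^ i * c₁)⁻¹) * u ^ (i + j) * (c₁ * c₂) := by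
            rw [zpow_add]; group
      · rintro _ ⟨l, hl, i, c, hc, rfl⟩
        have hcu : c⁻¹ * u ^ (-i) = u ^ (-i) * c⁻¹ := by
          have h1 : Commute c u := mem_C.mp (Subgroup.mem_inf.mp hc).2
          exact (h1.inv_left.zpow_right (-i))
        refine ⟨(c⁻¹ * u ^ (-i)) * l⁻¹ * (c⁻¹ * u ^ (-i))⁻¹,
          hLn.conj_mem _ (L.inv_mem hl) _, -i, c⁻¹, Subgroup.inv_mem _ hc, ?_⟩
        calc (l * u ^ i * c)⁻¹ = (c⁻¹ * u ^ (-i)) * l⁻¹ * (c⁻¹ * u ^ (-i))⁻¹ * (c⁻¹ * u ^ (-i)) := by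
              rw [zpow_neg]; group
          _ = (c⁻¹ * u ^ (-i)) * l⁻¹ * (c⁻¹ * u ^ (-i))⁻¹ * (u ^ (-i) * c⁻¹) := by rw [hcu]
          _ = (c⁻¹ * u ^ (-i)) * l⁻¹ * (c⁻¹ * u ^ (-i))⁻¹ * u ^ (-i) * c⁻¹ := by group
    have hCyHs : C y₀ ≤ Hs := by
      intro g hg
      have hg' : g ∈ L ⊔ C u := by rw [hsupLu]; exact Subgroup.mem_top g
      obtain ⟨l, hl, m, hm, hlm⟩ := Subgroup.mem_sup_of_normal_left.mp hg'
      rw [hHs]
      refine ⟨l, hl, 0, m, Subgroup.mem_inf.mpr ⟨?_, hm⟩, by rw [zpow_zero, mul_one, hlm]⟩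
      have : m = l⁻¹ * g := by rw [← hlm]; group
      rw [this]
      exact Subgroup.mul_mem _ (Subgroup.inv_mem _ (hLCy hl)) hg
    have huHs : u ∈ Hs := by
      rw [hHs]
      exact ⟨1, L.one_mem, 1, 1, Subgroup.one_mem _, by simp⟩
    have hHstop : Hs = ⊤ := by
      rcases hCy.le_iff.mp hCyHs with h1 | h1
      · exact h1
      · exact absurd (h1 ▸ huHs) huCy
    have hdecomp : ∀ n ∈ N, ∃ k ∈ L, ∃ i : ℤ, n = k * u ^ i := by
      intro n hn
      have hn' : n ∈ Hs := by rw [hHstop]; exact Subgroup.mem_top n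
      obtain ⟨l, hl, i, c, hc, hnl⟩ := (hHs n).mp hn'
      refine ⟨l, hl, i, ?_⟩
      have hcN : c ∈ N := by
        have : c = (l * u ^ i)⁻¹ * n := by rw [hnl]; group
        rw [this]
        exact N.mul_mem (N.inv_mem (N.mul_mem (hLN hl) (N.zpow_mem huN i))) hn
      obtain ⟨hcy, hcu⟩ := Subgroup.mem_inf.mp hc
      have hc1 : c = 1 := by
        by_contra hc1
        have hcp : c ^ p = 1 := hexp y₀ hy₀L hy₀1 c (Subgroup.mem_inf.mpr ⟨hcN, hcy⟩)
        have hcomm : u * c = c * u := (mem_C.mp hcu).symm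
        have e := h.C_eq_of_coprime huN hcN hcomm hp hq hqp.symm hu1 hc1 huq hcp
        have hy : y₀ ∈ C c := mem_C.mpr (mem_C.mp hcy).symm
        rw [← e] at hy
        have : y₀ ∈ L ⊓ C u := Subgroup.mem_inf.mpr ⟨hy₀L, hy⟩
        rw [hLu, Subgroup.mem_bot] at this
        exact hy₀1 this
      rw [hnl, hc1, mul_one]
    have hfree : ∀ k ∈ L, k * u = u * k → k = 1 := by
      intro k hk hcomm
      have : k ∈ L ⊓ C u := Subgroup.mem_inf.mpr ⟨hk, mem_C.mpr hcomm⟩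
      rwa [hLu, Subgroup.mem_bot] at this
    exact ⟨L, p, q, u, hLN, hL1, fun n _ k hk => hLn.conj_mem k hk n, hLab, hp, hLp, huN, hq, hou,
      hdecomp, hfree⟩

end Cfsg.Agent.Lib.Helper71.RelMax
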