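import Mathlib
import Cfsg.Agent.Lib.Helper71.MaxCentCount

/-!
# Normal subgroups all of whose nonidentity elements have maximal centralizers in the big group

Setting: `N` is a normal subgroup of `G` with trivial centre such that `C_G(x)` is a maximal
subgroup of `G` for every nonidentity `x ∈ N`.  Basic lemmas: the abelian "components"
`A N x = N ∩ Z(C_G(x))`, the partition argument, the factorization `G = N * C_G(x)`.
-/

set_option autoImplicit false

namespace Cfsg.Agent.Lib.Helper71.RelMax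

open Cfsg.Agent.Lib.Helper71.MaxCent

variable {G : Type*} [Group G]

/-- The relative hypothesis. -/
structure Hyp (N : Subgroup G) : Prop where
  normal : N.Normal
  center : ∀ z ∈ N, (∀ n ∈ N, n * z = z * n) → z = 1
  coatom : ∀ x ∈ N, x ≠ 1 → IsCoatom (C x)

/-- The component of `x`: the elements of `N` centralizing all of `C_G(x)`. -/
def A (N : Subgroup G) (x : G) : Subgroup G := N ⊓ Subgroup.centralizer (C x : Set G)

theorem mem_A {N : Subgroup G} {x a : G} :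
    a ∈ A N x ↔ a ∈ N ∧ ∀ m : G, m * x = x * m → m * a = a * m := by
  unfold A
  rw [Subgroup.mem_inf, Subgroup.mem_centralizer_iff]
  constructor
  · rintro ⟨h1, h2⟩
    exact ⟨h1, fun m hm => h2 m (show m ∈ (C x : Set G) from mem_C.mpr hm)⟩
  · rintro ⟨h1, h2⟩
    exact ⟨h1, fun m hm => h2 m (mem_C.mp hm)⟩

theorem self_mem_A {N : Subgroup G} {x : G} (hx : x ∈ N) : x ∈ A N x :=
  mem_A.mpr ⟨hx, fun _ hm => hm⟩

theorem A_le (N : Subgroup G) (x : G) : A N x ≤ N := inf_le_left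

theorem A_le_C (N : Subgroup G) (x : G) : A N x ≤ C x := by
  intro a ha
  rw [mem_C]
  exact ((mem_A.mp ha).2 x rfl).symm

theorem A_comm {N : Subgroup G} {x a b : G} (ha : a ∈ A N x) (hb : b ∈ A N x) :
    a * b = b * a :=
  (mem_A.mp hb).2 a (mem_C.mp (A_le_C N x ha))

theorem A_congr (N : Subgroup G) {a b : G} (h : C a = C b) : A N a = A N b := by
  unfold A; rw [h]

theorem C_le_C_of_mem_A {N : Subgroup G} {x a : G} (ha : a ∈ A N x) : C x ≤ C a := by
  intro m hm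
  rw [mem_C] at hm ⊢
  exact (mem_A.mp ha).2 m hm

namespace Hyp

variable {N : Subgroup G}

theorem C_eq_of_le (h : Hyp N) {x a : G} (hx : x ∈ N) (hx1 : x ≠ 1) (ha : a ∈ N) (ha1 : a ≠ 1)
    (hle : C x ≤ C a) : C a = C x :=
  ((h.coatom x hx hx1).le_iff_eq (h.coatom a ha ha1).1).mp hle

theorem C_eq_of_mem_A (h : Hyp N) {x a : G} (hx : x ∈ N) (hx1 : x ≠ 1) (ha : a ∈ A N x)
    (ha1 : a ≠ 1) : C a = C x :=
  h.C_eq_of_le hx hx1 (A_le N x ha) ha1 (C_le_C_of_mem_A ha)

theorem A_eq_of_mem_A (h : Hyp N) {x a : G} (hx : x ∈ N) (hx1 : x ≠ 1) (ha : a ∈ A N x)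
    (ha1 : a ≠ 1) : A N a = A N x :=
  A_congr N (h.C_eq_of_mem_A hx hx1 ha ha1)

theorem C_pow_eq (h : Hyp N) {x : G} (hx : x ∈ N) {k : ℕ} (hk : x ^ k ≠ 1) :
    C (x ^ k) = C x := by
  have hx1 : x ≠ 1 := by
    intro h0; apply hk; rw [h0, one_pow]
  refine h.C_eq_of_le hx hx1 (N.pow_mem hx k) hk ?_
  intro m hm
  rw [mem_C] at hm ⊢
  exact ((Commute.pow_right (show Commute m x from hm) k) : _)

/-- An element of `N` not commuting with a given nonidentity element. -/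
theorem exists_not_mem_C (h : Hyp N) {x : G} (hx : x ∈ N) (hx1 : x ≠ 1) :
    ∃ n ∈ N, n ∉ C x := by
  by_contra hcon
  push Not at hcon
  exact hx1 (h.center x hx fun n hn => mem_C.mp (hcon n hn))

theorem sup_C_eq_top (h : Hyp N) {x : G} (hx : x ∈ N) (hx1 : x ≠ 1) : N ⊔ C x = ⊤ := by
  obtain ⟨n, hn, hnC⟩ := h.exists_not_mem_C hx hx1
  rcases (h.coatom x hx hx1).le_iff.mp (le_sup_right : C x ≤ N ⊔ C x) with h1 | h1
  · exact h1
  · exact absurd (h1 ▸ (le_sup_left : N ≤ N ⊔ C x) hn) hnC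

/-- `G = N * C_G(x)`. -/
theorem exists_mul (h : Hyp N) {x : G} (hx : x ∈ N) (hx1 : x ≠ 1) (g : G) :
    ∃ n ∈ N, ∃ m ∈ C x, n * m = g := by
  have := h.normal
  have hg : g ∈ N ⊔ C x := by rw [h.sup_C_eq_top hx hx1]; exact Subgroup.mem_top g
  exact Subgroup.mem_sup_of_normal_left.mp hg

/-- The partition argument: if `C_N(x)` is bigger than the component of `x`, it has prime
exponent. -/
theorem exists_prime_exponent [Finite G] (h : Hyp N) {x : G} (hx : x ∈ N) (hx1 : x ≠ 1)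
    (hbig : ¬ N ⊓ C x ≤ A N x) : ∃ p : ℕ, p.Prime ∧ ∀ m ∈ N ⊓ C x, m ^ p = 1 := by
  obtain ⟨y₀, hy₀M, hy₀A⟩ := SetLike.not_le_iff_exists.mp hbig
  have hn1 : orderOf x ≠ 1 := by rwa [Ne, orderOf_eq_one_iff]
  have hn0 : orderOf x ≠ 0 := (orderOf_pos x).ne'
  obtain ⟨p, hp⟩ : ∃ p, p = (orderOf x).minFac := ⟨_, rfl⟩
  have hpp : p.Prime := by rw [hp]; exact Nat.minFac_prime hn1
  have hpd : p ∣ orderOf x := by rw [hp]; exact Nat.minFac_dvd _
  obtain ⟨a, ha⟩ : ∃ a, a = x ^ (orderOf x / p) := ⟨_, rfl⟩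
  have hoa : orderOf a = p := by rw [ha]; exact orderOf_pow_orderOf_div hn0 hpd
  have haA : a ∈ A N x := by rw [ha]; exact Subgroup.pow_mem _ (self_mem_A hx) _
  have haN : a ∈ N := A_le N x haA
  have ha1 : a ≠ 1 := by
    intro h0
    rw [← orderOf_eq_one_iff, hoa] at h0
    exact hpp.one_lt.ne' h0
  have hap : a ^ p = 1 := by rw [← hoa]; exact pow_orderOf_eq_one a
  have hCa : C a = C x := h.C_eq_of_mem_A hx hx1 haA ha1
  have claim1 : ∀ y ∈ N ⊓ C x, y ∉ A N x → y ^ p = 1 := by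
    intro y hyM hyA
    obtain ⟨hyN, hyC⟩ := Subgroup.mem_inf.mp hyM
    by_contra hyp
    have hy1 : y ≠ 1 := fun h0 => hyA (h0 ▸ Subgroup.one_mem _)
    have hcomm : Commute a y := ((mem_A.mp haA).2 y (mem_C.mp hyC)).symm
    have hay1 : a * y ≠ 1 := by
      intro h0
      apply hyA
      have : y = a⁻¹ := eq_inv_of_mul_eq_one_right h0
      rw [this]
      exact Subgroup.inv_mem _ haA
    have hayN : a * y ∈ N := N.mul_mem haN hyN
    have hpow : (a * y) ^ p = y ^ p := by rw [hcomm.mul_pow, hap, one_mul]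
    have e1 : C (y ^ p) = C (a * y) := by
      rw [← hpow]; exact h.C_pow_eq hayN (by rw [hpow]; exact hyp)
    have e2 : C (y ^ p) = C y := h.C_pow_eq hyN hyp
    have e3 : A N (a * y) = A N y := A_congr N (e1.symm.trans e2)
    have h3 : a * y ∈ A N y := by rw [← e3]; exact self_mem_A hayN
    have h4 : a ∈ A N y := by
      have := Subgroup.mul_mem _ h3 (Subgroup.inv_mem _ (self_mem_A hyN))
      rwa [mul_inv_cancel_right] at this
    have e4 : C a = C y := h.C_eq_of_mem_A hyN hy1 h4 ha1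
    have e5 : A N y = A N x := A_congr N (e4.symm.trans hCa)
    exact hyA (by rw [← e5]; exact self_mem_A hyN)
  have claim2 : ∀ z ∈ A N x, z ^ p = 1 := by
    intro z hz
    obtain ⟨hy₀N, hy₀C⟩ := Subgroup.mem_inf.mp hy₀M
    have hzy : z * y₀ ∈ N ⊓ C x :=
      Subgroup.mul_mem _ (Subgroup.mem_inf.mpr ⟨A_le N x hz, A_le_C N x hz⟩) hy₀M
    have hzy' : z * y₀ ∉ A N x := by
      intro h0
      apply hy₀A
      have := Subgroup.mul_mem _ (Subgroup.inv_mem _ hz) h0
      rwa [inv_mul_cancel_left] at this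
    have hcomm : Commute z y₀ := ((mem_A.mp hz).2 y₀ (mem_C.mp hy₀C)).symm
    have := claim1 _ hzy hzy'
    rw [hcomm.mul_pow, claim1 y₀ hy₀M hy₀A, mul_one] at this
    exact this
  refine ⟨p, hpp, fun m hm => ?_⟩
  by_cases hmA : m ∈ A N x
  · exact claim2 m hmA
  · exact claim1 m hm hmA

/-- If `x ^ r = 1` with `r` prime and `C_N(x)` is bigger than the component, then `C_N(x)` has
exponent `r`. -/
theorem exponent_eq [Finite G] (h : Hyp N) {x : G} (hx : x ∈ N) (hx1 : x ≠ 1)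
    (hbig : ¬ N ⊓ C x ≤ A N x) {r : ℕ} (hr : r.Prime) (hxr : x ^ r = 1) :
    ∀ m ∈ N ⊓ C x, m ^ r = 1 := by
  obtain ⟨q, hq, hexpq⟩ := h.exists_prime_exponent hx hx1 hbig
  have hxq : x ^ q = 1 := hexpq x (Subgroup.mem_inf.mpr ⟨hx, self_mem_C x⟩)
  have h1 : orderOf x ∣ q := orderOf_dvd_of_pow_eq_one hxq
  have h2 : orderOf x ∣ r := orderOf_dvd_of_pow_eq_one hxr
  have h3 : orderOf x ≠ 1 := by rwa [Ne, orderOf_eq_one_iff]
  have h4 : orderOf x = q := ((Nat.dvd_prime hq).mp h1).resolve_left h3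
  have h5 : orderOf x = r := ((Nat.dvd_prime hr).mp h2).resolve_left h3
  have hqr : q = r := by rw [← h4, h5]
  rw [← hqr]; exact hexpq

/-- Commuting nonidentity elements of `N` of distinct prime orders have the same centralizer. -/
theorem C_eq_of_coprime (h : Hyp N) {u c : G} (hu : u ∈ N) (hc : c ∈ N) (hcomm : u * c = c * u)
    {p q : ℕ} (hp : p.Prime) (hq : q.Prime) (hpq : p ≠ q) (hu1 : u ≠ 1) (hc1 : c ≠ 1)
    (huq : u ^ q = 1) (hcp : c ^ p = 1) : C u = C c := by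
  have hcm : Commute u c := hcomm
  have hou : orderOf u = q :=
    ((Nat.dvd_prime hq).mp (orderOf_dvd_of_pow_eq_one huq)).resolve_left
      (by rwa [orderOf_eq_one_iff])
  have hoc : orderOf c = p :=
    ((Nat.dvd_prime hp).mp (orderOf_dvd_of_pow_eq_one hcp)).resolve_left
      (by rwa [orderOf_eq_one_iff])
  have hucN : u * c ∈ N := N.mul_mem hu hc
  have h1 : (u * c) ^ p = u ^ p := by rw [hcm.mul_pow, hcp, mul_one]
  have h2 : (u * c) ^ q = c ^ q := by rw [hcm.mul_pow, huq, one_mul]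
  have hup : u ^ p ≠ 1 := by
    intro h0
    have := orderOf_dvd_of_pow_eq_one h0
    rw [hou] at this
    exact hpq ((Nat.prime_dvd_prime_iff_eq hq hp).mp this).symm
  have hcq : c ^ q ≠ 1 := by
    intro h0
    have := orderOf_dvd_of_pow_eq_one h0
    rw [hoc] at this
    exact hpq ((Nat.prime_dvd_prime_iff_eq hp hq).mp this)
  have e1 : C (u ^ p) = C (u * c) := by
    rw [← h1]; exact h.C_pow_eq hucN (by rw [h1]; exact hup)
  have e2 : C (u ^ p) = C u := h.C_pow_eq hu hup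
  have e3 : C (c ^ q) = C (u * c) := by
    rw [← h2]; exact h.C_pow_eq hucN (by rw [h2]; exact hcq)
  have e4 : C (c ^ q) = C c := h.C_pow_eq hc hcq
  rw [← e2, e1, ← e3, e4]

end Hyp

end Cfsg.Agent.Lib.Helper71.RelMax
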