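import Mathlib
import Cfsg.Agent.Lib.Helper71.MaxCentCount

/-!
# An abstract counting lemma

A finite nontrivial group cannot have all centralizers of nonidentity elements nonabelian,
self-normalizing and of prime exponent.
-/

set_option autoImplicit false

namespace Cfsg.Agent.Lib.Helper71.RelMax

open Cfsg.Agent.Lib.Helper71.MaxCent

variable {G : Type*} [Group G]

/-- A subgroup of a finite `r`-group `Q` which is self-normalizing in `Q` is all of `Q`. -/
theorem le_of_self_normalizing [Finite G] {r : ℕ} [Fact r.Prime] {P Q : Subgroup G}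
    (hQ : IsPGroup r Q) (hPQ : P ≤ Q)
    (hself : ∀ g ∈ Q, (∀ m, m ∈ P ↔ g * m * g⁻¹ ∈ P) → g ∈ P) : Q ≤ P := by
  have hnil : Group.IsNilpotent Q := hQ.isNilpotent
  have hnc := normalizerCondition_iff_only_full_group_self_normalizing.mp
    (Group.normalizerCondition_of_isNilpotent (G := Q))
  have hnorm : Subgroup.normalizer ((P.subgroupOf Q : Subgroup Q) : Set Q) = P.subgroupOf Q := by
    apply le_antisymm
    · intro g hg
      rw [Subgroup.mem_normalizer_iff] at hg
      rw [Subgroup.mem_subgroupOf]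
      apply hself g g.2
      intro m
      constructor
      · intro hm
        have := (hg ⟨m, hPQ hm⟩).mp (by rw [Subgroup.mem_subgroupOf]; exact hm)
        rw [Subgroup.mem_subgroupOf] at this
        exact this
      · intro hm
        have hmQ : m ∈ Q := by
          have : m = (g : G)⁻¹ * ((g : G) * m * (g : G)⁻¹) * (g : G) := by group
          rw [this]
          exact Q.mul_mem (Q.mul_mem (Q.inv_mem g.2) (hPQ hm)) g.2
        have := (hg ⟨m, hmQ⟩).mpr (by rw [Subgroup.mem_subgroupOf]; exact hm)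
        rw [Subgroup.mem_subgroupOf] at this
        exact this
    · exact Subgroup.le_normalizer
  exact Subgroup.subgroupOf_eq_top.mp (hnc _ hnorm)

section Count

variable {H : Type*} [Group H] [Finite H]
  (hexp : ∀ h : H, h ≠ 1 → ∃ r : ℕ, r.Prime ∧ ∀ m ∈ C h, m ^ r = 1)
  (hself : ∀ h : H, h ≠ 1 → ∀ g : H, (∀ m, m ∈ C h ↔ g * m * g⁻¹ ∈ C h) → g ∈ C h)
  (hna : ∀ h : H, h ≠ 1 → ¬ C h ≤ Zc h)

omit [Finite H] in
include hexp in
theorem exponent_eq' {x : H} (hx : x ≠ 1) {r : ℕ} (hr : r.Prime) (hxr : x ^ r = 1) :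
    ∀ m ∈ C x, m ^ r = 1 := by
  obtain ⟨q, hq, hexpq⟩ := hexp x hx
  have hxq : x ^ q = 1 := hexpq x (self_mem_C x)
  have h1 : orderOf x ∣ q := orderOf_dvd_of_pow_eq_one hxq
  have h2 : orderOf x ∣ r := orderOf_dvd_of_pow_eq_one hxr
  have h3 : orderOf x ≠ 1 := by rwa [Ne, orderOf_eq_one_iff]
  have h4 : orderOf x = q := ((Nat.dvd_prime hq).mp h1).resolve_left h3
  have h5 : orderOf x = r := ((Nat.dvd_prime hr).mp h2).resolve_left h3
  have hqr : q = r := by rw [← h4, h5]
  rw [← hqr]; exact hexpq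

/-- The Sylow subgroup given by a self-normalizing centralizer of prime exponent. -/
noncomputable def sylowC' {x : H} (hx : x ≠ 1)
    {p : ℕ} [Fact p.Prime] (hexpx : ∀ m ∈ C x, m ^ p = 1) : Sylow p H :=
  { toSubgroup := C x
    isPGroup' := fun m => ⟨1, by
      rw [pow_one]; exact Subtype.ext (by simpa using hexpx m.1 m.2)⟩
    is_maximal' := by
      intro Q hQ hle
      exact le_antisymm (le_of_self_normalizing hQ hle (fun g _ hg => hself x hx g hg)) hle }

theorem coe_sylowC' {x : H} (hx : x ≠ 1)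
    {p : ℕ} [Fact p.Prime] (hexpx : ∀ m ∈ C x, m ^ p = 1) :
    ((sylowC' hself hx hexpx : Sylow p H) : Subgroup H) = C x := rfl

include hexp hself hna in
/-- The elements of prime order `r` number at most `|H| / r ^ 2`. -/
theorem ncard_Er_bound' (r : ℕ) (hr : r.Prime) :
    Set.ncard {h : H | h ≠ 1 ∧ h ^ r = 1} * r ^ 2 ≤ Nat.card H := by
  have : Fact r.Prime := ⟨hr⟩
  by_cases hne : ∃ h₀ : H, h₀ ≠ 1 ∧ h₀ ^ r = 1
  swap
  · have : {h : H | h ≠ 1 ∧ h ^ r = 1} = ∅ := by
      ext h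
      simp only [Set.mem_ofPred_eq, Set.mem_empty_iff_false, iff_false]
      exact fun hh => hne ⟨h, hh⟩
    rw [this, Set.ncard_empty, zero_mul]; exact Nat.zero_le _
  obtain ⟨h₀, h₀1, h₀r⟩ := hne
  have hexp₀ := exponent_eq' hexp h₀1 hr h₀r
  obtain ⟨f, hf⟩ : ∃ f : (H ⧸ C h₀) × Zc h₀ → H,
      f = fun qz => qz.1.out * (qz.2 : H) * (qz.1.out)⁻¹ := ⟨_, rfl⟩
  have hsub : {h : H | h ≠ 1 ∧ h ^ r = 1} ⊆ Set.range f := by
    rintro h ⟨hh1, hhr⟩
    have hexph := exponent_eq' hexp hh1 hr hhr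
    obtain ⟨g, hg⟩ := MulAction.exists_smul_eq H (sylowC' hself h₀1 hexp₀) (sylowC' hself hh1 hexph)
    have hmem : ∀ m : H, m ∈ C h ↔ g⁻¹ * m * g ∈ C h₀ := by
      intro m
      rw [← coe_sylowC' hself hh1 hexph, ← hg, Sylow.coe_subgroup_smul,
        Cfsg.Agent.Lib.Helper35.mem_conj_smul, coe_sylowC']
    obtain ⟨z, hz⟩ : ∃ z, z = g⁻¹ * h * g := ⟨_, rfl⟩
    have hzZ : z ∈ Zc h₀ := by
      rw [mem_Zc]
      have h1 : z ∈ C h₀ := by rw [hz]; exact (hmem h).mp (self_mem_C h)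
      refine ⟨mem_C.mp h1, fun m₀ hm₀ => ?_⟩
      have h2 : g * m₀ * g⁻¹ ∈ C h := by
        rw [hmem]
        have : g⁻¹ * (g * m₀ * g⁻¹) * g = m₀ := by group
        rw [this]; exact mem_C.mpr hm₀
      rw [mem_C] at h2
      rw [hz]
      calc m₀ * (g⁻¹ * h * g) = g⁻¹ * ((g * m₀ * g⁻¹) * h) * g := by group
        _ = g⁻¹ * (h * (g * m₀ * g⁻¹)) * g := by rw [h2]
        _ = g⁻¹ * h * g * m₀ := by group
    obtain ⟨s, hs⟩ := QuotientGroup.mk_out_eq_mul (C h₀) g
    refine ⟨((g : H ⧸ C h₀), ⟨z, hzZ⟩), ?_⟩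
    rw [hf]
    show (QuotientGroup.mk g : H ⧸ C h₀).out * z * ((QuotientGroup.mk g : H ⧸ C h₀).out)⁻¹ = h
    rw [hs]
    have hsz : (s : H) * z = z * s := (mem_Zc.mp hzZ).2 s (mem_C.mp s.2)
    calc g * ↑s * z * (g * ↑s)⁻¹ = g * (↑s * z) * (↑s : H)⁻¹ * g⁻¹ := by group
      _ = g * (z * ↑s) * (↑s : H)⁻¹ * g⁻¹ := by rw [hsz]
      _ = g * z * g⁻¹ := by group
      _ = h := by rw [hz]; group
  have h1 : Set.ncard {h : H | h ≠ 1 ∧ h ^ r = 1} ≤ Nat.card (H ⧸ C h₀) * Nat.card (Zc h₀) := by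
    calc Set.ncard {h : H | h ≠ 1 ∧ h ^ r = 1} ≤ (Set.range f).ncard :=
          Set.ncard_le_ncard hsub (Set.toFinite _)
      _ = (f '' Set.univ).ncard := by rw [Set.image_univ]
      _ ≤ (Set.univ : Set ((H ⧸ C h₀) × Zc h₀)).ncard := Set.ncard_image_le (Set.toFinite _)
      _ = Nat.card (H ⧸ C h₀) * Nat.card (Zc h₀) := by rw [Set.ncard_univ, Nat.card_prod]
  have h2 := card_Zc_mul_sq_le (hna h₀ h₀1) hr hexp₀
  calc Set.ncard {h : H | h ≠ 1 ∧ h ^ r = 1} * r ^ 2
      ≤ (Nat.card (H ⧸ C h₀) * Nat.card (Zc h₀)) * r ^ 2 := Nat.mul_le_mul_right _ h1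
    _ = (C h₀).index * (Nat.card (Zc h₀) * r ^ 2) := by
        rw [← Subgroup.index_eq_card, mul_assoc]
    _ ≤ (C h₀).index * Nat.card (C h₀) := Nat.mul_le_mul_left _ h2
    _ = Nat.card H := Subgroup.index_mul_card _

include hexp hself hna in
/-- The abstract counting contradiction. -/
theorem abstract_count [Nontrivial H] : False := by
  classical
  have : Fintype H := Fintype.ofFinite H
  have hg2 : 2 ≤ Nat.card H := Finite.one_lt_card
  refine arith_contra (Nat.card H) hg2 (fun r => Set.ncard {h : H | h ≠ 1 ∧ h ^ r = 1}) ?_ ?_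
  · intro r hr
    have hrp := Nat.prime_of_mem_primeFactors hr
    refine ⟨?_, ncard_Er_bound' hexp hself hna r hrp⟩
    have : Fact r.Prime := ⟨hrp⟩
    obtain ⟨h, hh⟩ := exists_prime_orderOf_dvd_card' r (Nat.dvd_of_mem_primeFactors hr)
    have hh1 : h ≠ 1 := by
      intro h0
      rw [h0, orderOf_one] at hh
      exact hrp.one_lt.ne hh
    have hhr : h ^ r = 1 := by rw [← hh]; exact pow_orderOf_eq_one h
    have hexph := exponent_eq' hexp hh1 hrp hhr
    have h2 : r ≠ 2 := by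
      intro h2
      rw [h2] at hexph
      exact exponent_ne_two (hna h hh1) hexph
    have := hrp.two_le
    omega
  · have hcard : Nat.card H - 1 = (Finset.univ.erase (1 : H)).card := by
      rw [Finset.card_erase_of_mem (Finset.mem_univ _), Finset.card_univ,
        Nat.card_eq_fintype_card]
    have hsub : Finset.univ.erase (1 : H) ⊆ (Nat.card H).primeFactors.biUnion
        (fun r => Finset.univ.filter (fun h : H => h ≠ 1 ∧ h ^ r = 1)) := by
      intro h hh
      have hh1 : h ≠ 1 := Finset.ne_of_mem_erase hh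
      obtain ⟨q, hq, hexpq⟩ := hexp h hh1
      have hhq : h ^ q = 1 := hexpq h (self_mem_C h)
      have hoq : orderOf h = q :=
        ((Nat.dvd_prime hq).mp (orderOf_dvd_of_pow_eq_one hhq)).resolve_left
          (by rw [orderOf_eq_one_iff]; exact hh1)
      rw [Finset.mem_biUnion]
      refine ⟨q, ?_, ?_⟩
      · rw [Nat.mem_primeFactors]
        exact ⟨hq, hoq ▸ orderOf_dvd_natCard h, Nat.card_pos.ne'⟩
      · rw [Finset.mem_filter]; exact ⟨Finset.mem_univ _, hh1, hhq⟩
    rw [hcard]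
    calc (Finset.univ.erase (1 : H)).card
        ≤ ((Nat.card H).primeFactors.biUnion
          (fun r => Finset.univ.filter (fun h : H => h ≠ 1 ∧ h ^ r = 1))).card :=
          Finset.card_le_card hsub
      _ ≤ ∑ r ∈ (Nat.card H).primeFactors,
          (Finset.univ.filter (fun h : H => h ≠ 1 ∧ h ^ r = 1)).card := Finset.card_biUnion_le
      _ = ∑ r ∈ (Nat.card H).primeFactors, Set.ncard {h : H | h ≠ 1 ∧ h ^ r = 1} := by
        apply Finset.sum_congr rfl
        intro r _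
        rw [← Set.ncard_coe_finset]
        congr 1
        ext h
        simp

end Count

end Cfsg.Agent.Lib.Helper71.RelMax
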