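import Cfsg.Agent.Lib.Helper71.RelMaxQuot

/-!
# Normal subgroups whose noncentral elements have maximal centralizers: the main theorem
-/

set_option autoImplicit false

namespace Cfsg.Agent.Lib.Helper71.RelMax

open Cfsg.Agent.Lib.Helper71.MaxCent

open scoped commutatorElement

variable {G : Type*} [Group G]

/-- The centre of `N` as a subgroup of `G`. -/
abbrev ZN (N : Subgroup G) : Subgroup G := N ⊓ Subgroup.centralizer (N : Set G)

section Final

variable (N : Subgroup G) [hNn : N.Normal]
  (h : ∀ x : G, x ∈ N → x ∉ Subgroup.centralizer (N : Set G) → IsCoatom (C x))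

include h in
theorem quot_coatom {x : G} (hx : x ∈ N)
    (hxc : (QuotientGroup.mk' (ZN N) x) ∉ Subgroup.centralizer
      ((N.map (QuotientGroup.mk' (ZN N)) : Subgroup (G ⧸ ZN N)) : Set (G ⧸ ZN N))) :
    IsCoatom (C (QuotientGroup.mk' (ZN N) x)) ∧
      (C (QuotientGroup.mk' (ZN N) x)).comap (QuotientGroup.mk' (ZN N)) = C x := by
  have hsurj := QuotientGroup.mk'_surjective (ZN N)
  have hxN : x ∉ Subgroup.centralizer (N : Set G) := by
    intro hc
    apply hxc
    rw [Subgroup.mem_centralizer_iff]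
    intro q hq
    obtain ⟨n, hn, rfl⟩ := Subgroup.mem_map.mp hq
    rw [← map_mul, ← map_mul]
    congr 1
    exact (Subgroup.mem_centralizer_iff.mp hc) n hn
  have hc := h x hx hxN
  obtain ⟨D, hD⟩ : ∃ D : Subgroup (G ⧸ ZN N), D = C ((QuotientGroup.mk' (ZN N)) x) := ⟨_, rfl⟩
  rw [← hD]
  have hDtop : D ≠ ⊤ := by
    intro h0
    apply hxc
    rw [Subgroup.mem_centralizer_iff]
    intro q _
    have hq : q ∈ D := h0 ▸ Subgroup.mem_top q
    rw [hD, mem_C] at hq
    exact hq
  have hle : C x ≤ D.comap (QuotientGroup.mk' (ZN N)) := by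
    intro m hm
    rw [mem_C] at hm
    rw [Subgroup.mem_comap, hD, mem_C, ← map_mul, ← map_mul, hm]
  have hcomapD : D.comap (QuotientGroup.mk' (ZN N)) = C x := by
    refine (hc.le_iff_eq ?_).mp hle
    intro h0
    apply hDtop
    rw [← Subgroup.map_comap_eq_self_of_surjective hsurj D, h0,
      Subgroup.map_top_of_surjective _ hsurj]
  refine ⟨⟨hDtop, fun B hB => ?_⟩, hcomapD⟩
  have hle2 : C x ≤ B.comap (QuotientGroup.mk' (ZN N)) := by
    rw [← hcomapD]; exact Subgroup.comap_mono hB.le
  rcases hc.le_iff.mp hle2 with h1 | h1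
  · rw [← Subgroup.map_comap_eq_self_of_surjective hsurj B, h1,
      Subgroup.map_top_of_surjective _ hsurj]
  · exfalso
    apply hB.ne
    rw [← Subgroup.map_comap_eq_self_of_surjective hsurj B, h1, ← hcomapD,
      Subgroup.map_comap_eq_self_of_surjective hsurj D]

include h in
theorem main [Finite G] : Concl (↥N ⧸ Subgroup.center ↥N) := by
  obtain ⟨π, hπ⟩ : ∃ π : G →* G ⧸ ZN N, π = QuotientGroup.mk' (ZN N) := ⟨_, rfl⟩
  have hπsurj : Function.Surjective π := by rw [hπ]; exact QuotientGroup.mk'_surjective _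
  have hπone : ∀ g : G, π g = 1 ↔ g ∈ ZN N := by
    intro g; rw [hπ, QuotientGroup.mk'_apply, QuotientGroup.eq_one_iff]
  obtain ⟨Nb, hNb⟩ : ∃ Nb : Subgroup (G ⧸ ZN N), Nb = N.map π := ⟨_, rfl⟩
  have hNbmem : ∀ q, q ∈ Nb ↔ ∃ n ∈ N, π n = q := by
    intro q; rw [hNb, Subgroup.mem_map]
  -- the embedding of `N / Z(N)`
  obtain ⟨ψ, hψ⟩ : ∃ ψ : N →* G ⧸ ZN N, ψ = π.comp N.subtype := ⟨_, rfl⟩
  have hψapp : ∀ n : N, ψ n = π (n : G) := by intro n; rw [hψ]; rfl
  have hψone : ∀ n : N, ψ n = 1 ↔ n ∈ Subgroup.center N := by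
    intro n
    rw [hψapp, hπone, mem_center_subtype_iff, Subgroup.mem_inf]
    exact ⟨fun hh => hh.2, fun hh => ⟨n.2, hh⟩⟩
  obtain ⟨j, hj⟩ : ∃ j : ↥N ⧸ Subgroup.center ↥N →* G ⧸ ZN N,
      ∀ n : N, j (QuotientGroup.mk n) = ψ n :=
    ⟨QuotientGroup.lift (Subgroup.center N) ψ (fun n hn => (hψone n).mpr hn),
      fun n => QuotientGroup.lift_mk _ _ n⟩
  have hjinj : Function.Injective j := by
    rw [injective_iff_map_eq_one]
    intro q hq
    obtain ⟨n, rfl⟩ := QuotientGroup.mk_surjective q
    rw [hj, hψone] at hq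
    exact (QuotientGroup.eq_one_iff n).mpr hq
  have hjrange : j.range = Nb := by
    ext g
    rw [MonoidHom.mem_range, hNbmem]
    constructor
    · rintro ⟨q, rfl⟩
      obtain ⟨n, rfl⟩ := QuotientGroup.mk_surjective q
      exact ⟨n, n.2, by rw [hj, hψapp]⟩
    · rintro ⟨n, hn, rfl⟩
      exact ⟨QuotientGroup.mk ⟨n, hn⟩, by rw [hj, hψapp]⟩
  by_cases hcase : ∀ q ∈ Nb, (∀ n ∈ Nb, n * q = q * n) → q = 1
  · -- centreless case
    by_cases hNb1 : Nb = ⊥
    · left
      have hall : ∀ q : ↥N ⧸ Subgroup.center ↥N, q = 1 := by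
        intro q
        apply hjinj
        have : j q ∈ Nb := by rw [← hjrange]; exact MonoidHom.mem_range.mpr ⟨q, rfl⟩
        rw [hNb1, Subgroup.mem_bot] at this
        rw [this, map_one]
      refine ⟨2, Nat.prime_two, ?_, fun a _ => by rw [hall a, one_pow]⟩
      rw [isMulCommutative_iff]
      intro a b
      apply Subtype.ext
      rw [Subgroup.coe_mul, Subgroup.coe_mul, hall a.1, hall b.1]
    · have hHyp : Hyp Nb :=
        { normal := by rw [hNb]; exact Subgroup.Normal.map hNn π hπsurj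
          center := hcase
          coatom := by
            intro q hq hq1
            obtain ⟨x, hx, rfl⟩ := (hNbmem q).mp hq
            have hxc : π x ∉ Subgroup.centralizer (Nb : Set (G ⧸ ZN N)) := by
              intro hc
              apply hq1
              apply hcase _ hq
              exact Subgroup.mem_centralizer_iff.mp hc
            rw [hNb, hπ] at hxc
            have := (quot_coatom N h hx hxc).1
            rw [hπ]; exact this }
      exact concl_of_Data (hHyp.data hNb1) j hjinj hjrange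
  · -- the case `Z₂(N) > Z(N)`
    push Not at hcase
    obtain ⟨q₀, hq₀N, hq₀c, hq₀1⟩ := hcase
    obtain ⟨y, hyN, rfl⟩ := (hNbmem q₀).mp hq₀N
    have hyZ : y ∉ ZN N := fun h0 => hq₀1 ((hπone y).mpr h0)
    have hyc : y ∉ Subgroup.centralizer (N : Set G) := fun h0 =>
      hyZ (Subgroup.mem_inf.mpr ⟨hyN, h0⟩)
    -- step B1
    have hB1 : ∀ a ∈ N, π a ∈ Subgroup.centralizer (Nb : Set (G ⧸ ZN N)) := by
      by_contra hcon
      push Not at hcon
      obtain ⟨a, haN, haP⟩ := hcon
      have hkey : ∀ a ∈ N, π a ∉ Subgroup.centralizer (Nb : Set (G ⧸ ZN N)) → a ∈ C y := by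
        intro a haN haP
        have haP' := haP
        rw [hNb, hπ] at haP'
        have e := (quot_coatom N h haN haP').2
        have hy' : y ∈ (C (QuotientGroup.mk' (ZN N) a)).comap (QuotientGroup.mk' (ZN N)) := by
          rw [Subgroup.mem_comap, mem_C, ← hπ]
          exact (hq₀c (π a) ((hNbmem _).mpr ⟨a, haN, rfl⟩)).symm
        rw [e, mem_C] at hy'
        rw [mem_C]; exact hy'.symm
      obtain ⟨b, hbN, hbC⟩ : ∃ b ∈ N, b ∉ C y := by
        by_contra hcon
        push Not at hcon
        apply hyc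
        rw [Subgroup.mem_centralizer_iff]
        intro n hn
        exact mem_C.mp (hcon n hn)
      have hbP : π b ∈ Subgroup.centralizer (Nb : Set (G ⧸ ZN N)) := by
        by_contra hbP
        exact hbC (hkey b hbN hbP)
      have haC : a ∈ C y := hkey a haN haP
      have habP : π (a * b) ∈ Subgroup.centralizer (Nb : Set (G ⧸ ZN N)) := by
        by_contra habP
        have := hkey (a * b) (N.mul_mem haN hbN) habP
        apply hbC
        have e : b = a⁻¹ * (a * b) := by group
        rw [e]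
        exact Subgroup.mul_mem _ (Subgroup.inv_mem _ haC) this
      apply haP
      have e : π a = π (a * b) * (π b)⁻¹ := by rw [map_mul]; group
      rw [e]
      exact Subgroup.mul_mem _ habP (Subgroup.inv_mem _ hbP)
    -- step B2
    have hc2 : ∀ a b : N, ⁅a, b⁆ ∈ Subgroup.center N := by
      intro a b
      rw [← hψone, map_commutatorElement, commutatorElement_eq_one_iff_mul_comm, hψapp, hψapp]
      have := Subgroup.mem_centralizer_iff.mp (hB1 b b.2) (π a) ((hNbmem _).mpr ⟨a, a.2, rfl⟩)
      exact this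
    -- step B3, B4
    have hy0 : (⟨y, hyN⟩ : N) ∉ Subgroup.center N := by
      intro h0
      exact hyc (mem_center_subtype_iff.mp h0)
    obtain ⟨hcomm, p, hp, hexp⟩ := elementary_abelian_quotient' hc2
      (fun x hx => exists_prime_pow_mem_center_rel hNn h hc2 hx) hy0
    left
    refine ⟨p, hp, ?_, fun a _ => hexp a⟩
    rw [isMulCommutative_iff]
    intro a b
    exact Subtype.ext (hcomm a b)

end Final

end Cfsg.Agent.Lib.Helper71.RelMax
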