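import Mathlib
import Cfsg.Prelude.Def_Solvable
import Cfsg.Prelude.Def_Transfer
import Cfsg.Agent.Lib.Helper71.RelMaxBasic

/-!
# Assembling the Frobenius conclusion

From an elementary abelian normal subgroup `K` and an element `u` of prime order acting
fixed-point-freely on `K` with `N = K ⟨u⟩` we produce the Frobenius structure.
-/

set_option autoImplicit false

namespace Cfsg.Agent.Lib.Helper71.RelMax

open scoped Pointwise

/-- The conclusion: elementary abelian, or Frobenius with elementary abelian kernel and complement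
of prime order. -/
def Concl (H : Type*) [Group H] : Prop :=
  (∃ p : ℕ, p.Prime ∧ Cfsg.IsElementaryAbelian p (⊤ : Subgroup H)) ∨
  (∃ (Q K : Subgroup H) (p : ℕ), p.Prime ∧ Cfsg.IsFrobeniusComplement Q ∧ (Nat.card ↥Q).Prime ∧
      K.Normal ∧ (K : Set H) = Cfsg.frobeniusKernel Q ∧ Cfsg.IsElementaryAbelian p K)

theorem concl_of_data {H : Type*} [Group H] [Finite H] (K : Subgroup H) [hKn : K.Normal]
    (hK1 : K ≠ ⊥)
    (hKcomm : ∀ a ∈ K, ∀ b ∈ K, a * b = b * a) {p : ℕ} (hp : p.Prime) (hKexp : ∀ k ∈ K, k ^ p = 1)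
    (u : H) {q : ℕ} (hq : q.Prime) (hu : orderOf u = q)
    (hdecomp : ∀ n : H, ∃ k ∈ K, ∃ i : ℤ, n = k * u ^ i)
    (hfree : ∀ k ∈ K, k * u = u * k → k = 1) : Concl H := by
  right
  have hu1 : u ≠ 1 := by
    intro h0; rw [h0, orderOf_one] at hu; exact hq.one_lt.ne hu
  have f2 : ∀ i : ℤ, u ^ i ∈ K → u ^ i = 1 := fun i hi => hfree _ hi (Commute.zpow_self u i)
  have f3 : ∀ i : ℤ, u ^ i ≠ 1 → ∀ k ∈ K, k * u ^ i = u ^ i * k → k = 1 := by
    intro i hi k hk hcomm
    have : Fact q.Prime := ⟨hq⟩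
    have hcard : Nat.card (Subgroup.zpowers u) = q := by rw [Nat.card_zpowers, hu]
    have hg : (⟨u ^ i, Subgroup.zpow_mem_zpowers u i⟩ : Subgroup.zpowers u) ≠ 1 := by
      intro h0; apply hi; exact congrArg Subtype.val h0
    have htop := zpowers_eq_top_of_prime_card hcard hg
    have hmem : (⟨u, Subgroup.mem_zpowers u⟩ : Subgroup.zpowers u) ∈
        Subgroup.zpowers (⟨u ^ i, Subgroup.zpow_mem_zpowers u i⟩ : Subgroup.zpowers u) := by
      rw [htop]; exact Subgroup.mem_top _
    obtain ⟨j, hj⟩ := Subgroup.mem_zpowers_iff.mp hmem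
    have hj' : (u ^ i) ^ j = u := by
      have := congrArg Subtype.val hj
      simpa using this
    apply hfree k hk
    have h1 : Commute k (u ^ i) := hcomm
    have h2 := h1.zpow_right j
    rw [hj'] at h2
    exact h2
  have hQF : Cfsg.IsFrobeniusComplement (Subgroup.zpowers u) := by
    refine ⟨?_, ?_, ?_⟩
    · intro h0
      have : u ∈ Subgroup.zpowers u := Subgroup.mem_zpowers u
      rw [h0, Subgroup.mem_bot] at this
      exact hu1 this
    · intro h0
      apply hK1
      rw [eq_bot_iff]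
      intro k hk
      have : k ∈ Subgroup.zpowers u := h0 ▸ Subgroup.mem_top k
      obtain ⟨i, rfl⟩ := Subgroup.mem_zpowers_iff.mp this
      rw [Subgroup.mem_bot]; exact f2 i hk
    · intro g hg
      rw [eq_bot_iff]
      intro y hy
      rw [Subgroup.mem_bot]
      by_contra hy1
      obtain ⟨hyQ, hyg⟩ := Subgroup.mem_inf.mp hy
      rw [Cfsg.Agent.Lib.Helper35.mem_conj_smul] at hyg
      obtain ⟨a, rfl⟩ := Subgroup.mem_zpowers_iff.mp hyQ
      obtain ⟨b, hb⟩ := Subgroup.mem_zpowers_iff.mp hyg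
      obtain ⟨k, hk, i, rfl⟩ := hdecomp g
      have hub : u ^ i * u ^ b * (u ^ i)⁻¹ = u ^ b := by
        rw [← zpow_add, add_comm, zpow_add, mul_inv_cancel_right]
      have e : u ^ a = k * u ^ b * k⁻¹ := by
        calc u ^ a = (k * u ^ i) * ((k * u ^ i)⁻¹ * u ^ a * (k * u ^ i)) * (k * u ^ i)⁻¹ := by
              group
          _ = (k * u ^ i) * u ^ b * (k * u ^ i)⁻¹ := by rw [hb]
          _ = k * (u ^ i * u ^ b * (u ^ i)⁻¹) * k⁻¹ := by group
          _ = k * u ^ b * k⁻¹ := by rw [hub]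
      have h1 : u ^ (a - b) ∈ K := by
        have : u ^ (a - b) = k * (u ^ b * k⁻¹ * (u ^ b)⁻¹) := by
          rw [zpow_sub, e]; group
        rw [this]
        exact K.mul_mem hk (hKn.conj_mem _ (K.inv_mem hk) _)
      have h2 := f2 _ h1
      have h3 : u ^ a = u ^ b := by
        rw [zpow_sub, mul_inv_eq_one] at h2; exact h2
      have h4 : k * u ^ b = u ^ b * k := by
        rw [h3] at e
        calc k * u ^ b = (k * u ^ b * k⁻¹) * k := by group
          _ = u ^ b * k := by rw [← e]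
      have h5 : k = 1 := f3 b (by rw [← h3]; exact hy1) k hk h4
      apply hg
      rw [h5, one_mul]
      exact Subgroup.zpow_mem_zpowers u i
  have hker : (K : Set H) = Cfsg.frobeniusKernel (Subgroup.zpowers u) := by
    ext x
    simp only [Cfsg.frobeniusKernel, SetLike.mem_coe, Set.mem_ofPred_eq]
    constructor
    · intro hx
      by_cases hx1 : x = 1
      · left; exact hx1
      · right
        intro g hxg
        rw [Cfsg.Agent.Lib.Helper35.mem_conj_smul] at hxg
        obtain ⟨a, ha⟩ := Subgroup.mem_zpowers_iff.mp hxg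
        have h0 : u ^ a ∈ K := by rw [ha]; exact hKn.conj_mem' x hx g
        have h1 := f2 a h0
        rw [ha] at h1
        apply hx1
        have : x = g * (g⁻¹ * x * g) * g⁻¹ := by group
        rw [this, h1]; group
    · rintro (hx1 | hx)
      · rw [hx1]; exact K.one_mem
      · obtain ⟨k, hk, i, rfl⟩ := hdecomp x
        by_cases hi : u ^ i = 1
        · rw [hi, mul_one]; exact hk
        · exfalso
          have hwd : ∀ c : K, (c : H) * u ^ i * (c : H)⁻¹ * (u ^ i)⁻¹ ∈ K := by
            intro c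
            have : (c : H) * u ^ i * (c : H)⁻¹ * (u ^ i)⁻¹
                = (c : H) * (u ^ i * (c : H)⁻¹ * (u ^ i)⁻¹) := by group
            rw [this]
            exact K.mul_mem c.2 (hKn.conj_mem _ (K.inv_mem c.2) _)
          obtain ⟨φ, hφ⟩ : ∃ φ : K → K, ∀ c : K,
              ((φ c : K) : H) = (c : H) * u ^ i * (c : H)⁻¹ * (u ^ i)⁻¹ :=
            ⟨fun c => ⟨_, hwd c⟩, fun c => rfl⟩
          have hinj : Function.Injective φ := by
            intro c d hcd
            have h1 : (c : H) * u ^ i * (c : H)⁻¹ * (u ^ i)⁻¹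
                = (d : H) * u ^ i * (d : H)⁻¹ * (u ^ i)⁻¹ := by
              rw [← hφ c, ← hφ d, hcd]
            have h2 : (c : H) * u ^ i * (c : H)⁻¹ = (d : H) * u ^ i * (d : H)⁻¹ :=
              mul_right_cancel h1
            have h3 : ((d : H)⁻¹ * c) * u ^ i = u ^ i * ((d : H)⁻¹ * c) := by
              calc ((d : H)⁻¹ * c) * u ^ i = (d : H)⁻¹ * ((c : H) * u ^ i * (c : H)⁻¹) * c := by
                    group
                _ = (d : H)⁻¹ * ((d : H) * u ^ i * (d : H)⁻¹) * c := by rw [h2]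
                _ = u ^ i * ((d : H)⁻¹ * c) := by group
            have h4 := f3 i hi _ (K.mul_mem (K.inv_mem d.2) c.2) h3
            apply Subtype.ext
            exact (inv_mul_eq_one.mp h4).symm
          have hsurj : Function.Surjective φ := Finite.injective_iff_surjective.mp hinj
          obtain ⟨c, hc⟩ := hsurj ⟨k, hk⟩
          have hc' : (c : H) * u ^ i * (c : H)⁻¹ * (u ^ i)⁻¹ = k := by
            rw [← hφ c, hc]
          apply hx (c : H)
          rw [Cfsg.Agent.Lib.Helper35.mem_conj_smul, ← hc']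
          have : (c : H)⁻¹ * ((c : H) * u ^ i * (c : H)⁻¹ * (u ^ i)⁻¹ * u ^ i) * (c : H) = u ^ i := by
            group
          rw [this]
          exact Subgroup.zpow_mem_zpowers u i
  refine ⟨Subgroup.zpowers u, K, p, hp, hQF, ?_, hKn, hker, ?_, hKexp⟩
  · rw [Nat.card_zpowers, hu]; exact hq
  · rw [isMulCommutative_iff]
    intro a b
    exact Subtype.ext (hKcomm a a.2 b b.2)

/-- The data from which the Frobenius conclusion for `N` is assembled. -/
def Data {G : Type*} [Group G] (N : Subgroup G) : Prop :=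
  ∃ (K : Subgroup G) (p q : ℕ) (u : G), K ≤ N ∧ K ≠ ⊥ ∧ (∀ n ∈ N, ∀ k ∈ K, n * k * n⁻¹ ∈ K) ∧
    (∀ a ∈ K, ∀ b ∈ K, a * b = b * a) ∧ p.Prime ∧ (∀ k ∈ K, k ^ p = 1) ∧ u ∈ N ∧ q.Prime ∧
    orderOf u = q ∧ (∀ n ∈ N, ∃ k ∈ K, ∃ i : ℤ, n = k * u ^ i) ∧
    (∀ k ∈ K, k * u = u * k → k = 1)

theorem concl_of_Data {G : Type*} [Group G] {N : Subgroup G} (d : Data N)
    {H : Type*} [Group H] [Finite H] (j : H →* G) (hj : Function.Injective j)
    (hrange : j.range = N) : Concl H := by
  obtain ⟨K, p, q, u, hKN, hK1, hKnorm, hKcomm, hp, hKexp, huN, hq, hu, hdecomp, hfree⟩ := d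
  have hjN : ∀ n : H, j n ∈ N := fun n => hrange ▸ (MonoidHom.mem_range.mpr ⟨n, rfl⟩)
  have hpre : ∀ g ∈ N, ∃ n : H, j n = g := fun g hg => MonoidHom.mem_range.mp (hrange ▸ hg)
  obtain ⟨u', hu'⟩ := hpre u huN
  have : (K.comap j).Normal := by
    refine ⟨fun k hk n => ?_⟩
    rw [Subgroup.mem_comap] at hk ⊢
    rw [map_mul, map_mul, map_inv]
    exact hKnorm _ (hjN n) _ hk
  refine concl_of_data (K.comap j) ?_ ?_ hp ?_ u' hq ?_ ?_ ?_
  · intro h0
    apply hK1
    rw [eq_bot_iff]
    intro k hk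
    obtain ⟨k', hk'⟩ := hpre k (hKN hk)
    have : k' ∈ K.comap j := by rw [Subgroup.mem_comap, hk']; exact hk
    rw [h0, Subgroup.mem_bot] at this
    rw [Subgroup.mem_bot, ← hk', this, map_one]
  · intro a ha b hb
    apply hj
    rw [map_mul, map_mul]
    exact hKcomm _ ha _ hb
  · intro k hk
    apply hj
    rw [map_pow, map_one]
    exact hKexp _ hk
  · rw [← hu, ← hu']
    exact (orderOf_injective j hj u').symm
  · intro n
    obtain ⟨k, hk, i, hi⟩ := hdecomp _ (hjN n)
    obtain ⟨k', hk'⟩ := hpre k (hKN hk)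
    refine ⟨k', by rw [Subgroup.mem_comap, hk']; exact hk, i, ?_⟩
    apply hj
    rw [map_mul, map_zpow, hk', hu', hi]
  · intro k hk hcomm
    apply hj
    rw [map_one]
    apply hfree _ hk
    rw [← hu', ← map_mul, ← map_mul, hcomm]

end Cfsg.Agent.Lib.Helper71.RelMax
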