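import Cfsg.Agent.Lib.Helper71.RelMaxFrob
import Cfsg.Agent.Lib.Helper71.RelMaxCount
import Cfsg.Agent.S0035

/-!
# A minimal normal subgroup with trivial centre is impossible

If `L` is a minimal normal subgroup of `G` with trivial centre, all of whose nonidentity elements
have maximal centralizers in `G`, we get a contradiction (Frobenius' theorem plus counting).
-/

set_option autoImplicit false
set_option linter.unusedSectionVars false

namespace Cfsg.Agent.Lib.Helper71.RelMax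

open Cfsg.Agent.Lib.Helper71.MaxCent

open scoped Pointwise

variable {G : Type*} [Group G]

theorem conj_mem_C_iff (g m b : G) : g * m * g⁻¹ ∈ C (g * b * g⁻¹) ↔ m ∈ C b := by
  rw [mem_C, mem_C]
  constructor
  · intro h
    have h1 : g * (m * b) * g⁻¹ = g * (b * m) * g⁻¹ := by
      calc g * (m * b) * g⁻¹ = (g * m * g⁻¹) * (g * b * g⁻¹) := by group
        _ = (g * b * g⁻¹) * (g * m * g⁻¹) := h
        _ = g * (b * m) * g⁻¹ := by group
    exact mul_left_cancel (mul_right_cancel h1)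
  · intro h
    calc (g * m * g⁻¹) * (g * b * g⁻¹) = g * (m * b) * g⁻¹ := by group
      _ = g * (b * m) * g⁻¹ := by rw [h]
      _ = (g * b * g⁻¹) * (g * m * g⁻¹) := by group

/-- `C_G(x)` normalizes `L ∩ C_G(x)` when `L` is normal. -/
theorem conj_mem_CL_iff {L : Subgroup G} (hLn : L.Normal) {x c : G} (hc : c ∈ C x) (m : G) :
    m ∈ L ⊓ C x ↔ c * m * c⁻¹ ∈ L ⊓ C x := by
  constructor
  · intro hm
    obtain ⟨hmL, hmC⟩ := Subgroup.mem_inf.mp hm
    exact Subgroup.mem_inf.mpr ⟨hLn.conj_mem m hmL c,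
      (C x).mul_mem ((C x).mul_mem hc hmC) ((C x).inv_mem hc)⟩
  · intro hm
    obtain ⟨hmL, hmC⟩ := Subgroup.mem_inf.mp hm
    have e : m = c⁻¹ * (c * m * c⁻¹) * c := by group
    rw [e]
    refine Subgroup.mem_inf.mpr ⟨?_, (C x).mul_mem ((C x).mul_mem ((C x).inv_mem hc) hmC) hc⟩
    have := hLn.conj_mem _ hmL c⁻¹
    rwa [inv_inv] at this

section Minimal

variable [Finite G] {L : Subgroup G} (h : Hyp L)
  (hmin : ∀ X : Subgroup G, X.Normal → X ≤ L → X = ⊥ ∨ X = L)

include h hmin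

theorem not_normal_C {x : G} (hx : x ∈ L) (hx1 : x ≠ 1) : ¬ (C x).Normal := by
  intro hn
  have := h.normal
  have hAn : (A L x).Normal := by unfold A; infer_instance
  have hA1 : A L x ≠ ⊥ := by
    intro h0
    have := self_mem_A (N := L) hx
    rw [h0, Subgroup.mem_bot] at this
    exact hx1 this
  rcases hmin _ hAn (A_le L x) with h0 | h0
  · exact hA1 h0
  · apply hx1
    apply h.center x hx
    intro n hn'
    have : n ∈ A L x := by rw [h0]; exact hn'
    exact A_comm this (self_mem_A hx)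

theorem normalizer_C {x : G} (hx : x ∈ L) (hx1 : x ≠ 1) {g : G}
    (hg : ∀ m, m ∈ C x ↔ g * m * g⁻¹ ∈ C x) : g ∈ C x := by
  have hc := h.coatom x hx hx1
  rcases hc.le_iff.mp (Subgroup.le_normalizer : C x ≤ Subgroup.normalizer (C x : Set G))
    with h1 | h1
  · exact absurd (Subgroup.normalizer_eq_top_iff.mp h1) (not_normal_C h hmin hx hx1)
  · rw [← h1, Subgroup.mem_normalizer_iff]; exact hg

theorem mem_C_of_conj {x a b g : G} (hx : x ∈ L) (hx1 : x ≠ 1) (ha : a ∈ A L x)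
    (hb : b ∈ A L x) (ha1 : a ≠ 1) (hab : g * b * g⁻¹ = a) : g ∈ C x := by
  have hb1 : b ≠ 1 := by
    intro h0; apply ha1; rw [← hab, h0]; group
  have ea := h.C_eq_of_mem_A hx hx1 ha ha1
  have eb := h.C_eq_of_mem_A hx hx1 hb hb1
  apply normalizer_C h hmin hx hx1
  intro m
  have := conj_mem_C_iff g m b
  rw [hab, ea, eb] at this
  exact this.symm

theorem normalizer_CL {x : G} (hx : x ∈ L) (hx1 : x ≠ 1) {g : G}
    (hg : ∀ m, m ∈ L ⊓ C x ↔ g * m * g⁻¹ ∈ L ⊓ C x) : g ∈ C x := by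
  have hLn := h.normal
  have hc := h.coatom x hx hx1
  have hle : C x ≤ Subgroup.normalizer ((L ⊓ C x : Subgroup G) : Set G) := by
    intro c hcx
    rw [Subgroup.mem_normalizer_iff]
    exact conj_mem_CL_iff hLn hcx
  rcases hc.le_iff.mp hle with h1 | h1
  · exfalso
    have hPn : (L ⊓ C x).Normal := Subgroup.normalizer_eq_top_iff.mp h1
    have hP1 : L ⊓ C x ≠ ⊥ := by
      intro h0
      have : x ∈ L ⊓ C x := Subgroup.mem_inf.mpr ⟨hx, self_mem_C x⟩
      rw [h0, Subgroup.mem_bot] at this; exact hx1 this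
    rcases hmin _ hPn inf_le_left with h0 | h0
    · exact hP1 h0
    · apply hx1
      apply h.center x hx
      intro n hn
      have : n ∈ L ⊓ C x := by rw [h0]; exact hn
      exact mem_C.mp (Subgroup.mem_inf.mp this).2
  · rw [← h1, Subgroup.mem_normalizer_iff]; exact hg

/-- The case of a component which is its own centralizer in `L`: Frobenius' theorem. -/
theorem false_of_small {x : G} (hx : x ∈ L) (hx1 : x ≠ 1) (hsmall : L ⊓ C x ≤ A L x) : False := by
  have hLn := h.normal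
  have hcent : ¬ L ≤ A L x := by
    intro hle
    apply hx1
    apply h.center x hx
    intro n hn
    exact A_comm (hle hn) (self_mem_A hx)
  obtain ⟨Hc, hHc⟩ : ∃ Hc : Subgroup L, Hc = (A L x).subgroupOf L := ⟨_, rfl⟩
  have hmemHc : ∀ l : L, l ∈ Hc ↔ (l : G) ∈ A L x := by
    intro l; rw [hHc, Subgroup.mem_subgroupOf]
  have hF : Cfsg.IsFrobeniusComplement Hc := by
    refine ⟨?_, ?_, ?_⟩
    · intro h0
      have : (⟨x, hx⟩ : L) ∈ Hc := (hmemHc _).mpr (self_mem_A hx)
      rw [h0, Subgroup.mem_bot] at this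
      exact hx1 (congrArg Subtype.val this)
    · intro h0
      apply hcent
      intro l hl
      have : (⟨l, hl⟩ : L) ∈ Hc := h0 ▸ Subgroup.mem_top _
      exact (hmemHc _).mp this
    · intro l hl
      rw [eq_bot_iff]
      intro y hy
      rw [Subgroup.mem_bot]
      by_contra hy1
      obtain ⟨hyH, hyl⟩ := Subgroup.mem_inf.mp hy
      rw [Cfsg.Agent.Lib.Helper35.mem_conj_smul, hmemHc] at hyl
      rw [hmemHc] at hyH
      apply hl
      rw [hmemHc]
      apply hsmall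
      refine Subgroup.mem_inf.mpr ⟨l.2, ?_⟩
      have hy1' : (y : G) ≠ 1 := fun h0 => hy1 (Subtype.ext h0)
      refine mem_C_of_conj h hmin hx hx1 hyH hyl hy1' ?_
      simp only [Subgroup.coe_mul, Subgroup.coe_inv]
      group
  obtain ⟨K₀, hK₀set, hK₀n, hcompl⟩ := Cfsg.Agent.S0035.result Hc hF
  have hmemK₀ : ∀ k : L, k ∈ K₀ ↔ (k = 1 ∨ ∀ l : L, k ∉ MulAut.conj l • Hc) := by
    intro k; rw [← SetLike.mem_coe, hK₀set]; rfl
  have hKn : (K₀.map L.subtype).Normal := by
    refine ⟨fun k hk g => ?_⟩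
    obtain ⟨k₀, hk₀, rfl⟩ := Subgroup.mem_map.mp hk
    have hkL : g * (k₀ : G) * g⁻¹ ∈ L := hLn.conj_mem _ k₀.2 g
    refine Subgroup.mem_map.mpr ⟨⟨_, hkL⟩, ?_, rfl⟩
    rw [hmemK₀]
    by_cases hk1 : k₀ = 1
    · left
      apply Subtype.ext
      simp [hk1]
    · right
      intro l hmem
      rw [Cfsg.Agent.Lib.Helper35.mem_conj_smul, hmemHc] at hmem
      obtain ⟨n, hn, m, hm, hnm⟩ := h.exists_mul hx hx1 (g⁻¹ * (l : G))
      rcases (hmemK₀ k₀).mp hk₀ with h1 | h1
      · exact hk1 h1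
      · apply h1 ⟨n, hn⟩
        rw [Cfsg.Agent.Lib.Helper35.mem_conj_smul, hmemHc]
        have e : ((⟨n, hn⟩⁻¹ * k₀ * ⟨n, hn⟩ : L) : G)
            = m * ((l⁻¹ * ⟨g * (k₀ : G) * g⁻¹, hkL⟩ * l : L) : G) * m⁻¹ := by
          simp only [Subgroup.coe_mul, Subgroup.coe_inv]
          have e1 : (l : G) = g * (n * m) := by rw [hnm]; group
          rw [e1]; group
        rw [e]
        have hcomm := (mem_A.mp hmem).2 m (mem_C.mp hm)
        rw [hcomm, mul_inv_cancel_right]
        exact hmem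
  rcases hmin _ hKn (Subgroup.map_subtype_le K₀) with h0 | h0
  · have hK₀ : K₀ = ⊥ := (Subgroup.map_eq_bot_iff_of_injective _ L.subtype_injective).mp h0
    rw [hK₀, Subgroup.isComplement'_bot_left] at hcompl
    exact hF.2.1 hcompl
  · have hK₀ : K₀ = ⊤ := by
      rw [eq_top_iff]
      intro l _
      have : (l : G) ∈ K₀.map L.subtype := by rw [h0]; exact l.2
      obtain ⟨k₀, hk₀, hkl⟩ := Subgroup.mem_map.mp this
      have : k₀ = l := Subtype.ext hkl
      rw [← this]; exact hk₀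
    rw [hK₀, Subgroup.isComplement'_top_left] at hcompl
    exact hF.1 hcompl

/-- The case where every centralizer in `L` is bigger than its component: counting. -/
theorem false_of_big (hL1 : L ≠ ⊥) (hbig : ∀ x ∈ L, x ≠ 1 → ¬ L ⊓ C x ≤ A L x) : False := by
  have hLn := h.normal
  have hCsub : ∀ (m k : L), m ∈ C k ↔ (m : G) ∈ C (k : G) := by
    intro m k
    rw [mem_C, mem_C, Subtype.ext_iff, Subgroup.coe_mul, Subgroup.coe_mul]
  have : Nontrivial L := (Subgroup.nontrivial_iff_ne_bot L).mpr hL1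
  refine abstract_count (H := L) ?_ ?_ ?_
  · intro k hk
    have hk1 : (k : G) ≠ 1 := fun h0 => hk (Subtype.ext h0)
    obtain ⟨r, hr, hexp⟩ := h.exists_prime_exponent k.2 hk1 (hbig _ k.2 hk1)
    refine ⟨r, hr, fun m hm => ?_⟩
    apply Subtype.ext
    rw [Subgroup.coe_pow]
    exact hexp m (Subgroup.mem_inf.mpr ⟨m.2, (hCsub m k).mp hm⟩)
  · intro k hk g hg
    have hk1 : (k : G) ≠ 1 := fun h0 => hk (Subtype.ext h0)
    rw [hCsub]
    apply normalizer_CL h hmin k.2 hk1
    intro m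
    constructor
    · intro hm
      obtain ⟨hmL, hmC⟩ := Subgroup.mem_inf.mp hm
      have := (hg ⟨m, hmL⟩).mp ((hCsub _ _).mpr hmC)
      rw [hCsub] at this
      exact Subgroup.mem_inf.mpr ⟨hLn.conj_mem m hmL g, this⟩
    · intro hm
      obtain ⟨hmL, hmC⟩ := Subgroup.mem_inf.mp hm
      have hmL' : m ∈ L := by
        have e : m = (g : G)⁻¹ * ((g : G) * m * (g : G)⁻¹) * (g : G) := by group
        rw [e]; exact L.mul_mem (L.mul_mem (L.inv_mem g.2) hmL) g.2
      have := (hg ⟨m, hmL'⟩).mpr ((hCsub _ _).mpr hmC)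
      exact Subgroup.mem_inf.mpr ⟨hmL', (hCsub _ _).mp this⟩
  · intro k hk hab
    have hk1 : (k : G) ≠ 1 := fun h0 => hk (Subtype.ext h0)
    apply hbig _ k.2 hk1
    have hPab : ∀ a ∈ L ⊓ C (k : G), ∀ b ∈ L ⊓ C (k : G), a * b = b * a := by
      intro a ha b hb
      obtain ⟨haL, haC⟩ := Subgroup.mem_inf.mp ha
      obtain ⟨hbL, hbC⟩ := Subgroup.mem_inf.mp hb
      have h1 : (⟨b, hbL⟩ : L) ∈ Zc k := hab ((hCsub _ _).mpr hbC)
      have h2 := (mem_Zc.mp h1).2 ⟨a, haL⟩ (mem_C.mp ((hCsub _ _).mpr haC))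
      exact congrArg Subtype.val h2
    intro y hy
    by_cases hy1 : y = 1
    · rw [hy1]; exact Subgroup.one_mem _
    obtain ⟨hyL, hyC⟩ := Subgroup.mem_inf.mp hy
    have hPPy : L ⊓ C (k : G) ≤ L ⊓ C y := by
      intro a ha
      exact Subgroup.mem_inf.mpr ⟨(Subgroup.mem_inf.mp ha).1, mem_C.mpr (hPab a ha y hy)⟩
    obtain ⟨r, hr, hexpy⟩ := h.exists_prime_exponent hyL hy1 (hbig y hyL hy1)
    have : Fact r.Prime := ⟨hr⟩
    have hPy : IsPGroup r (L ⊓ C y : Subgroup G) := fun m => ⟨1, by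
      rw [pow_one]; exact Subtype.ext (by simpa using hexpy m.1 m.2)⟩
    have hPyP : L ⊓ C y ≤ L ⊓ C (k : G) := by
      apply le_of_self_normalizing hPy hPPy
      intro g hg hnorm
      exact Subgroup.mem_inf.mpr ⟨(Subgroup.mem_inf.mp hg).1,
        normalizer_CL h hmin k.2 hk1 hnorm⟩
    have hPeq : L ⊓ C y = L ⊓ C (k : G) := le_antisymm hPyP hPPy
    have hCle : C y ≤ C (k : G) := by
      intro g hg
      apply normalizer_CL h hmin k.2 hk1
      rw [← hPeq]
      exact conj_mem_CL_iff hLn hg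
    have e : C (k : G) = C y := h.C_eq_of_le hyL hy1 k.2 hk1 hCle
    rw [A_congr L e]
    exact self_mem_A hyL

theorem false_of_minimal (hL1 : L ≠ ⊥) : False := by
  by_cases hs : ∃ x ∈ L, x ≠ 1 ∧ L ⊓ C x ≤ A L x
  · obtain ⟨x, hx, hx1, hsm⟩ := hs
    exact false_of_small h hmin hx hx1 hsm
  · push Not at hs
    exact false_of_big h hmin hL1 hs

end Minimal

end Cfsg.Agent.Lib.Helper71.RelMax
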