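import Cfsg.Agent.Lib.Helper71.RelMaxAbelian
import Cfsg.Agent.Lib.Helper71.RelMaxNonab

/-!
# The centreless case: Frobenius data for `N`
-/

set_option autoImplicit false

namespace Cfsg.Agent.Lib.Helper71.RelMax

open Cfsg.Agent.Lib.Helper71.MaxCent

variable {G : Type*} [Group G]

theorem Hyp.data [Finite G] {N : Subgroup G} (h : Hyp N) (hN1 : N ≠ ⊥) : Data N := by
  have hNn := h.normal
  obtain ⟨L, ⟨hLn, hLN, hL1⟩, hLmin⟩ :=
    WellFounded.has_min (measure (fun X : Subgroup G => Nat.card X)).wf
      {X : Subgroup G | X.Normal ∧ X ≤ N ∧ X ≠ ⊥} ⟨N, hNn, le_rfl, hN1⟩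
  have hmin : ∀ X : Subgroup G, X.Normal → X ≤ L → X = ⊥ ∨ X = L := by
    intro X hXn hXL
    by_cases hX1 : X = ⊥
    · left; exact hX1
    · right
      have := hLmin X ⟨hXn, hXL.trans hLN, hX1⟩
      exact Subgroup.eq_of_le_of_card_ge hXL (not_lt.mp this)
  by_cases hab : ∀ a ∈ L, ∀ b ∈ L, a * b = b * a
  · exact h.data_of_abelian_normal hLn hLN hL1 hab
  · exfalso
    have hZn : (L ⊓ Subgroup.centralizer (L : Set G)).Normal := by infer_instance
    have hZ : L ⊓ Subgroup.centralizer (L : Set G) = ⊥ := by
      rcases hmin _ hZn inf_le_left with h0 | h0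
      · exact h0
      · exfalso
        apply hab
        intro a ha b hb
        have hb' : b ∈ L ⊓ Subgroup.centralizer (L : Set G) := by rw [h0]; exact hb
        have := (Subgroup.mem_inf.mp hb').2
        rw [Subgroup.mem_centralizer_iff] at this
        exact this a ha
    have hL : Hyp L :=
      { normal := hLn
        center := by
          intro z hz hcomm
          have : z ∈ L ⊓ Subgroup.centralizer (L : Set G) := by
            refine Subgroup.mem_inf.mpr ⟨hz, ?_⟩
            rw [Subgroup.mem_centralizer_iff]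
            exact hcomm
          rwa [hZ, Subgroup.mem_bot] at this
        coatom := fun x hx hx1 => h.coatom x (hLN hx) hx1 }
    exact false_of_minimal hL hmin hL1

end Cfsg.Agent.Lib.Helper71.RelMax
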