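import Cfsg.Agent.Lib.Helper71.RelMaxMain
import Cfsg.Agent.Lib.Helper71.MaxCentClass2

/-!
# Reduction to the centreless case, and the case `Z₂(N) > Z(N)`
-/

set_option autoImplicit false

namespace Cfsg.Agent.Lib.Helper71.RelMax

open Cfsg.Agent.Lib.Helper71.MaxCent

open scoped commutatorElement

/-- Class two plus "a prime power of every noncentral element is central" gives an elementary
abelian central quotient. -/
theorem elementary_abelian_quotient' {G : Type*} [Group G] [Finite G]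
    (hc2 : ∀ a b : G, ⁅a, b⁆ ∈ Subgroup.center G)
    (hpow : ∀ x : G, x ∉ Subgroup.center G → ∃ p : ℕ, p.Prime ∧ x ^ p ∈ Subgroup.center G)
    {x₀ : G} (hx₀ : x₀ ∉ Subgroup.center G) :
    (∀ a b : G ⧸ Subgroup.center G, a * b = b * a) ∧
      ∃ p : ℕ, p.Prime ∧ ∀ q : G ⧸ Subgroup.center G, q ^ p = 1 := by
  have hcomm : ∀ a b : G ⧸ Subgroup.center G, a * b = b * a := by
    intro a b
    obtain ⟨a, rfl⟩ := QuotientGroup.mk'_surjective (Subgroup.center G) a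
    obtain ⟨b, rfl⟩ := QuotientGroup.mk'_surjective (Subgroup.center G) b
    rw [← map_mul, ← map_mul, QuotientGroup.mk'_apply, QuotientGroup.mk'_apply, QuotientGroup.eq]
    have : (a * b)⁻¹ * (b * a) = ⁅b⁻¹, a⁻¹⁆ := by rw [commutatorElement_def]; group
    rw [this]; exact hc2 _ _
  refine ⟨hcomm, ?_⟩
  have hprime : ∀ q : G ⧸ Subgroup.center G, q ≠ 1 → (orderOf q).Prime := by
    intro q hq
    obtain ⟨x, rfl⟩ := QuotientGroup.mk'_surjective (Subgroup.center G) q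
    have hx : x ∉ Subgroup.center G := by
      intro hx
      apply hq
      rw [QuotientGroup.mk'_apply, QuotientGroup.eq_one_iff]; exact hx
    obtain ⟨p, hp, hxp⟩ := hpow x hx
    have h1 : (QuotientGroup.mk' (Subgroup.center G) x) ^ p = 1 := by
      rw [← map_pow, QuotientGroup.mk'_apply, QuotientGroup.eq_one_iff]; exact hxp
    have h2 := orderOf_dvd_of_pow_eq_one h1
    have h3 : orderOf (QuotientGroup.mk' (Subgroup.center G) x) ≠ 1 := by
      rwa [Ne, orderOf_eq_one_iff]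
    rw [((Nat.dvd_prime hp).mp h2).resolve_left h3]
    exact hp
  have hq₀ : (QuotientGroup.mk' (Subgroup.center G) x₀) ≠ 1 := by
    intro h0
    apply hx₀
    rw [QuotientGroup.mk'_apply, QuotientGroup.eq_one_iff] at h0
    exact h0
  obtain ⟨q₀, hq₀def⟩ : ∃ q₀, q₀ = QuotientGroup.mk' (Subgroup.center G) x₀ := ⟨_, rfl⟩
  rw [← hq₀def] at hq₀
  refine ⟨orderOf q₀, hprime q₀ hq₀, ?_⟩
  intro q
  by_cases hq1 : q = 1
  · rw [hq1, one_pow]
  have hr := hprime q hq1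
  have hp := hprime q₀ hq₀
  by_cases hpr : orderOf q = orderOf q₀
  · rw [← hpr]; exact pow_orderOf_eq_one q
  · exfalso
    have hcop : Nat.Coprime (orderOf q₀) (orderOf q) :=
      (Nat.coprime_primes hp hr).mpr (Ne.symm hpr)
    have hcm : Commute q₀ q := hcomm q₀ q
    have hord := hcm.orderOf_mul_eq_mul_orderOf_of_coprime hcop
    have hne : q₀ * q ≠ 1 := by
      intro h0
      rw [h0, orderOf_one] at hord
      have := hp.two_le
      have := hr.two_le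
      nlinarith
    have := hprime _ hne
    rw [hord] at this
    exact Nat.not_prime_mul hp.one_lt.ne' hr.one_lt.ne' this

section Rel

variable {G : Type*} [Group G] {N : Subgroup G} (hNn : N.Normal)
  (h : ∀ x : G, x ∈ N → x ∉ Subgroup.centralizer (N : Set G) → IsCoatom (C x))

theorem mem_center_subtype_iff {n : N} :
    n ∈ Subgroup.center N ↔ (n : G) ∈ Subgroup.centralizer (N : Set G) := by
  rw [Subgroup.mem_center_iff, Subgroup.mem_centralizer_iff]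
  constructor
  · intro hn m hm
    exact congrArg Subtype.val (hn ⟨m, hm⟩)
  · intro hn m
    exact Subtype.ext (hn m m.2)

include hNn h in
/-- In class two, a prime power of each noncentral element of `N` is central in `N`. -/
theorem exists_prime_pow_mem_center_rel [Finite G]
    (hc2 : ∀ a b : N, ⁅a, b⁆ ∈ Subgroup.center N) {y : N} (hy : y ∉ Subgroup.center N) :
    ∃ p : ℕ, p.Prime ∧ y ^ p ∈ Subgroup.center N := by
  have hyc : (y : G) ∉ Subgroup.centralizer (N : Set G) := fun h0 =>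
    hy (mem_center_subtype_iff.mpr h0)
  have hM := h y y.2 hyc
  obtain ⟨g₀, hg₀⟩ : ∃ g₀ : N, ¬ g₀ * y = y * g₀ := by
    by_contra hcon
    push Not at hcon
    exact hy (Subgroup.mem_center_iff.mpr hcon)
  obtain ⟨z₀, hz₀⟩ : ∃ z₀, z₀ = ⁅g₀, y⁆ := ⟨_, rfl⟩
  have hz₀1 : z₀ ≠ 1 := by
    intro h0
    apply hg₀
    rw [← commutatorElement_eq_one_iff_mul_comm, ← hz₀, h0]
  have ho1 : orderOf z₀ ≠ 1 := by rwa [Ne, orderOf_eq_one_iff]
  have ho0 : orderOf z₀ ≠ 0 := (orderOf_pos z₀).ne'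
  obtain ⟨p, hp⟩ : ∃ p, p = (orderOf z₀).minFac := ⟨_, rfl⟩
  have hpp : p.Prime := by rw [hp]; exact Nat.minFac_prime ho1
  have hpd : p ∣ orderOf z₀ := by rw [hp]; exact Nat.minFac_dvd _
  obtain ⟨T, hmemT⟩ : ∃ T : Subgroup N, ∀ g : N, g ∈ T ↔ ⁅g, y⁆ ^ p = 1 := by
    refine ⟨{ carrier := {g | ⁅g, y⁆ ^ p = 1}
              mul_mem' := ?_
              one_mem' := ?_
              inv_mem' := ?_ }, fun g => Iff.rfl⟩
    · intro a b ha hb
      have ha' : ⁅a, y⁆ ^ p = 1 := ha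
      have hb' : ⁅b, y⁆ ^ p = 1 := hb
      show ⁅a * b, y⁆ ^ p = 1
      have hcm : Commute ⁅a, y⁆ ⁅b, y⁆ := Subgroup.mem_center_iff.mp (hc2 b y) ⁅a, y⁆
      rw [comm_mul_left hc2, hcm.mul_pow, ha', hb', one_mul]
    · show ⁅(1 : N), y⁆ ^ p = 1
      rw [commutatorElement_one_left, one_pow]
    · intro a ha
      have ha' : ⁅a, y⁆ ^ p = 1 := ha
      show ⁅a⁻¹, y⁆ ^ p = 1
      have h1 : ⁅a⁻¹, y⁆ * ⁅a, y⁆ = 1 := by
        rw [← comm_mul_left hc2, inv_mul_cancel, commutatorElement_one_left]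
      have h2 : ⁅a⁻¹, y⁆ = ⁅a, y⁆⁻¹ := eq_inv_of_mul_eq_one_left h1
      rw [h2, inv_pow, ha', inv_one]
  have hMT : ∀ g : N, g * y = y * g → g ∈ T := by
    intro g hg
    rw [hmemT, commutatorElement_eq_one_iff_mul_comm.mpr hg, one_pow]
  obtain ⟨g₁, hg₁⟩ : ∃ g₁, g₁ = g₀ ^ (orderOf z₀ / p) := ⟨_, rfl⟩
  have hφg₁ : ⁅g₁, y⁆ = z₀ ^ (orderOf z₀ / p) := by rw [hg₁, comm_pow_left hc2, hz₀]
  have hg₁T : g₁ ∈ T := by
    rw [hmemT, hφg₁, ← pow_mul, Nat.div_mul_cancel hpd, pow_orderOf_eq_one]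
  have hg₁M : ¬ g₁ * y = y * g₁ := by
    intro hmem
    have h1 : ⁅g₁, y⁆ = 1 := commutatorElement_eq_one_iff_mul_comm.mpr hmem
    rw [hφg₁] at h1
    have h2 := orderOf_pow_orderOf_div ho0 hpd
    rw [h1, orderOf_one] at h2
    exact hpp.one_lt.ne h2
  -- `T` is invariant under `C_G(y)`
  have hinv : ∀ m ∈ C (y : G), ∀ t : N, t ∈ T →
      (⟨m * t * m⁻¹, hNn.conj_mem t t.2 m⟩ : N) ∈ T := by
    intro m hm t ht
    rw [hmemT] at ht ⊢
    apply Subtype.ext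
    have ht' : (⁅(t : G), (y : G)⁆) ^ p = 1 := by
      have := congrArg Subtype.val ht
      exact this
    have hmy : m * (y : G) = (y : G) * m := mem_C.mp hm
    have e : ⁅m * (t : G) * m⁻¹, (y : G)⁆ = m * ⁅(t : G), (y : G)⁆ * m⁻¹ := by
      have hy' : (y : G) = m * (y : G) * m⁻¹ := by rw [hmy]; group
      conv_lhs => rw [hy']
      simp only [commutatorElement_def]; group
    show (⁅m * (t : G) * m⁻¹, (y : G)⁆) ^ p = 1
    rw [e, conj_pow, ht']; group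
  -- the subgroup `T * C_G(y)`
  obtain ⟨U, hU⟩ : ∃ U : Subgroup G, ∀ g : G, g ∈ U ↔ ∃ t ∈ T, ∃ m ∈ C (y : G), g = (t : G) * m := by
    refine ⟨{ carrier := {g | ∃ t ∈ T, ∃ m ∈ C (y : G), g = (t : G) * m}
              mul_mem' := ?_
              one_mem' := ⟨1, T.one_mem, 1, Subgroup.one_mem _, by simp⟩
              inv_mem' := ?_ }, fun g => Iff.rfl⟩
    · rintro _ _ ⟨t₁, ht₁, m₁, hm₁, rfl⟩ ⟨t₂, ht₂, m₂, hm₂, rfl⟩
      refine ⟨t₁ * ⟨m₁ * t₂ * m₁⁻¹, hNn.conj_mem t₂ t₂.2 m₁⟩, T.mul_mem ht₁ (hinv m₁ hm₁ t₂ ht₂),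
        m₁ * m₂, Subgroup.mul_mem _ hm₁ hm₂, ?_⟩
      simp only [Subgroup.coe_mul]; group
    · rintro _ ⟨t, ht, m, hm, rfl⟩
      refine ⟨⟨m⁻¹ * (t : G)⁻¹ * m⁻¹⁻¹, hNn.conj_mem _ (N.inv_mem t.2) m⁻¹⟩, ?_, m⁻¹,
        Subgroup.inv_mem _ hm, ?_⟩
      · have := hinv m⁻¹ (Subgroup.inv_mem _ hm) t⁻¹ (T.inv_mem ht)
        exact this
      · simp only; group
  have hCU : C (y : G) ≤ U := by
    intro m hm
    rw [hU]
    exact ⟨1, T.one_mem, m, hm, by simp⟩
  have hg₁U : (g₁ : G) ∈ U := by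
    rw [hU]
    exact ⟨g₁, hg₁T, 1, Subgroup.one_mem _, by simp⟩
  have hg₁C : (g₁ : G) ∉ C (y : G) := by
    intro hmem
    apply hg₁M
    exact Subtype.ext (mem_C.mp hmem)
  have hUtop : U = ⊤ := by
    rcases hM.le_iff.mp hCU with h1 | h1
    · exact h1
    · exact absurd (h1 ▸ hg₁U) hg₁C
  have hTtop : ∀ n : N, n ∈ T := by
    intro n
    have hn : (n : G) ∈ U := by rw [hUtop]; exact Subgroup.mem_top _
    obtain ⟨t, ht, m, hm, hnm⟩ := (hU _).mp hn
    have hmN : m ∈ N := by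
      have : m = (t : G)⁻¹ * n := by rw [hnm]; group
      rw [this]
      exact N.mul_mem (N.inv_mem t.2) n.2
    have hmT : (⟨m, hmN⟩ : N) ∈ T := hMT _ (Subtype.ext (mem_C.mp hm))
    have : n = t * ⟨m, hmN⟩ := Subtype.ext hnm
    rw [this]
    exact T.mul_mem ht hmT
  refine ⟨p, hpp, ?_⟩
  rw [Subgroup.mem_center_iff]
  intro g
  have hg := hTtop g
  rw [hmemT, ← comm_pow_right hc2] at hg
  exact commutatorElement_eq_one_iff_mul_comm.mp hg

end Rel

end Cfsg.Agent.Lib.Helper71.RelMax
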