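import Cfsg.Agent.Lib.Helper71.RelMaxFrob

/-!
# The case of a normal centralizer

If some `C_G(x)`, `1 ≠ x ∈ N`, is normal in `G`, the Frobenius data for `N` can be produced.
-/

set_option autoImplicit false

namespace Cfsg.Agent.Lib.Helper71.RelMax

open Cfsg.Agent.Lib.Helper71.MaxCent

variable {G : Type*} [Group G]

/-- A nontrivial normal subgroup of exponent `r` contains a nonidentity element commuting with a
given element of order dividing `r`. -/
theorem exists_fixed_of_pgroup [Finite G] {r : ℕ} (hr : r.Prime) {A : Subgroup G} (hAn : A.Normal)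
    (hA1 : A ≠ ⊥) (hAr : ∀ a ∈ A, a ^ r = 1) {u : G} (hur : u ^ r = 1) :
    ∃ a ∈ A, a ≠ 1 ∧ u * a = a * u := by
  have : Fact r.Prime := ⟨hr⟩
  let act : MulAction (Subgroup.zpowers u) A :=
    { smul := fun g a => ⟨(g : G) * a * (g : G)⁻¹, hAn.conj_mem a a.2 g⟩
      one_smul := fun a => Subtype.ext (by
        show ((1 : Subgroup.zpowers u) : G) * a * ((1 : Subgroup.zpowers u) : G)⁻¹ = a
        simp)
      mul_smul := fun g h a => Subtype.ext (by
        show ((g * h : Subgroup.zpowers u) : G) * a * ((g * h : Subgroup.zpowers u) : G)⁻¹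
          = (g : G) * ((h : G) * a * (h : G)⁻¹) * (g : G)⁻¹
        rw [Subgroup.coe_mul]; group) }
  have hsmul : ∀ (g : Subgroup.zpowers u) (a : A), ((g • a : A) : G) = (g : G) * a * (g : G)⁻¹ :=
    fun _ _ => rfl
  have hU : IsPGroup r (Subgroup.zpowers u) := by
    intro g
    refine ⟨1, ?_⟩
    rw [pow_one]
    obtain ⟨k, hk⟩ := Subgroup.mem_zpowers_iff.mp g.2
    apply Subtype.ext
    rw [Subgroup.coe_pow, ← hk, ← zpow_natCast, ← zpow_mul, mul_comm, zpow_mul, zpow_natCast, hur,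
      one_zpow]
    rfl
  have hAp : IsPGroup r A := fun a => ⟨1, by
    rw [pow_one]; exact Subtype.ext (by simpa using hAr a a.2)⟩
  have hdvd : r ∣ Nat.card A := by
    obtain ⟨n, hn⟩ := IsPGroup.iff_card.mp hAp
    have hn0 : n ≠ 0 := by
      intro h0
      rw [h0, pow_zero] at hn
      exact hA1 (Subgroup.card_eq_one.mp hn)
    rw [hn]; exact dvd_pow_self r hn0
  have hfix : (1 : A) ∈ MulAction.fixedPoints (Subgroup.zpowers u) A := by
    intro g
    apply Subtype.ext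
    rw [hsmul]
    simp
  obtain ⟨b, hb, hb1⟩ := hU.exists_fixed_point_of_prime_dvd_card_of_fixed_point A hdvd hfix
  refine ⟨b, b.2, ?_, ?_⟩
  · intro h0; apply hb1; exact Subtype.ext h0.symm
  · have h1 := hb ⟨u, Subgroup.mem_zpowers u⟩
    have h2 : u * (b : G) * u⁻¹ = b := by
      have := congrArg Subtype.val h1
      rw [hsmul] at this
      exact this
    calc u * b = (u * b * u⁻¹) * u := by group
      _ = b * u := by rw [h2]

/-- If `K` is a normal subgroup meeting a maximal subgroup `M` trivially, every nontrivial normal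
subgroup inside `K` is all of `K`. -/
theorem le_of_normal_of_inf_coatom {K M X : Subgroup G} (hM : IsCoatom M) (hKM : K ⊓ M = ⊥)
    (hXn : X.Normal) (hXK : X ≤ K) (hX1 : X ≠ ⊥) : K ≤ X := by
  have hXM : ¬ X ≤ M := by
    intro hle
    apply hX1
    rw [eq_bot_iff, ← hKM]
    exact le_inf hXK hle
  have hsup : X ⊔ M = ⊤ := by
    rcases hM.le_iff.mp (le_sup_right : M ≤ X ⊔ M) with h1 | h1
    · exact h1
    · exact absurd (h1 ▸ (le_sup_left : X ≤ X ⊔ M)) hXM
  intro k hk
  have hk' : k ∈ X ⊔ M := by rw [hsup]; exact Subgroup.mem_top k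
  obtain ⟨x', hx', m, hm, hxm⟩ := Subgroup.mem_sup_of_normal_left.mp hk'
  have hmK : m ∈ K := by
    have : m = x'⁻¹ * k := by rw [← hxm]; group
    rw [this]
    exact K.mul_mem (K.inv_mem (hXK hx')) hk
  have hm1 : m = 1 := by
    have : m ∈ K ⊓ M := Subgroup.mem_inf.mpr ⟨hmK, hm⟩
    rwa [hKM, Subgroup.mem_bot] at this
  rw [← hxm, hm1, mul_one]
  exact hx'

theorem Hyp.data_of_normal [Finite G] {N : Subgroup G} (h : Hyp N) {x : G} (hx : x ∈ N)
    (hx1 : x ≠ 1) (hn : (C x).Normal) : Data N := by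
  have hNn := h.normal
  have hM := h.coatom x hx hx1
  obtain ⟨K, hKdef⟩ : ∃ K : Subgroup G, K = N ⊓ C x := ⟨_, rfl⟩
  have hKn : K.Normal := by rw [hKdef]; infer_instance
  have hAn : (A N x).Normal := by unfold A; infer_instance
  have hKN : K ≤ N := by rw [hKdef]; exact inf_le_left
  have hKC : K ≤ C x := by rw [hKdef]; exact inf_le_right
  have hxK : x ∈ K := by rw [hKdef]; exact Subgroup.mem_inf.mpr ⟨hx, self_mem_C x⟩
  have hK1 : K ≠ ⊥ := by
    intro h0; rw [h0, Subgroup.mem_bot] at hxK; exact hx1 hxK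
  -- step 2
  have key : ∀ y ∈ N, y ∉ C x → ∀ a ∈ A N x, a ≠ 1 → y * a ≠ a * y := by
    intro y _ hyC a ha ha1 hcomm
    apply hyC
    rw [← h.C_eq_of_mem_A hx hx1 ha ha1, mem_C]
    exact hcomm
  -- step 3
  have hpow : ∀ y ∈ N, y ∉ C x → ∀ k : ℕ, y ^ k ∈ C x → y ^ k = 1 := by
    intro y hy hyC k hk
    by_contra hk1
    apply hyC
    have e := h.C_pow_eq hy hk1
    have hx' : x ∈ C (y ^ k) := by
      rw [mem_C]; exact (mem_C.mp hk).symm
    rw [e, mem_C] at hx'
    rw [mem_C]; exact hx'.symm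
  -- step 4
  obtain ⟨y₀, hy₀N, hy₀C⟩ := h.exists_not_mem_C hx hx1
  have hy₀1 : y₀ ≠ 1 := fun h0 => hy₀C (h0 ▸ Subgroup.one_mem _)
  have hn1 : orderOf y₀ ≠ 1 := by rwa [Ne, orderOf_eq_one_iff]
  have hn0 : orderOf y₀ ≠ 0 := (orderOf_pos y₀).ne'
  obtain ⟨r, hrdef⟩ : ∃ r, r = (orderOf y₀).minFac := ⟨_, rfl⟩
  have hr : r.Prime := by rw [hrdef]; exact Nat.minFac_prime hn1
  have hrd : r ∣ orderOf y₀ := by rw [hrdef]; exact Nat.minFac_dvd _
  obtain ⟨u, hudef⟩ : ∃ u, u = y₀ ^ (orderOf y₀ / r) := ⟨_, rfl⟩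
  have hou : orderOf u = r := by rw [hudef]; exact orderOf_pow_orderOf_div hn0 hrd
  have huN : u ∈ N := by rw [hudef]; exact N.pow_mem hy₀N _
  have hu1 : u ≠ 1 := by
    intro h0
    rw [← orderOf_eq_one_iff, hou] at h0
    exact hr.one_lt.ne' h0
  have hur : u ^ r = 1 := by rw [← hou]; exact pow_orderOf_eq_one u
  have huC : u ∉ C x := by
    intro hmem
    apply hu1
    rw [hudef] at hmem ⊢
    exact hpow y₀ hy₀N hy₀C _ hmem
  -- step 5
  have hfree : ∀ z ∈ K, z * u = u * z → z = 1 := by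
    intro z hzK hcomm
    by_contra hz1
    have hzN : z ∈ N := hKN hzK
    have hzC : z ∈ C x := hKC hzK
    have huz : u ∈ N ⊓ C z := Subgroup.mem_inf.mpr ⟨huN, mem_C.mpr hcomm.symm⟩
    have hAz : ∀ a ∈ A N x, a ∈ N ⊓ C z := by
      intro a ha
      refine Subgroup.mem_inf.mpr ⟨A_le N x ha, ?_⟩
      rw [mem_C]
      exact ((mem_A.mp ha).2 z (mem_C.mp hzC)).symm
    have hbig : ¬ N ⊓ C z ≤ A N z := by
      intro hle
      have h1 := hle huz
      have h2 := hle (hAz x (self_mem_A hx))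
      apply huC
      rw [mem_C]
      exact A_comm h1 h2
    obtain ⟨p, hp, hexp⟩ := h.exists_prime_exponent hzN hz1 hbig
    have hup : u ^ p = 1 := hexp u huz
    have hrp : r = p := by
      have := orderOf_dvd_of_pow_eq_one hup
      rw [hou] at this
      exact (Nat.prime_dvd_prime_iff_eq hr hp).mp this
    have hAr : ∀ a ∈ A N x, a ^ r = 1 := by
      intro a ha
      rw [hrp]; exact hexp a (hAz a ha)
    have hA1 : A N x ≠ ⊥ := by
      intro h0
      have := self_mem_A (N := N) hx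
      rw [h0, Subgroup.mem_bot] at this
      exact hx1 this
    obtain ⟨a, ha, ha1, hau⟩ := exists_fixed_of_pgroup hr hAn hA1 hAr hur
    exact key u huN huC a ha ha1 hau
  -- step 6
  have hCu := h.coatom u huN hu1
  have hKCu : K ⊓ C u = ⊥ := by
    rw [eq_bot_iff]
    intro z hz
    obtain ⟨hzK, hzu⟩ := Subgroup.mem_inf.mp hz
    rw [Subgroup.mem_bot]
    exact hfree z hzK (mem_C.mp hzu)
  -- step 7
  have hKcomm : ∀ a ∈ K, ∀ b ∈ K, a * b = b * a := by
    have hZn : (K ⊓ Subgroup.centralizer (K : Set G)).Normal := by infer_instance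
    have hZ1 : K ⊓ Subgroup.centralizer (K : Set G) ≠ ⊥ := by
      intro h0
      have : x ∈ K ⊓ Subgroup.centralizer (K : Set G) := by
        refine Subgroup.mem_inf.mpr ⟨hxK, ?_⟩
        rw [Subgroup.mem_centralizer_iff]
        intro k hk
        exact mem_C.mp (hKC hk)
      rw [h0, Subgroup.mem_bot] at this
      exact hx1 this
    have hle := le_of_normal_of_inf_coatom hCu hKCu hZn inf_le_left hZ1
    intro a ha b hb
    have := (Subgroup.mem_inf.mp (hle hb)).2
    rw [Subgroup.mem_centralizer_iff] at this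
    exact this a ha
  -- step 8
  have hcard1 : Nat.card K ≠ 1 := by
    intro h0; exact hK1 (Subgroup.card_eq_one.mp h0)
  obtain ⟨p, hpdef⟩ : ∃ p, p = (Nat.card K).minFac := ⟨_, rfl⟩
  have hp : p.Prime := by rw [hpdef]; exact Nat.minFac_prime hcard1
  have hpd : p ∣ Nat.card K := by rw [hpdef]; exact Nat.minFac_dvd _
  have hKexp : ∀ k ∈ K, k ^ p = 1 := by
    obtain ⟨Ω, hΩ⟩ : ∃ Ω : Subgroup G, ∀ g : G, g ∈ Ω ↔ g ∈ K ∧ g ^ p = 1 := by
      refine ⟨{ carrier := {g | g ∈ K ∧ g ^ p = 1}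
                mul_mem' := ?_
                one_mem' := ⟨K.one_mem, one_pow _⟩
                inv_mem' := ?_ }, fun g => Iff.rfl⟩
      · rintro a b ⟨ha, hap⟩ ⟨hb, hbp⟩
        refine ⟨K.mul_mem ha hb, ?_⟩
        have hc : Commute a b := hKcomm a ha b hb
        rw [hc.mul_pow, hap, hbp, one_mul]
      · rintro a ⟨ha, hap⟩
        exact ⟨K.inv_mem ha, by rw [inv_pow, hap, inv_one]⟩
    have hΩn : Ω.Normal := by
      refine ⟨fun k hk g => ?_⟩
      rw [hΩ] at hk ⊢
      refine ⟨hKn.conj_mem k hk.1 g, ?_⟩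
      rw [conj_pow, hk.2]; group
    have hΩK : Ω ≤ K := fun g hg => ((hΩ g).mp hg).1
    have hΩ1 : Ω ≠ ⊥ := by
      have : Fact p.Prime := ⟨hp⟩
      obtain ⟨k, hk⟩ := exists_prime_orderOf_dvd_card' (G := K) p hpd
      intro h0
      have hmem : (k : G) ∈ Ω := by
        rw [hΩ]
        refine ⟨k.2, ?_⟩
        rw [← Subgroup.coe_pow, ← hk, pow_orderOf_eq_one]; rfl
      rw [h0, Subgroup.mem_bot] at hmem
      have : k = 1 := Subtype.ext hmem
      rw [this, orderOf_one] at hk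
      exact hp.one_lt.ne hk
    have hle := le_of_normal_of_inf_coatom hCu hKCu hΩn hΩK hΩ1
    intro k hk
    exact ((hΩ k).mp (hle hk)).2
  -- step 9
  have hdecomp : ∀ n ∈ N, ∃ k ∈ K, ∃ i : ℤ, n = k * u ^ i := by
    intro n hnN
    have hsup : C x ⊔ Subgroup.zpowers u = ⊤ := by
      rcases hM.le_iff.mp (le_sup_left : C x ≤ C x ⊔ Subgroup.zpowers u) with h1 | h1
      · exact h1
      · exfalso
        apply huC
        have : u ∈ C x ⊔ Subgroup.zpowers u :=
          (le_sup_right : Subgroup.zpowers u ≤ _) (Subgroup.mem_zpowers u)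
        rwa [h1] at this
    have hn' : n ∈ C x ⊔ Subgroup.zpowers u := by rw [hsup]; exact Subgroup.mem_top n
    obtain ⟨m, hm, z, hz, hmz⟩ := Subgroup.mem_sup_of_normal_left.mp hn'
    obtain ⟨i, rfl⟩ := Subgroup.mem_zpowers_iff.mp hz
    refine ⟨m, ?_, i, hmz.symm⟩
    rw [hKdef]
    refine Subgroup.mem_inf.mpr ⟨?_, hm⟩
    have : m = n * (u ^ i)⁻¹ := by rw [← hmz]; group
    rw [this]
    exact N.mul_mem hnN (N.inv_mem (N.zpow_mem huN i))
  exact ⟨K, p, r, u, hKN, hK1, fun n _ k hk => hKn.conj_mem k hk n, hKcomm, hp, hKexp, huN, hr,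
    hou, hdecomp, hfree⟩

end Cfsg.Agent.Lib.Helper71.RelMax
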