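import Mathlib
import Cfsg.Prelude.Def_SolvableStructure
import Cfsg.Prelude.Def_Transfer
import Cfsg.Agent.Lib.Helper9.Supersolvable6
import Cfsg.Agent.Lib.Helper9.Supersolvable5
import Cfsg.Agent.Lib.Helper9.HallSupersolvable
import Cfsg.Agent.Lib.Helper11.NPC
import Cfsg.Agent.Lib.Helper19.PNil
import Cfsg.Agent.S0072

set_option autoImplicit false

namespace Cfsg.Agent.Lib.Helper71.S3033Aux

open Cfsg Cfsg.Agent.Lib.Helper9

/-- lifting an element of prime power order through a homomorphism. -/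
theorem exists_lift_primePow {G H : Type*} [Group G] [Finite G] [Group H] (f : G →* H)
    (g0 : G) (r a : ℕ) (hr : r.Prime) (hy : orderOf (f g0) = r ^ a) :
    ∃ x : G, f x = f g0 ∧ ∃ a' : ℕ, orderOf x = r ^ a' := by
  have hord0 : orderOf g0 ≠ 0 := (orderOf_pos g0).ne'
  obtain ⟨e, m, hm, heq⟩ := Nat.exists_eq_pow_mul_and_not_dvd hord0 r hr.ne_one
  have hm0 : m ≠ 0 := by
    rintro rfl
    rw [mul_zero] at heq
    exact hord0 heq
  have hcop : m.Coprime (orderOf (f g0)) := by
    rw [hy]
    exact Nat.Coprime.pow_right a ((Nat.Prime.coprime_iff_not_dvd hr).mpr hm).symm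
  obtain ⟨k, hk⟩ := exists_pow_eq_self_of_coprime hcop
  refine ⟨(g0 ^ m) ^ k, ?_, ?_⟩
  · rw [map_pow, map_pow, hk]
  · have h1 : orderOf (g0 ^ m) = r ^ e := by
      rw [orderOf_pow_of_dvd hm0 (by rw [heq]; exact Dvd.intro_left _ rfl), heq,
        Nat.mul_div_cancel _ (Nat.pos_of_ne_zero hm0)]
    have h2 : orderOf ((g0 ^ m) ^ k) ∣ r ^ e := by
      rw [← h1]; exact orderOf_pow_dvd k
    obtain ⟨a', -, ha'⟩ := (Nat.dvd_prime_pow hr).mp h2
    exact ⟨a', ha'⟩

/-- the hypothesis of S3033. -/
def Hyp (G : Type*) [Group G] : Prop :=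
  ∀ (p q : ℕ), p.Prime → q.Prime → p ≠ q → ∀ (x g : G), (∃ a : ℕ, orderOf x = p ^ a) →
    (∃ b : ℕ, orderOf g = q ^ b) →
      ¬ q ^ 2 ∣ Nat.card ↥(Subgroup.zpowers x ⊔ Subgroup.zpowers (g * x * g⁻¹))

theorem Hyp.subgroup {G : Type*} [Group G] (h : Hyp G) (H : Subgroup G) : Hyp H := by
  intro p q hp hq hpq x g hx hg hdiv
  apply h p q hp hq hpq (x : G) (g : G) (by rw [Subgroup.orderOf_coe]; exact hx)
    (by rw [Subgroup.orderOf_coe]; exact hg)
  have h1 : (Subgroup.zpowers x ⊔ Subgroup.zpowers (g * x * g⁻¹)).map H.subtype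
      = Subgroup.zpowers (x : G) ⊔ Subgroup.zpowers ((g : G) * x * (g : G)⁻¹) := by
    rw [Subgroup.map_sup, MonoidHom.map_zpowers, MonoidHom.map_zpowers]
    simp
  rw [← h1, Subgroup.card_map_of_injective H.subtype_injective]
  exact hdiv

theorem Hyp.of_surjective {G Q : Type*} [Group G] [Finite G] [Group Q] (h : Hyp G)
    (f : G →* Q) (hf : Function.Surjective f) : Hyp Q := by
  intro p q hp hq hpq y k hy hk hdiv
  obtain ⟨a, ha⟩ := hy
  obtain ⟨b, hb⟩ := hk
  obtain ⟨x0, rfl⟩ := hf y
  obtain ⟨g0, rfl⟩ := hf k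
  obtain ⟨x, hx, hxo⟩ := exists_lift_primePow f x0 p a hp ha
  obtain ⟨g, hg, hgo⟩ := exists_lift_primePow f g0 q b hq hb
  apply h p q hp hq hpq x g hxo hgo
  have h1 : (Subgroup.zpowers x ⊔ Subgroup.zpowers (g * x * g⁻¹)).map f
      = Subgroup.zpowers (f x0) ⊔ Subgroup.zpowers (f g0 * f x0 * (f g0)⁻¹) := by
    rw [Subgroup.map_sup, MonoidHom.map_zpowers, MonoidHom.map_zpowers]
    simp [hx, hg]
  rw [← h1] at hdiv
  exact hdiv.trans (Subgroup.card_map_dvd _ f)

/-- a supersolvable group all of whose prime divisors are at least `p` has a normal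
`p`-complement. -/
theorem hasNPC_of_isSupersolvable (p : ℕ) [hp : Fact p.Prime] :
    ∀ (n : ℕ) (H : Type*) [Group H] [Finite H], Nat.card H = n → Cfsg.IsSupersolvable H →
      (∀ q : ℕ, q.Prime → q ∣ Nat.card H → p ≤ q) → Cfsg.HasNormalPComplement p H := by
  intro n
  induction n using Nat.strong_induction_on with
  | _ n ih =>
    intro H _ _ hn hss hmin
    by_cases h1 : Nat.card H ≤ 1
    · have : Subsingleton H := Finite.card_le_one_iff_subsingleton.mp h1
      apply Cfsg.Agent.Lib.Helper11.hasNPC_of_isPGroup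
      intro g
      exact ⟨0, Subsingleton.elim _ _⟩
    have h1' : 1 < Nat.card H := by omega
    obtain ⟨q, hq, hqd, hmax⟩ := exists_largest_prime_factor h1'
    have hqf : Fact q.Prime := ⟨hq⟩
    obtain ⟨S⟩ : Nonempty (Sylow q H) := inferInstance
    have hSn : (S : Subgroup H).Normal := sylow_normal_of_isSupersolvable hss q hq hqd hmax S
    by_cases hqp : q = p
    · apply Cfsg.Agent.Lib.Helper11.hasNPC_of_isPGroup
      have hcard := Nat.eq_prime_pow_of_unique_prime_dvd (n := Nat.card H) (p := p)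
        Nat.card_pos.ne' (by
          intro d hd hdd
          have h2 := hmin d hd hdd
          have h3 := hmax d hd hdd
          omega)
      exact IsPGroup.of_card hcard
    · have hScard := S.card_eq_multiplicity
      have hcop : (Nat.card (S : Subgroup H)).Coprime p := by
        rw [hScard]
        exact Nat.Coprime.pow_left _ ((Nat.coprime_primes hq hp.out).mpr hqp)
      have hSne : Nat.card (S : Subgroup H) ≠ 1 := by
        intro h
        have := S.ne_bot_of_dvd_card hqd
        exact this (Subgroup.card_eq_one.mp h)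
      have hlt : Nat.card (H ⧸ (S : Subgroup H)) < n := by
        have h2 := Subgroup.card_eq_card_quotient_mul_card_subgroup (S : Subgroup H)
        have h3 : 0 < Nat.card (S : Subgroup H) := Nat.card_pos
        have h4 : 0 < Nat.card (H ⧸ (S : Subgroup H)) := Nat.card_pos
        rw [← hn, h2]
        have h5 : 2 ≤ Nat.card (S : Subgroup H) := by omega
        calc Nat.card (H ⧸ (S : Subgroup H)) < Nat.card (H ⧸ (S : Subgroup H)) * 2 := by omega
          _ ≤ _ := Nat.mul_le_mul_left _ h5
      have hdvd : Nat.card (H ⧸ (S : Subgroup H)) ∣ Nat.card H := by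
        rw [Subgroup.card_eq_card_quotient_mul_card_subgroup (S : Subgroup H)]
        exact Dvd.intro _ rfl
      have := ih _ hlt (H ⧸ (S : Subgroup H)) rfl (isSupersolvable_quotient _ hss)
        (fun d hd hdd => hmin d hd (hdd.trans hdvd))
      exact Cfsg.Agent.Lib.Helper11.hasNPC_of_quotient (S : Subgroup H) hcop this

/-- a nontrivial group all of whose proper subgroups are supersolvable has a nontrivial
normal subgroup of prime power order. -/
theorem exists_normal_pgroup {G : Type*} [Group G] [Finite G] [Nontrivial G]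
    (hsub : ∀ H : Subgroup G, H ≠ ⊤ → Cfsg.IsSupersolvable H) :
    ∃ (q : ℕ) (P : Subgroup G), q.Prime ∧ P.Normal ∧ P ≠ ⊥ ∧ IsPGroup q P := by
  have hcard : 1 < Nat.card G := Finite.one_lt_card
  set p := (Nat.card G).minFac with hp
  have hpp : p.Prime := Nat.minFac_prime hcard.ne'
  have hpf : Fact p.Prime := ⟨hpp⟩
  have hpd : p ∣ Nat.card G := Nat.minFac_dvd _
  have hpmin : ∀ q : ℕ, q.Prime → q ∣ Nat.card G → p ≤ q :=
    fun q hq hqd => Nat.minFac_le_of_dvd hq.two_le hqd
  by_cases hex : ∃ Q : Subgroup G, IsPGroup p Q ∧ Q ≠ ⊥ ∧ Subgroup.normalizer (Q : Set G) = ⊤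
  · obtain ⟨Q, hQp, hQne, hQn⟩ := hex
    exact ⟨p, Q, hpp, Subgroup.normalizer_eq_top_iff.mp hQn, hQne, hQp⟩
  · push Not at hex
    have hnpc : Cfsg.HasNormalPComplement p G := by
      rw [Cfsg.Agent.S0072.result p]
      intro Q hQp hQne
      have hN := hex Q hQp hQne
      apply hasNPC_of_isSupersolvable p _ _ rfl (hsub _ hN)
      intro q hq hqd
      exact hpmin q hq (hqd.trans (Subgroup.card_subgroup_dvd_card _))
    obtain ⟨M, hMn, hMcop, k, hMk⟩ := Cfsg.Agent.Lib.Helper19.normal_hall_of_hnpc hnpc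
    by_cases hMb : M = ⊥
    · refine ⟨p, ⊤, hpp, inferInstance, top_ne_bot, ?_⟩
      have : Nat.card G = p ^ k := by
        rw [← Subgroup.card_mul_index M, hMk, hMb, Subgroup.card_bot, one_mul]
      have hG : IsPGroup p G := IsPGroup.of_card this
      exact hG.to_subgroup ⊤
    · have hMtop : M ≠ ⊤ := by
        intro h
        rw [h, Subgroup.card_top] at hMcop
        exact (Nat.Prime.coprime_iff_not_dvd hpp).mp hMcop.symm hpd
      have hMss := hsub M hMtop
      have hM1 : 1 < Nat.card M := by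
        rw [Finite.one_lt_card_iff_nontrivial]
        exact (Subgroup.nontrivial_iff_ne_bot M).mpr hMb
      obtain ⟨q, hq, hqd, hmax⟩ := exists_largest_prime_factor hM1
      have hqf : Fact q.Prime := ⟨hq⟩
      obtain ⟨S⟩ : Nonempty (Sylow q M) := inferInstance
      have hSn : (S : Subgroup M).Normal :=
        sylow_normal_of_isSupersolvable hMss q hq hqd hmax S
      have hSc : (S : Subgroup M).Characteristic := S.characteristic_of_normal hSn
      refine ⟨q, (S : Subgroup M).map M.subtype, hq,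
        ConjAct.normal_of_characteristic_of_normal, ?_, ?_⟩
      · intro h
        have := S.ne_bot_of_dvd_card hqd
        apply this
        exact (Subgroup.map_eq_bot_iff_of_injective _ M.subtype_injective).mp h
      · exact S.2.map M.subtype

end Cfsg.Agent.Lib.Helper71.S3033Aux
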