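import Mathlib
import Cfsg.Agent.Lib.Helper71.IrrModC
import Cfsg.Agent.Lib.Helper71.S3033Aux

set_option autoImplicit false
set_option linter.style.haveILetI false

namespace Cfsg.Agent.Lib.Helper71.S3033Aux

open Cfsg Cfsg.Agent.Lib.Helper9 Cfsg.Agent.Lib.Helper71.IrrMod

set_option maxHeartbeats 1600000 in
/-- under the hypothesis of S3033, an abelian minimal normal subgroup of exponent `p` with
supersolvable quotient has order `p`. -/
theorem card_minimal_normal {G : Type*} [Group G] [Finite G] (h : Hyp G) (p : ℕ)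
    [hp : Fact p.Prime] (N : Subgroup G) [hN : N.Normal] (hNne : N ≠ ⊥)
    (hcomm : ∀ x ∈ N, ∀ y ∈ N, x * y = y * x) (hexp : ∀ x ∈ N, x ^ p = 1)
    (hmin : ∀ N' : Subgroup G, N'.Normal → N' ≠ ⊥ → N' ≤ N → N' = N)
    (hQ : Cfsg.IsSupersolvable (G ⧸ N)) : Nat.card N = p := by
  letI : CommGroup N :=
    { (inferInstance : Group N) with mul_comm := fun a b => Subtype.ext (hcomm a a.2 b b.2) }
  have instMod : Module (ZMod p) (Additive N) := AddCommGroup.zmodModule (n := p) (fun x => by
    have : (Additive.toMul x) ^ p = 1 := Subtype.ext (by simpa using hexp _ (Additive.toMul x).2)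
    rw [← ofMul_toMul x, ← ofMul_pow, this, ofMul_one])
  have : Nontrivial N := (Subgroup.nontrivial_iff_ne_bot N).mpr hNne
  let φ : G →* (Additive N ≃ₗ[ZMod p] Additive N) :=
    { toFun := fun g => AddEquiv.toLinearEquiv (MulEquiv.toAdditive (MulAut.conjNormal g : N ≃* N))
        (fun c x => ZMod.map_smul _ c x)
      map_one' := by
        apply LinearEquiv.ext
        intro v
        show Additive.ofMul ((MulAut.conjNormal (1 : G) : N ≃* N) (Additive.toMul v)) = v
        rw [map_one]
        rfl
      map_mul' := by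
        intro a b
        apply LinearEquiv.ext
        intro v
        show Additive.ofMul ((MulAut.conjNormal (a * b) : N ≃* N) (Additive.toMul v))
          = Additive.ofMul ((MulAut.conjNormal a : N ≃* N) (Additive.toMul
            (Additive.ofMul ((MulAut.conjNormal b : N ≃* N) (Additive.toMul v)))))
        rw [map_mul]
        rfl }
  have hφ : ∀ (g : G) (v : Additive N),
      (φ g) v = Additive.ofMul (MulAut.conjNormal g (Additive.toMul v)) := fun g v => rfl
  have hφc : ∀ (g : G) (v : Additive N),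
      ((Additive.toMul ((φ g) v) : N) : G) = g * (Additive.toMul v : N) * g⁻¹ := fun g v => rfl
  have hker : N ≤ φ.rangeRestrict.ker := by
    intro n hn
    rw [MonoidHom.mem_ker]
    apply Subtype.ext
    apply LinearEquiv.ext
    intro v
    show (φ n) v = v
    apply Additive.toMul.injective
    apply Subtype.ext
    rw [hφc]
    rw [hcomm n hn _ (Additive.toMul v).2, mul_inv_cancel_right]
  have hΓss : Cfsg.IsSupersolvable φ.range :=
    isSupersolvable_of_surjective (QuotientGroup.lift N φ.rangeRestrict hker)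
      (QuotientGroup.lift_surjective_of_surjective N _ φ.rangeRestrict_surjective hker) hQ
  have hirr : ∀ W : Submodule (ZMod p) (Additive N),
      (∀ γ ∈ φ.range, ∀ w ∈ W, γ w ∈ W) → W = ⊥ ∨ W = ⊤ := by
    intro W hW
    let N' : Subgroup G :=
      { carrier := {x | ∃ hx : x ∈ N, Additive.ofMul (⟨x, hx⟩ : N) ∈ W}
        one_mem' := ⟨N.one_mem, W.zero_mem⟩
        mul_mem' := by
          rintro a b ⟨ha, ha'⟩ ⟨hb, hb'⟩
          exact ⟨N.mul_mem ha hb, W.add_mem ha' hb'⟩
        inv_mem' := by
          rintro a ⟨ha, ha'⟩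
          exact ⟨N.inv_mem ha, W.neg_mem ha'⟩ }
    have hN'n : N'.Normal := ⟨by
      rintro x ⟨hx, hx'⟩ g
      refine ⟨hN.conj_mem x hx g, ?_⟩
      exact hW (φ g) ⟨g, rfl⟩ _ hx'⟩
    have hN'le : N' ≤ N := fun x hx => hx.1
    by_cases hb : N' = ⊥
    · left
      rw [Submodule.eq_bot_iff]
      intro w hw
      have : ((Additive.toMul w : N) : G) ∈ N' := ⟨(Additive.toMul w).2, hw⟩
      rw [hb, Subgroup.mem_bot] at this
      have h2 : (Additive.toMul w : N) = 1 := Subtype.ext this
      exact Additive.toMul.injective h2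
    · right
      have := hmin N' hN'n hb hN'le
      rw [Submodule.eq_top_iff']
      intro v
      have h2 : ((Additive.toMul v : N) : G) ∈ N' := by rw [this]; exact (Additive.toMul v).2
      obtain ⟨_, h3⟩ := h2
      exact h3
  have hH : ∀ γ ∈ φ.range, ∀ r : ℕ, r.Prime → r ≠ p → (∃ a, orderOf γ = r ^ a) →
      ∀ v : Additive N, ∃ s : ZMod p, γ (v - γ v) = s • (v - γ v) := by
    rintro γ ⟨g0, rfl⟩ r hr hrp ⟨a, ha⟩ v
    obtain ⟨x, hx, a', ha'⟩ := exists_lift_primePow φ g0 r a hr ha
    rw [← hx]
    set n : N := Additive.toMul v with hn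
    have hnp : ∃ b : ℕ, orderOf (n : G) = p ^ b := by
      have : (n : G) ^ p = 1 := hexp _ n.2
      obtain ⟨b, -, hb⟩ := (Nat.dvd_prime_pow hp.out).mp
        (by rw [pow_one]; exact orderOf_dvd_of_pow_eq_one this : orderOf (n : G) ∣ p ^ 1)
      exact ⟨b, hb⟩
    have hnot := h r p hr hp.out hrp x (n : G) ⟨a', ha'⟩ hnp
    set L := Subgroup.zpowers x ⊔ Subgroup.zpowers ((n : G) * x * (n : G)⁻¹) with hL
    set c : G := (n : G) * x * (n : G)⁻¹ * x⁻¹ with hc
    have hxL : x ∈ L := le_sup_left (a := Subgroup.zpowers x) (Subgroup.mem_zpowers x)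
    have hcL : c ∈ L :=
      L.mul_mem (le_sup_right (a := Subgroup.zpowers x) (Subgroup.mem_zpowers _)) (L.inv_mem hxL)
    have hcN : c ∈ N := by
      have : c = (n : G) * (x * (n : G)⁻¹ * x⁻¹) := by rw [hc]; group
      rw [this]
      exact N.mul_mem n.2 (hN.conj_mem _ (N.inv_mem n.2) x)
    set d : G := x * c * x⁻¹ with hd
    have hdL : d ∈ L := L.mul_mem (L.mul_mem hxL hcL) (L.inv_mem hxL)
    have hdN : d ∈ N := hN.conj_mem c hcN x
    have e1 : v - (φ x) v = Additive.ofMul (⟨c, hcN⟩ : N) := by
      apply Additive.toMul.injective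
      apply Subtype.ext
      show ((n / (Additive.toMul ((φ x) v)) : N) : G) = c
      rw [Subgroup.coe_div, hφc, hc, ← hn, div_eq_mul_inv]
      group
    have e2 : (φ x) (Additive.ofMul (⟨c, hcN⟩ : N)) = Additive.ofMul (⟨d, hdN⟩ : N) := rfl
    rw [e1, e2]
    have hdc : d ∈ Subgroup.zpowers c := by
      by_contra hcon
      apply hnot
      have hc1 : c ≠ 1 := by
        intro h1
        apply hcon
        rw [hd, h1]
        simp
      have hcp : orderOf c = p := orderOf_eq_prime (hexp c hcN) hc1
      set K := Subgroup.zpowers c ⊔ Subgroup.zpowers d with hK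
      have hKL : K ≤ L := sup_le ((Subgroup.zpowers_le).mpr hcL) ((Subgroup.zpowers_le).mpr hdL)
      have hKN : K ≤ N := sup_le ((Subgroup.zpowers_le).mpr hcN) ((Subgroup.zpowers_le).mpr hdN)
      have hKp : IsPGroup p K := by
        intro k
        refine ⟨1, ?_⟩
        apply Subtype.ext
        rw [pow_one]
        simpa using hexp _ (hKN k.2)
      obtain ⟨j, hj⟩ := IsPGroup.iff_card.mp hKp
      have hlt : Nat.card (Subgroup.zpowers c) < Nat.card K := by
        by_contra hge
        push Not at hge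
        have := Subgroup.eq_of_le_of_card_ge (le_sup_left : Subgroup.zpowers c ≤ K) hge
        apply hcon
        rw [this]
        exact le_sup_right (a := Subgroup.zpowers c) (Subgroup.mem_zpowers d)
      rw [Nat.card_zpowers, hcp, hj] at hlt
      have hj2 : 2 ≤ j := by
        by_contra hj'
        push Not at hj'
        have hp1 := hp.out.one_lt
        interval_cases j
        · simp at hlt; omega
        · simp at hlt
      have : p ^ 2 ∣ Nat.card K := by rw [hj]; exact pow_dvd_pow p hj2
      exact this.trans (Subgroup.card_dvd_of_le hKL)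
    obtain ⟨k, hk⟩ := Subgroup.mem_zpowers_iff.mp hdc
    refine ⟨(k : ZMod p), ?_⟩
    rw [Int.cast_smul_eq_zsmul, ← ofMul_zpow]
    congr 1
    apply Subtype.ext
    simp [hk]
  have hfin := card_eq_prime (p := p) (V := Additive N) φ.range hΓss hirr hH
  exact hfin

end Cfsg.Agent.Lib.Helper71.S3033Aux
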