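import Mathlib

/-!
Small solvability tools: a finite group whose elements of odd order lie in a central subgroup is
solvable; a subgroup whose commutators lie in a solvable subgroup is solvable; a quotient covered
by a solvable subgroup is solvable.
-/

open scoped commutatorElement

namespace Cfsg.Agent.Lib.Helper71.SolvTools

/-- A finite group all of whose elements of odd order lie in a central subgroup is solvable. -/
theorem solvable_of_odd_central {C : Type*} [Group C] [Finite C] (Z : Subgroup C)
    (hZ : Z ≤ Subgroup.center C) (hodd : ∀ c : C, Odd (orderOf c) → c ∈ Z) :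
    Group.IsSolvable C := by
  have hZn : Z.Normal := by
    refine ⟨fun z hz c => ?_⟩
    have := Subgroup.mem_center_iff.mp (hZ hz) c
    have e : c * z * c⁻¹ = z := by rw [this, mul_inv_cancel_right]
    rw [e]; exact hz
  have h2 : IsPGroup 2 (C ⧸ Z) := by
    intro q
    obtain ⟨c, rfl⟩ := QuotientGroup.mk_surjective q
    have hpos : orderOf c ≠ 0 := (orderOf_pos c).ne'
    obtain ⟨k, r, hr, hkr⟩ := Nat.exists_eq_two_pow_mul_odd hpos
    refine ⟨k, ?_⟩
    have hord : orderOf (c ^ 2 ^ k) = r := by
      rw [orderOf_pow_of_dvd (by positivity) ⟨r, hkr⟩, hkr]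
      exact Nat.mul_div_cancel_left r (by positivity)
    have hmem := hodd (c ^ 2 ^ k) (hord ▸ hr)
    rw [← QuotientGroup.mk_pow]
    exact (QuotientGroup.eq_one_iff _).mpr hmem
  have : Fact (Nat.Prime 2) := ⟨Nat.prime_two⟩
  have hnil : Group.IsNilpotent (C ⧸ Z) := h2.isNilpotent
  have hsolvQ : Group.IsSolvable (C ⧸ Z) := inferInstance
  have hsolvZ : Group.IsSolvable Z := Group.isSolvable_of_comm (fun a b => by
    have := Subgroup.mem_center_iff.mp (hZ a.2) b
    exact Subtype.ext this.symm)
  exact Group.isSolvable_of_ker_le_range Z.subtype (QuotientGroup.mk' Z) (by simp)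

/-- A subgroup all of whose commutators lie in a solvable subgroup is solvable. -/
theorem solvable_of_commutator_mem {A : Type*} [Group A] (N C : Subgroup A)
    (hC : Group.IsSolvable C) (h : ∀ a ∈ N, ∀ b ∈ N, ⁅a, b⁆ ∈ C) : Group.IsSolvable N := by
  have hle : commutator N ≤ C.comap N.subtype := by
    rw [commutator_def, Subgroup.commutator_le]
    intro a _ b _
    exact h a a.2 b b.2
  let f : commutator N →* C :=
    { toFun := fun y => ⟨(y : N), hle y.2⟩
      map_one' := rfl
      map_mul' := fun _ _ => rfl }
  have hf : Function.Injective f := by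
    intro y y' hyy'
    have := congrArg (fun z : C => (z : A)) hyy'
    exact Subtype.ext (Subtype.ext this)
  have h1 : Group.IsSolvable (commutator N) := Group.isSolvable_of_isSolvable_injective hf
  have h2 : Group.IsSolvable (Abelianization N) := inferInstance
  exact Group.isSolvable_of_ker_le_range (commutator N).subtype (Abelianization.of)
    (by rw [Abelianization.ker_of, Subgroup.range_subtype])

/-- A quotient covered by a solvable subgroup is solvable. -/
theorem solvable_quotient_of_cover {A : Type*} [Group A] (I : Subgroup A) [I.Normal]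
    (N : Subgroup A) (hN : Group.IsSolvable N)
    (h : ∀ a : A, ∃ i ∈ I, ∃ n ∈ N, a = i * n) : Group.IsSolvable (A ⧸ I) := by
  have hs : Function.Surjective ((QuotientGroup.mk' I).comp N.subtype) := by
    intro q
    obtain ⟨a, rfl⟩ := QuotientGroup.mk_surjective q
    obtain ⟨i, hi, n, hn, rfl⟩ := h a
    refine ⟨⟨n, hn⟩, ?_⟩
    simp only [MonoidHom.coe_comp, Function.comp_apply, Subgroup.subtype_apply,
      QuotientGroup.mk'_apply]
    rw [QuotientGroup.eq]
    have : n⁻¹ * (i * n) = n⁻¹ * i * n := by group
    rw [this]
    have := Subgroup.Normal.conj_mem (inferInstance : I.Normal) i hi n⁻¹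
    simpa using this
  exact Group.isSolvable_of_surjective hs

end Cfsg.Agent.Lib.Helper71.SolvTools
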