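import Mathlib

/-!
Number theory and matrix algebra behind the theorem on automorphisms of odd order of doubly
transitive groups: an `n × n` integer matrix `M` with constant row and column sums `k`,
`M Mᵀ = (k - λ) I + λ J` and `M ^ m = a I + b J` with `m` odd and `gcd(k, n) = 1` has
`k = 1` or `k = n - 1`.
-/

namespace Cfsg.Agent.Lib.Helper71.TwoTransNT

/-- If `ν ^ m = a ^ 2` with `m` odd then `ν = t ^ 2` and `a = t ^ m` for some integer `t`. -/
theorem exists_root (ν a : ℤ) (m : ℕ) (hm : Odd m) (h : a ^ 2 = ν ^ m) :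
    ∃ t : ℤ, ν = t ^ 2 ∧ a = t ^ m := by
  obtain ⟨s, rfl⟩ := hm
  by_cases hν : ν = 0
  · subst hν
    refine ⟨0, by simp, ?_⟩
    have : a ^ 2 = 0 := by rw [h]; simp
    have ha : a = 0 := by simpa using this
    rw [ha]; simp
  · have h1 : (ν ^ s) ^ 2 * ν = a ^ 2 := by rw [h]; ring
    have h2 : (ν ^ s) ^ 2 ∣ a ^ 2 := ⟨ν, h1.symm⟩
    have h3 : ν ^ s ∣ a := (Int.pow_dvd_pow_iff (by norm_num)).mp h2
    obtain ⟨t, ht⟩ := h3
    have hs : ν ^ s ≠ 0 := pow_ne_zero _ hν
    have h4 : (ν ^ s) ^ 2 * ν = (ν ^ s) ^ 2 * t ^ 2 := by rw [h1, ht]; ring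
    have h5 : ν = t ^ 2 := mul_left_cancel₀ (pow_ne_zero 2 hs) h4
    refine ⟨t, h5, ?_⟩
    rw [ht]
    have : ν ^ s = t ^ (2 * s) := by rw [pow_mul, ← h5]
    rw [this]; ring

/-- The arithmetic core. -/
theorem nt_core (n k m : ℕ) (a b lam : ℤ) (hm : Odd m) (hn : 2 ≤ n) (hk1 : 1 ≤ k) (hkn : k ≤ n)
    (hcop : k.Coprime n) (hlam0 : 0 ≤ lam) (h1 : a ^ 2 = ((k : ℤ) - lam) ^ m)
    (h2 : a + b * n = (k : ℤ) ^ m) (h3 : ((k : ℤ) - lam) + lam * n = (k : ℤ) ^ 2) :
    k = 1 ∨ k + 1 = n := by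
  obtain ⟨t, hν, ha⟩ := exists_root _ _ _ hm h1
  obtain ⟨s, hs⟩ := hm
  have hkn' : k < n := by
    rcases lt_or_eq_of_le hkn with h | h
    · exact h
    · exfalso
      rw [h, Nat.coprime_self] at hcop
      omega
  -- congruences modulo n
  have e1 : t ^ 2 ≡ (k : ℤ) ^ 2 [ZMOD n] := by
    rw [Int.modEq_iff_dvd]
    exact ⟨lam, by rw [← h3, hν]; ring⟩
  have e2 : t ^ m ≡ (k : ℤ) ^ m [ZMOD n] := by
    rw [Int.modEq_iff_dvd]
    exact ⟨b, by rw [← h2, ha]; ring⟩
  have e3 : t ^ (2 * s) ≡ (k : ℤ) ^ (2 * s) [ZMOD n] := by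
    rw [pow_mul, pow_mul]; exact e1.pow s
  have e4 : t * (k : ℤ) ^ (2 * s) ≡ (k : ℤ) * (k : ℤ) ^ (2 * s) [ZMOD n] := by
    have : t * t ^ (2 * s) ≡ (k : ℤ) * (k : ℤ) ^ (2 * s) [ZMOD n] := by
      have e : t * t ^ (2 * s) = t ^ m := by rw [hs]; ring
      have e' : (k : ℤ) * (k : ℤ) ^ (2 * s) = (k : ℤ) ^ m := by rw [hs]; ring
      rw [e, e']; exact e2
    exact ((e3.symm.mul_left t)).trans this
  have h5 : (n : ℤ) ∣ ((k : ℤ) - t) * (k : ℤ) ^ (2 * s) := by
    have := (Int.modEq_iff_dvd.mp e4)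
    rwa [← sub_mul] at this
  have hg : Int.gcd (n : ℤ) ((k : ℤ) ^ (2 * s)) = 1 := by
    have : ((k : ℤ) ^ (2 * s)) = ((k ^ (2 * s) : ℕ) : ℤ) := by push_cast; rfl
    rw [this, Int.gcd_natCast_natCast]
    exact (Nat.Coprime.pow_right _ hcop.symm)
  have h6 : (n : ℤ) ∣ (k : ℤ) - t := Int.dvd_of_dvd_mul_left_of_gcd_one h5 hg
  obtain ⟨c, hc⟩ := h6
  -- size bounds
  have hk0 : (1 : ℤ) ≤ k := by exact_mod_cast hk1
  have hnk : (k : ℤ) < n := by exact_mod_cast hkn'
  have ht2 : t ^ 2 ≤ k := by rw [← hν]; linarith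
  have htk : t ≤ k := by nlinarith
  have htk' : -(k : ℤ) ≤ t := by nlinarith
  have hn0 : (0 : ℤ) < n := by linarith
  have hc0 : 0 ≤ c := by
    by_contra hneg
    push Not at hneg
    have : c ≤ -1 := by omega
    nlinarith
  have hc2 : c < 2 := by
    by_contra hge
    push Not at hge
    nlinarith
  have hc01 : c = 0 ∨ c = 1 := by omega
  rcases hc01 with rfl | rfl
  · left
    have : t = k := by linarith
    rw [this] at ht2
    have : (k : ℤ) ≤ 1 := by nlinarith
    have : (k : ℤ) = 1 := le_antisymm this hk0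
    exact_mod_cast this
  · right
    have ht : t = (k : ℤ) - n := by linarith
    -- λ n = k^2 - (n-k)^2 = (2k - n) n
    have hl : lam * n = (2 * (k : ℤ) - n) * n := by
      have : lam * n = (k : ℤ) ^ 2 - t ^ 2 := by rw [← hν]; linarith
      rw [this, ht]; ring
    have hl' : lam = 2 * (k : ℤ) - n := mul_right_cancel₀ (ne_of_gt hn0) hl
    have h7 : ((n : ℤ) - k) ^ 2 = (n : ℤ) - k := by
      have : t ^ 2 = (k : ℤ) - lam := hν.symm
      rw [ht, hl'] at this
      linarith [this]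
    have h8 : (n : ℤ) - k = 1 := by
      have hpos : (0 : ℤ) < (n : ℤ) - k := by linarith
      have : ((n : ℤ) - k) * ((n : ℤ) - k) = ((n : ℤ) - k) * 1 := by
        have h7' := h7
        rw [sq] at h7'
        rw [mul_one]; exact h7'
      exact mul_left_cancel₀ (ne_of_gt hpos) this
    have : (k : ℤ) + 1 = n := by linarith
    exact_mod_cast this


section MatrixCore

/-- The all-ones matrix. -/
def allOnes (Ω : Type*) : Matrix Ω Ω ℤ := Matrix.of fun _ _ => 1

theorem allOnes_apply {Ω : Type*} (x y : Ω) : allOnes Ω x y = 1 := rfl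

theorem allOnes_transpose {Ω : Type*} : (allOnes Ω).transpose = allOnes Ω := by
  ext x y; simp [allOnes_apply]

theorem allOnes_mul_self {Ω : Type*} [Fintype Ω] : allOnes Ω * allOnes Ω = (Fintype.card Ω : ℤ) • allOnes Ω := by
  ext x y
  simp [Matrix.mul_apply, allOnes_apply]

variable {Ω : Type*} [Fintype Ω] [DecidableEq Ω]

theorem pow_mul_allOnes (M : Matrix Ω Ω ℤ) (k : ℤ) (h : M * allOnes Ω = k • allOnes Ω) (j : ℕ) :
    M ^ j * allOnes Ω = k ^ j • allOnes Ω := by
  induction j with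
  | zero => simp
  | succ j ih =>
    rw [pow_succ, Matrix.mul_assoc, h, Matrix.mul_smul, ih, smul_smul, pow_succ']

theorem allOnes_mul_pow (M : Matrix Ω Ω ℤ) (k : ℤ) (h : allOnes Ω * M = k • allOnes Ω) (j : ℕ) :
    allOnes Ω * M ^ j = k ^ j • allOnes Ω := by
  induction j with
  | zero => simp
  | succ j ih =>
    rw [pow_succ', ← Matrix.mul_assoc, h, Matrix.smul_mul, ih, smul_smul, pow_succ']

theorem pow_mul_pow_transpose (M : Matrix Ω Ω ℤ) (k ν lam : ℤ)
    (hMJ : M * allOnes Ω = k • allOnes Ω) (hJMt : allOnes Ω * M.transpose = k • allOnes Ω)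
    (hN : M * M.transpose = ν • (1 : Matrix Ω Ω ℤ) + lam • allOnes Ω) (j : ℕ) :
    ∃ c : ℤ, M ^ j * M.transpose ^ j = ν ^ j • (1 : Matrix Ω Ω ℤ) + c • allOnes Ω := by
  induction j with
  | zero => exact ⟨0, by simp⟩
  | succ j ih =>
    obtain ⟨c, hc⟩ := ih
    refine ⟨ν * c + lam * (k ^ j * k ^ j), ?_⟩
    have e1 : M ^ (j + 1) * M.transpose ^ (j + 1)
        = M ^ j * (M * M.transpose) * M.transpose ^ j := by
      rw [pow_succ, pow_succ']
      simp only [Matrix.mul_assoc]
    rw [e1, hN, Matrix.mul_add, Matrix.add_mul, Matrix.mul_smul, Matrix.smul_mul, Matrix.mul_one,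
      hc, Matrix.mul_smul, Matrix.smul_mul, pow_mul_allOnes M k hMJ j, Matrix.smul_mul,
      allOnes_mul_pow M.transpose k hJMt j]
    ext x y
    simp only [Matrix.add_apply, Matrix.smul_apply, smul_eq_mul, allOnes_apply, Matrix.one_apply]
    split_ifs <;> ring

/-- The matrix core: from the structure of `M`, `M Mᵀ` and `M ^ m` to three scalar identities. -/
theorem matrix_core (M : Matrix Ω Ω ℤ) (k lam a b : ℤ) (m : ℕ)
    (hrow : ∀ x, ∑ y, M x y = k) (hcol : ∀ y, ∑ x, M x y = k)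
    (hNd : ∀ x, ∑ y, M x y * M x y = k) (hNo : ∀ x x', x ≠ x' → ∑ y, M x y * M x' y = lam)
    (hWd : ∀ x, (M ^ m) x x = a + b) (hWo : ∀ x y, x ≠ y → (M ^ m) x y = b)
    (x0 y0 : Ω) (hxy : x0 ≠ y0) :
    a ^ 2 = (k - lam) ^ m ∧ a + b * (Fintype.card Ω) = k ^ m ∧
      (k - lam) + lam * Fintype.card Ω = k ^ 2 := by
  have hMJ : M * allOnes Ω = k • allOnes Ω := by
    ext x y
    simp [Matrix.mul_apply, allOnes_apply, hrow]
  have hJMt : allOnes Ω * M.transpose = k • allOnes Ω := by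
    ext x y
    simp [Matrix.mul_apply, allOnes_apply, hrow]
  have hMtJ : M.transpose * allOnes Ω = k • allOnes Ω := by
    ext x y
    simp [Matrix.mul_apply, allOnes_apply, hcol]
  have hN : M * M.transpose = (k - lam) • (1 : Matrix Ω Ω ℤ) + lam • allOnes Ω := by
    ext x y
    simp only [Matrix.mul_apply, Matrix.transpose_apply, Matrix.add_apply, Matrix.smul_apply,
      smul_eq_mul, allOnes_apply, Matrix.one_apply]
    by_cases h : x = y
    · subst h
      rw [hNd x]; simp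
    · rw [hNo x y h]; simp [h]
  have hW : M ^ m = a • (1 : Matrix Ω Ω ℤ) + b • allOnes Ω := by
    ext x y
    simp only [Matrix.add_apply, Matrix.smul_apply, smul_eq_mul, allOnes_apply, Matrix.one_apply]
    by_cases h : x = y
    · subst h
      rw [hWd x]; simp
    · rw [hWo x y h]; simp [h]
  have hWt : M.transpose ^ m = a • (1 : Matrix Ω Ω ℤ) + b • allOnes Ω := by
    rw [← Matrix.transpose_pow, hW, Matrix.transpose_add, Matrix.transpose_smul,
      Matrix.transpose_smul, Matrix.transpose_one, allOnes_transpose]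
  obtain ⟨c, hc⟩ := pow_mul_pow_transpose M k (k - lam) lam hMJ hJMt hN m
  refine ⟨?_, ?_, ?_⟩
  · rw [hW, hWt] at hc
    have hd := congrFun (congrFun hc x0) x0
    have ho := congrFun (congrFun hc x0) y0
    simp only [Matrix.mul_apply, Matrix.add_apply, Matrix.smul_apply, smul_eq_mul, allOnes_apply,
      Matrix.one_apply] at hd ho
    -- expand the products entrywise
    have key : ∀ x y : Ω, ∑ z, (a * (if x = z then 1 else 0) + b * 1) *
        (a * (if z = y then 1 else 0) + b * 1)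
        = a ^ 2 * (if x = y then 1 else 0) + 2 * a * b + b ^ 2 * Fintype.card Ω := by
      intro x y
      have : ∀ z, (a * (if x = z then (1:ℤ) else 0) + b * 1) *
          (a * (if z = y then 1 else 0) + b * 1)
          = a ^ 2 * ((if x = z then (1:ℤ) else 0) * (if z = y then 1 else 0))
            + a * b * (if x = z then 1 else 0) + a * b * (if z = y then 1 else 0) + b ^ 2 := by
        intro z; ring
      simp only [this, Finset.sum_add_distrib, ← Finset.mul_sum]
      have s1 : ∑ z, ((if x = z then (1:ℤ) else 0) * (if z = y then 1 else 0))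
          = if x = y then 1 else 0 := by
        simp
      have s2 : ∑ z, (if x = z then (1:ℤ) else 0) = 1 := by simp
      have s3 : ∑ z, (if z = y then (1:ℤ) else 0) = 1 := by simp
      rw [s1, s2, s3]
      simp
      ring
    rw [key] at hd ho
    simp only [if_true, if_neg hxy] at hd ho
    linarith
  · have h1 := pow_mul_allOnes M k hMJ m
    rw [hW, Matrix.add_mul, Matrix.smul_mul, Matrix.smul_mul, Matrix.one_mul, allOnes_mul_self] at h1
    have := congrFun (congrFun h1 x0) y0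
    simp only [Matrix.add_apply, Matrix.smul_apply, smul_eq_mul, allOnes_apply] at this
    linarith
  · have h1 : M * M.transpose * allOnes Ω = (k * k) • allOnes Ω := by
      rw [Matrix.mul_assoc, hMtJ, Matrix.mul_smul, hMJ, smul_smul]
    rw [hN, Matrix.add_mul, Matrix.smul_mul, Matrix.smul_mul, Matrix.one_mul, allOnes_mul_self] at h1
    have := congrFun (congrFun h1 x0) y0
    simp only [Matrix.add_apply, Matrix.smul_apply, smul_eq_mul, allOnes_apply] at this
    linarith

end MatrixCore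

end Cfsg.Agent.Lib.Helper71.TwoTransNT
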