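import Mathlib
import Cfsg.Agent.Lib.Helper71.TwoTransNT

/-!
Automorphisms of odd order of doubly transitive groups.

`Γ` acts doubly transitively on the finite set `Ω`, `α` is an automorphism of `Γ` of odd order and
`Δ` is a subset of `Ω` invariant under `α (Γ_o)` whose size is coprime to `|Ω|`.  Then `|Δ| = 1` or
`|Δ| = |Ω| - 1` (`card_eq_one_or`).  If `α (Γ_o)` fixes a point, `α` is induced by a permutation of
`Ω` (`exists_perm`).
-/

open MulAction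

namespace Cfsg.Agent.Lib.Helper71.TwoTransAut

open Cfsg.Agent.Lib.Helper71.TwoTransNT

variable {Γ Ω : Type*} [Group Γ] [MulAction Γ Ω]

/-- The twisted block of `y = g • o`: the set `α g • Δ`. -/
def blk (α : MulAut Γ) (o : Ω) (Δ : Set Ω) (y : Ω) : Set Ω :=
  {x | ∃ g : Γ, g • o = y ∧ (α g)⁻¹ • x ∈ Δ}

theorem mem_blk (α : MulAut Γ) (o : Ω) (Δ : Set Ω)
    (hΔ : ∀ h ∈ stabilizer Γ o, ∀ z ∈ Δ, α h • z ∈ Δ) (g : Γ) (x : Ω) :
    x ∈ blk α o Δ (g • o) ↔ (α g)⁻¹ • x ∈ Δ := by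
  constructor
  · rintro ⟨g', hg', hx⟩
    have hmem : g⁻¹ * g' ∈ stabilizer Γ o := by
      rw [mem_stabilizer_iff, mul_smul, hg', inv_smul_smul]
    have := hΔ _ hmem _ hx
    rwa [map_mul, map_inv, mul_smul, smul_inv_smul] at this
  · intro hx
    exact ⟨g, rfl, hx⟩

open Classical in
/-- The twisted incidence matrix. -/
noncomputable def tmat (α : MulAut Γ) (o : Ω) (Δ : Set Ω) : Matrix Ω Ω ℤ :=
  Matrix.of fun x y => if x ∈ blk α o Δ y then 1 else 0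

open Classical in
theorem tmat_apply (α : MulAut Γ) (o : Ω) (Δ : Set Ω) (x y : Ω) :
    tmat α o Δ x y = if x ∈ blk α o Δ y then 1 else 0 := rfl

theorem tmat_mul_self (α : MulAut Γ) (o : Ω) (Δ : Set Ω) (x y : Ω) :
    tmat α o Δ x y * tmat α o Δ x y = tmat α o Δ x y := by
  rw [tmat_apply]; split_ifs <;> simp

theorem tmat_nonneg (α : MulAut Γ) (o : Ω) (Δ : Set Ω) (x y : Ω) : 0 ≤ tmat α o Δ x y := by
  rw [tmat_apply]; split_ifs <;> simp

theorem tmat_smul [IsPretransitive Γ Ω] (α : MulAut Γ) (o : Ω) (Δ : Set Ω)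
    (hΔ : ∀ h ∈ stabilizer Γ o, ∀ z ∈ Δ, α h • z ∈ Δ) (g : Γ) (x y : Ω) :
    tmat α o Δ (α g • x) (g • y) = tmat α o Δ x y := by
  classical
  obtain ⟨g0, rfl⟩ := exists_smul_eq Γ o y
  have e : (α (g * g0))⁻¹ • α g • x = (α g0)⁻¹ • x := by
    rw [map_mul, mul_inv_rev, mul_smul, inv_smul_smul]
  have h1 : α g • x ∈ blk α o Δ (g • g0 • o) ↔ x ∈ blk α o Δ (g0 • o) := by
    rw [← mul_smul, mem_blk α o Δ hΔ, mem_blk α o Δ hΔ, e]
  rw [tmat_apply, tmat_apply]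
  exact if_congr h1 rfl rfl

section Fin

variable [Fintype Ω]

theorem tmat_col_sum [IsPretransitive Γ Ω] (α : MulAut Γ) (o : Ω) (Δ : Set Ω)
    (hΔ : ∀ h ∈ stabilizer Γ o, ∀ z ∈ Δ, α h • z ∈ Δ) (y : Ω) :
    ∑ x, tmat α o Δ x y = (Nat.card Δ : ℤ) := by
  classical
  obtain ⟨g0, rfl⟩ := exists_smul_eq Γ o y
  simp only [tmat_apply, mem_blk α o Δ hΔ]
  have := Equiv.sum_comp (MulAction.toPerm (α g0)⁻¹) (fun z : Ω => if z ∈ Δ then (1 : ℤ) else 0)
  simp only [MulAction.toPerm_apply] at this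
  rw [this, Finset.sum_boole, Nat.card_eq_fintype_card, Fintype.card_subtype]

theorem tmat_row_sum [IsPretransitive Γ Ω] (α : MulAut Γ) (o : Ω) (Δ : Set Ω)
    (hΔ : ∀ h ∈ stabilizer Γ o, ∀ z ∈ Δ, α h • z ∈ Δ) (x : Ω) :
    ∑ y, tmat α o Δ x y = (Nat.card Δ : ℤ) := by
  classical
  have h1 : ∀ (g : Γ) (x : Ω), ∑ y, tmat α o Δ (α g • x) y = ∑ y, tmat α o Δ x y := by
    intro g x
    rw [← Equiv.sum_comp (MulAction.toPerm g)]
    apply Finset.sum_congr rfl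
    intro y _
    rw [MulAction.toPerm_apply, tmat_smul α o Δ hΔ]
  have h2 : ∀ x' : Ω, ∑ y, tmat α o Δ x' y = ∑ y, tmat α o Δ x y := by
    intro x'
    obtain ⟨γ, rfl⟩ := exists_smul_eq Γ x x'
    have := h1 (α.symm γ) x
    rwa [MulEquiv.apply_symm_apply] at this
  have h3 : ∑ x' : Ω, ∑ y, tmat α o Δ x' y = (Fintype.card Ω : ℤ) * (Nat.card Δ : ℤ) := by
    calc ∑ x' : Ω, ∑ y, tmat α o Δ x' y = ∑ y, ∑ x' : Ω, tmat α o Δ x' y := Finset.sum_comm
      _ = ∑ _y : Ω, (Nat.card Δ : ℤ) :=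
          Finset.sum_congr rfl (fun y _ => tmat_col_sum α o Δ hΔ y)
      _ = _ := by simp
  have h4 : ∑ x' : Ω, ∑ y, tmat α o Δ x' y = (Fintype.card Ω : ℤ) * ∑ y, tmat α o Δ x y := by
    calc ∑ x' : Ω, ∑ y, tmat α o Δ x' y = ∑ _x' : Ω, ∑ y, tmat α o Δ x y :=
          Finset.sum_congr rfl (fun x' _ => h2 x')
      _ = _ := by simp
  have hn : (Fintype.card Ω : ℤ) ≠ 0 := by
    have : 0 < Fintype.card Ω := Fintype.card_pos_iff.mpr ⟨x⟩
    exact_mod_cast this.ne'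
  exact mul_left_cancel₀ hn (h4.symm.trans h3)

theorem gram_smul [IsPretransitive Γ Ω] (α : MulAut Γ) (o : Ω) (Δ : Set Ω)
    (hΔ : ∀ h ∈ stabilizer Γ o, ∀ z ∈ Δ, α h • z ∈ Δ) (γ : Γ) (x x' : Ω) :
    ∑ y, tmat α o Δ (γ • x) y * tmat α o Δ (γ • x') y = ∑ y, tmat α o Δ x y * tmat α o Δ x' y := by
  have key : ∀ g : Γ, ∑ y, tmat α o Δ (α g • x) y * tmat α o Δ (α g • x') y
      = ∑ y, tmat α o Δ x y * tmat α o Δ x' y := by
    intro g
    rw [← Equiv.sum_comp (MulAction.toPerm g)]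
    apply Finset.sum_congr rfl
    intro y _
    rw [MulAction.toPerm_apply, tmat_smul α o Δ hΔ, tmat_smul α o Δ hΔ]
  have := key (α.symm γ)
  rwa [MulEquiv.apply_symm_apply] at this

variable [DecidableEq Ω]

theorem tmat_pow_smul [IsPretransitive Γ Ω] (α : MulAut Γ) (o : Ω) (Δ : Set Ω)
    (hΔ : ∀ h ∈ stabilizer Γ o, ∀ z ∈ Δ, α h • z ∈ Δ) (j : ℕ) :
    ∀ (g : Γ) (x y : Ω), (tmat α o Δ ^ j) ((α ^ j) g • x) (g • y) = (tmat α o Δ ^ j) x y := by
  induction j with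
  | zero =>
    intro g x y
    simp [Matrix.one_apply]
  | succ j ih =>
    intro g x y
    rw [pow_succ, Matrix.mul_apply, Matrix.mul_apply, ← Equiv.sum_comp (MulAction.toPerm (α g))]
    apply Finset.sum_congr rfl
    intro z _
    have e : (α ^ (j + 1)) g = (α ^ j) (α g) := by rw [pow_succ, MulAut.mul_apply]
    rw [MulAction.toPerm_apply, e, ih (α g) x z, tmat_smul α o Δ hΔ]

/-- The main theorem on sizes. -/
theorem card_eq_one_or (h2 : IsMultiplyPretransitive Γ Ω 2) (o : Ω) (α : MulAut Γ)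
    (hα : Odd (orderOf α)) (Δ : Set Ω) (hne : Δ.Nonempty)
    (hΔ : ∀ h ∈ stabilizer Γ o, ∀ z ∈ Δ, α h • z ∈ Δ)
    (hcop : (Nat.card Δ).Coprime (Fintype.card Ω)) :
    Nat.card Δ = 1 ∨ Nat.card Δ + 1 = Fintype.card Ω := by
  classical
  have : IsPretransitive Γ Ω := @isPretransitive_of_is_two_pretransitive Γ Ω _ _ h2
  have h2' : ∀ {a b c d : Ω}, a ≠ b → c ≠ d → ∃ g : Γ, g • a = c ∧ g • b = d :=
    is_two_pretransitive_iff.mp h2
  have hk1 : 1 ≤ Nat.card Δ := by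
    obtain ⟨z, hz⟩ := hne
    have : Nonempty Δ := ⟨⟨z, hz⟩⟩
    exact Nat.one_le_iff_ne_zero.mpr (Nat.card_ne_zero.mpr ⟨inferInstance, inferInstance⟩)
  have hkn : Nat.card Δ ≤ Fintype.card Ω := by
    rw [Nat.card_eq_fintype_card]
    exact Fintype.card_subtype_le _
  by_cases hn : 2 ≤ Fintype.card Ω
  swap
  · left; omega
  -- two distinct points
  obtain ⟨x0, y0, hxy⟩ : ∃ x0 y0 : Ω, x0 ≠ y0 := by
    have : 1 < Fintype.card Ω := hn
    exact Fintype.one_lt_card_iff.mp this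
  set M := tmat α o Δ with hM
  set m := orderOf α with hm
  have hαm : α ^ m = 1 := pow_orderOf_eq_one α
  have hinv : ∀ (g : Γ) (x y : Ω), (M ^ m) (g • x) (g • y) = (M ^ m) x y := by
    intro g x y
    have := tmat_pow_smul α o Δ hΔ m g x y
    rwa [hαm, MulAut.one_apply] at this
  have hWd : ∀ x, (M ^ m) x x = ((M ^ m) x0 x0 - (M ^ m) x0 y0) + (M ^ m) x0 y0 := by
    intro x
    obtain ⟨g, rfl⟩ := exists_smul_eq Γ x0 x
    rw [hinv]; ring
  have hWo : ∀ x y, x ≠ y → (M ^ m) x y = (M ^ m) x0 y0 := by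
    intro x y hne'
    obtain ⟨g, rfl, rfl⟩ := h2' hxy hne'
    rw [hinv]
  have hNd : ∀ x, ∑ y, M x y * M x y = (Nat.card Δ : ℤ) := by
    intro x
    simp only [hM, tmat_mul_self]
    exact tmat_row_sum α o Δ hΔ x
  have hNo : ∀ x x', x ≠ x' → ∑ y, M x y * M x' y = ∑ y, M x0 y * M y0 y := by
    intro x x' hne'
    obtain ⟨g, rfl, rfl⟩ := h2' hxy hne'
    exact gram_smul α o Δ hΔ g x0 y0
  have hlam0 : 0 ≤ ∑ y, M x0 y * M y0 y :=
    Finset.sum_nonneg fun y _ => mul_nonneg (tmat_nonneg _ _ _ _ _) (tmat_nonneg _ _ _ _ _)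
  obtain ⟨c1, c2, c3⟩ := matrix_core M (Nat.card Δ : ℤ) (∑ y, M x0 y * M y0 y)
    ((M ^ m) x0 x0 - (M ^ m) x0 y0) ((M ^ m) x0 y0) m
    (tmat_row_sum α o Δ hΔ) (tmat_col_sum α o Δ hΔ) hNd hNo hWd hWo x0 y0 hxy
  exact nt_core (Fintype.card Ω) (Nat.card Δ) m _ _ _ hα hn hk1 hkn hcop hlam0 c1 c2 c3

end Fin

/-- If `α (Γ_o)` fixes the point `ω'`, then `α` is induced by a permutation of `Ω`. -/
theorem exists_perm [Finite Ω] [IsPretransitive Γ Ω] (o ω' : Ω) (α : MulAut Γ)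
    (hfix : ∀ h ∈ stabilizer Γ o, α h • ω' = ω') :
    ∃ σ : Equiv.Perm Ω, ∀ (g : Γ) (x : Ω), σ (g • x) = α g • σ x := by
  classical
  choose f hf using fun y : Ω => exists_smul_eq Γ o y
  let σ0 : Ω → Ω := fun y => α (f y) • ω'
  have key : ∀ g : Γ, σ0 (g • o) = α g • ω' := by
    intro g
    have hmem : g⁻¹ * f (g • o) ∈ stabilizer Γ o := by
      rw [mem_stabilizer_iff, mul_smul, hf, inv_smul_smul]
    have := hfix _ hmem
    rw [map_mul, map_inv, mul_smul, inv_smul_eq_iff] at this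
    exact this
  have hσ : ∀ (g : Γ) (x : Ω), σ0 (g • x) = α g • σ0 x := by
    intro g x
    have hx : x = f x • o := (hf x).symm
    conv_lhs => rw [hx, ← mul_smul, key, map_mul, mul_smul]
  have hsurj : Function.Surjective σ0 := by
    intro z
    obtain ⟨γ, rfl⟩ := exists_smul_eq Γ ω' z
    refine ⟨α.symm γ • o, ?_⟩
    rw [key, MulEquiv.apply_symm_apply]
  have hinj : Function.Injective σ0 := Finite.injective_iff_surjective.mpr hsurj
  exact ⟨Equiv.ofBijective σ0 ⟨hinj, hsurj⟩, fun g x => hσ g x⟩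

/-- A fixed point of `α (Γ_o)` from the size of an invariant set. -/
theorem exists_fixed [Fintype Ω] (o : Ω) (α : MulAut Γ) (Δ : Set Ω) (hne : Δ.Nonempty)
    (hΔ : ∀ h ∈ stabilizer Γ o, ∀ z ∈ Δ, α h • z ∈ Δ)
    (hcard : Nat.card Δ = 1 ∨ Nat.card Δ + 1 = Fintype.card Ω) :
    ∃ ω' : Ω, ∀ h ∈ stabilizer Γ o, α h • ω' = ω' := by
  classical
  rcases hcard with h1 | h1
  · obtain ⟨z, hz⟩ := hne
    obtain ⟨w, hw⟩ := Nat.card_eq_one_iff_exists.mp h1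
    refine ⟨z, fun h hh => ?_⟩
    have e1 := hw ⟨_, hΔ h hh z hz⟩
    have e2 := hw ⟨z, hz⟩
    have := congrArg Subtype.val (e1.trans e2.symm)
    exact this
  · have hc : Δᶜ.ncard = 1 := by
      have := Set.ncard_add_ncard_compl Δ
      rw [Nat.card_coe_set_eq] at h1
      rw [Nat.card_eq_fintype_card] at this
      omega
    obtain ⟨ω', hω'⟩ := Set.ncard_eq_one.mp hc
    refine ⟨ω', fun h hh => ?_⟩
    have hnot : α h • ω' ∉ Δ := by
      intro hmem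
      have := hΔ h⁻¹ (inv_mem hh) _ hmem
      rw [map_inv, inv_smul_smul] at this
      have h' : ω' ∈ Δᶜ := by rw [hω']; exact Set.mem_singleton _
      exact h' this
    have : α h • ω' ∈ Δᶜ := hnot
    rw [hω'] at this
    exact this

end Cfsg.Agent.Lib.Helper71.TwoTransAut
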